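import Cfsg.Agent.CTwoTab.Restr
import Cfsg.Agent.H283.NoIn
import Cfsg.Agent.CpAut.TwoTool
import Cfsg.Prelude.Def_KGroupFacts
import Cfsg.Agent.Prune
set_option linter.all false
prune_inst 0x7f00000000000000000000000000000000000000000000000000000000000000000000000000000000000000000000000000000000000000000000000000000000000000000000000000000000000000003fffffffffffffffffffffffffffbeffbdffffffff
open scoped Cfsg.Agent.FastGrp

/-!
# Orders of the components of the centralizers of involutory automorphisms: tools (helper287)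

* `HCard S H` : every component `K` of `H` satisfies `S |K| |K / Z(K)|`;
* `FixCard S X` : `HCard S (C_X(x))` for every involutory automorphism `x` of `X` (inner or outer);
* `FixCard.of_equiv`, `FixCard.mk` (inner part from `CTwoTab.CompCard`), `FixCard.of_inner` (`Out(X) = 1`);
* `compCard_of_ct` : `X` of characteristic 2 type has no components in the centralizers of the involutions;
* `HCard.of_normal`, `HCard.of_solvable`, `HCard.of_ct`, `HCard.of_quasisimple`, `HCard.of_comp`.
-/

set_option autoImplicit false

namespace Cfsg.Agent.H287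

open Subgroup Cfsg
open Cfsg.Agent.CTwoTab
open Cfsg.Agent.CpAut
open Cfsg.Agent.SignalizersComponents.Components

universe u v

/-- the orders of the components `K` of `H` and of `K / Z(K)` satisfy `S` -/
def HCard (S : ℕ → ℕ → Prop) (H : Type*) [Group H] : Prop :=
  ∀ K : Subgroup H, IsComponent K → S (Nat.card ↥K) (Nat.card (↥K ⧸ center ↥K))

/-- for every involutory automorphism `x` (inner or outer) of `X`, the orders of the components `K` of `C_X(x)`
and of `K / Z(K)` satisfy `S` -/
def FixCard (S : ℕ → ℕ → Prop) (X : Type*) [Group X] : Prop :=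
  ∀ x : MulAut X, orderOf x = 2 → HCard S ↥(fixedSubgroup x)

/-- the same for the outer involutory automorphisms -/
def OutCard (S : ℕ → ℕ → Prop) (X : Type*) [Group X] : Prop :=
  ∀ x : MulAut X, orderOf x = 2 → (¬ ∃ g : X, x = MulAut.conj g) → HCard S ↥(fixedSubgroup x)

/-- the empty list: there are no components -/
def NoC (_ _ : ℕ) : Prop := False

section basic

variable {S T : ℕ → ℕ → Prop}

theorem HCard.mono {H : Type*} [Group H] (hST : ∀ n m, S n m → T n m) (h : HCard S H) : HCard T H :=
  fun K hK => hST _ _ (h K hK)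

theorem HCard.congr {H : Type u} {H' : Type v} [Group H] [Group H'] (e : H ≃* H') (h : HCard S H) : HCard S H' := by
  intro K hK
  have h2 := h _ (isComponent_map_equiv e.symm hK)
  rwa [← Nat.card_congr (subMap e.symm K).toEquiv, ← Nat.card_congr (quoEquiv (subMap e.symm K)).toEquiv] at h2

theorem card_subgroupOf {X : Type u} [Group X] {K C : Subgroup X} (h : K ≤ C) :
    Nat.card ↥(K.subgroupOf C) = Nat.card ↥K ∧
      Nat.card (↥(K.subgroupOf C) ⧸ center ↥(K.subgroupOf C)) = Nat.card (↥K ⧸ center ↥K) :=
  ⟨Nat.card_congr (subgroupOfEquivOfLe h).toEquiv, Nat.card_congr (quoEquiv (subgroupOfEquivOfLe h)).toEquiv⟩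

theorem HCard.comp {X : Type u} [Group X] {K C : Subgroup X} (h : HCard S ↥C) (hK : IsComponentOf K C) :
    S (Nat.card ↥K) (Nat.card (↥K ⧸ center ↥K)) := by
  have h1 := h _ hK.2
  rwa [(card_subgroupOf hK.1).1, (card_subgroupOf hK.1).2] at h1

theorem map_subgroupOf {X : Type u} [Group X] {C : Subgroup X} (K : Subgroup ↥C) :
    (K.map C.subtype).subgroupOf C = K := by
  rw [subgroupOf, comap_map_eq_self_of_injective C.subtype_injective]

theorem HCard.of_comp {X : Type u} [Group X] {C : Subgroup X}
    (h : ∀ K : Subgroup X, IsComponentOf K C → S (Nat.card ↥K) (Nat.card (↥K ⧸ center ↥K))) : HCard S ↥C := by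
  intro K hK
  have h1 : K.map C.subtype ≤ C := map_subtype_le K
  have h2 := h (K.map C.subtype) ⟨h1, by rwa [map_subgroupOf]⟩
  rw [← (card_subgroupOf h1).1, ← (card_subgroupOf h1).2] at h2
  rwa [map_subgroupOf] at h2

theorem HCard.of_ct {H : Type u} [Group H] [Finite H] (h : IsOfCharacteristicTwo H) : HCard S H :=
  fun K hK => absurd hK (TwoAbs.no_component_of_ct h K)

theorem HCard.of_solvable {H : Type u} [Group H] (h : Group.IsSolvable H) : HCard S H := by
  intro K hK
  exact absurd (solvable_of_le_top h K) (quasisimple_not_isSolvable hK.2)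
where
  solvable_of_le_top {H : Type u} [Group H] (h : Group.IsSolvable H) (K : Subgroup H) : Group.IsSolvable ↥K := by
    have := h
    infer_instance

/-- a component lies in every normal subgroup with solvable quotient -/
theorem comp_le_of_solvable {H : Type u} [Group H] {N K : Subgroup H} [N.Normal]
    (hs : Group.IsSolvable (H ⧸ N)) (hK : IsComponent K) : K ≤ N := by
  have h1 : Group.IsSolvable ↥(K.map (QuotientGroup.mk' N)) := by
    have := hs
    infer_instance
  have hp : ⁅K, K⁆ = K := component_commutator_self hK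
  have h2 : ⁅K.map (QuotientGroup.mk' N), K.map (QuotientGroup.mk' N)⁆ = K.map (QuotientGroup.mk' N) := by
    rw [← map_commutator, hp]
  have h3 : K.map (QuotientGroup.mk' N) = ⊥ := by
    by_contra hne
    have h4 : Nontrivial ↥(K.map (QuotientGroup.mk' N)) := (nontrivial_iff_ne_bot _).2 hne
    have h5 := Group.IsSolvable.commutator_lt_of_ne_bot (G := H ⧸ N) hne
    rw [h2] at h5
    exact lt_irrefl _ h5
  rw [Subgroup.map_eq_bot_iff, QuotientGroup.ker_mk'] at h3
  exact h3

/-- a normal subgroup with solvable quotient -/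
theorem HCard.of_normal {H : Type u} [Group H] (N : Subgroup H) [N.Normal] (hs : Group.IsSolvable (H ⧸ N))
    (h : HCard S ↥N) : HCard S H := by
  intro K hK
  have h1 := comp_le_of_solvable hs hK
  have h2 := h _ (isComponent_subgroupOf h1 hK)
  rwa [(card_subgroupOf h1).1, (card_subgroupOf h1).2] at h2

theorem HCard.of_quasisimple {H : Type u} [Group H] (h : IsQuasisimple H)
    (hS : S (Nat.card H) (Nat.card (H ⧸ center H))) : HCard S H := by
  intro K hK
  rcases quasisimple_subnormal h hK.1 with rfl | h1
  · rw [Nat.card_congr (Subgroup.topEquiv (G := H)).toEquiv,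
      Nat.card_congr (quoEquiv (Subgroup.topEquiv (G := H))).toEquiv]
    exact hS
  · exfalso
    apply quasisimple_not_isMulCommutative hK.2
    refine ⟨⟨fun a b => Subtype.ext ?_⟩⟩
    exact (mem_center_iff.1 (h1 a.2) b).symm

/-- a simple group -/
theorem HCard.of_simple {H : Type u} [Group H] [IsSimpleGroup H] (hna : ¬ IsMulCommutative H)
    (hS : S (Nat.card H) (Nat.card H)) : HCard S H := by
  refine HCard.of_quasisimple (isQuasisimple_of_simple hna) ?_
  have h1 : Nat.card (H ⧸ center H) = Nat.card H := by
    rw [CTwoTab.center_eq_bot_of_simple hna]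
    exact Nat.card_congr QuotientGroup.quotientBot.toEquiv
  rw [h1]
  exact hS

/-- only the orders of the subgroups with the same order as `C` matter -/
theorem HCard.dvd {H : Type u} [Group H] (h : HCard S H) :
    HCard (fun n m => S n m ∧ n ∣ Nat.card H ∧ m ∣ n) H := fun K hK =>
  ⟨h K hK, card_subgroup_dvd_card K, card_quotient_dvd_card (center ↥K)⟩

end basic

section fix

variable {S T : ℕ → ℕ → Prop}

theorem FixCard.comp {X : Type u} [Group X] (h : FixCard S X) {x : MulAut X} (hx : orderOf x = 2) {K : Subgroup X}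
    (hK : IsComponentOf K (fixedSubgroup x)) : S (Nat.card ↥K) (Nat.card (↥K ⧸ center ↥K)) := (h x hx).comp hK

theorem FixCard.mono {X : Type*} [Group X] (hST : ∀ n m, S n m → T n m) (h : FixCard S X) : FixCard T X :=
  fun x hx => (h x hx).mono hST

theorem OutCard.mono {X : Type*} [Group X] (hST : ∀ n m, S n m → T n m) (h : OutCard S X) : OutCard T X :=
  fun x hx ho => (h x hx ho).mono hST

theorem FixCard.of_equiv {X : Type u} {Y : Type v} [Group X] [Group Y] (e : X ≃* Y) (h : FixCard S X) :
    FixCard S Y := by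
  intro y hy
  have h1 : MulAut.congr e ((MulAut.congr e).symm y) = y := (MulAut.congr e).apply_symm_apply y
  have h2 : orderOf ((MulAut.congr e).symm y) = 2 := by rw [MulEquiv.orderOf_eq, hy]
  have h3 := (h _ h2).congr (fixEquiv e ((MulAut.congr e).symm y))
  rwa [h1] at h3

theorem OutCard.of_equiv {X : Type u} {Y : Type v} [Group X] [Group Y] (e : X ≃* Y) (h : OutCard S X) :
    OutCard S Y := by
  intro y hy hout
  have h1 : MulAut.congr e ((MulAut.congr e).symm y) = y := (MulAut.congr e).apply_symm_apply y
  have h2 : orderOf ((MulAut.congr e).symm y) = 2 := by rw [MulEquiv.orderOf_eq, hy]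
  have h3 : ¬ ∃ g : X, (MulAut.congr e).symm y = MulAut.conj g := by
    rintro ⟨g, hg⟩
    apply hout
    refine ⟨e g, ?_⟩
    rw [← h1, hg]
    ext b
    change e (g * e.symm b * g⁻¹) = e g * b * (e g)⁻¹
    rw [map_mul, map_mul, e.apply_symm_apply, map_inv]
  have h4 := (h _ h2 h3).congr (fixEquiv e ((MulAut.congr e).symm y))
  rwa [h1] at h4

/-- conjugate automorphisms -/
theorem hcard_conj_aut {X : Type u} [Group X] (a : MulAut X) {x y : MulAut X} (h : y = a * x * a⁻¹)
    (hx : HCard S ↥(fixedSubgroup x)) : HCard S ↥(fixedSubgroup y) := by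
  have h1 : MulAut.congr a x = a * x * a⁻¹ := rfl
  rw [h, ← h1]
  exact hx.congr (fixEquiv a x)

theorem hcard_conj {X : Type u} [Group X] (g : X) {x y : MulAut X} (h : y = MulAut.conj g * x * (MulAut.conj g)⁻¹)
    (hx : HCard S ↥(fixedSubgroup x)) : HCard S ↥(fixedSubgroup y) := hcard_conj_aut (MulAut.conj g) h hx

/-- the inner and the outer part -/
theorem FixCard.mk {X : Type u} [Group X] (hc : center X = ⊥) (hi : CompCard S X) (ho : OutCard S X) :
    FixCard S X := by
  intro x hx
  by_cases h : ∃ g : X, x = MulAut.conj g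
  · obtain ⟨g, rfl⟩ := h
    rw [orderOf_conj hc] at hx
    rw [fixedSubgroup_conj]
    exact HCard.of_comp (hi g hx)
  · exact ho x hx h

theorem FixCard.of_inner {X : Type u} [Group X] (hc : center X = ⊥) (h : ∀ α : MulAut X, ∃ g : X, α = MulAut.conj g)
    (hi : CompCard S X) : FixCard S X := FixCard.mk hc hi fun x _ hx => absurd (h x) hx

/-- the inner part of `FixCard` -/
theorem FixCard.compCard {X : Type u} [Group X] (hc : center X = ⊥) (h : FixCard S X) : CompCard S X := by
  intro t ht K hK
  have h1 : orderOf (MulAut.conj t) = 2 := by rw [orderOf_conj hc, ht]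
  refine h.comp h1 ?_
  rw [fixedSubgroup_conj]
  exact hK

theorem compCard_of_ct {X : Type u} [Group X] [Finite X]
    (h : ∀ u : X, orderOf u = 2 → IsOfCharacteristicTwo ↥(centralizer ({u} : Set X))) : CompCard S X :=
  fun t ht _ hK => (HCard.of_ct (h t ht)).comp hK

/-- `Out(X) = 1` and characteristic 2 type: no component -/
theorem FixCard.of_ct {X : Type u} [Group X] [Finite X] (hc : center X = ⊥)
    (hi : ∀ α : MulAut X, ∃ g : X, α = MulAut.conj g)
    (h : ∀ u : X, orderOf u = 2 → IsOfCharacteristicTwo ↥(centralizer ({u} : Set X))) : FixCard S X :=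
  FixCard.of_inner hc hi (compCard_of_ct h)

/-- `|Out(X)| = 1` -/
theorem inner_of_out {X : Type u} [Group X] (h : Nat.card (Cfsg.Out X) = 1) (α : MulAut X) :
    ∃ g : X, α = MulAut.conj g := by
  have h1 : (MulAut.conj : X →* MulAut X).range = ⊤ := Subgroup.index_eq_one.1 h
  have h2 : α ∈ (MulAut.conj : X →* MulAut X).range := by rw [h1]; exact Subgroup.mem_top _
  obtain ⟨g, hg⟩ := h2
  exact ⟨g, hg.symm⟩

end fix

end Cfsg.Agent.H287
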