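import Cfsg.Agent.CpAut.TwoTool
import Cfsg.Agent.S0493
import Cfsg.Agent.H393.Iso.J23
import Cfsg.Agent.S0494
import Cfsg.Agent.S0495
import Cfsg.Agent.S0496
import Cfsg.Agent.S0497
import Cfsg.Agent.H341.ThreeList_m3
import Cfsg.Prelude.Def_EvenType
import Cfsg.Agent.S0256
import Cfsg.Agent.KFacts.J2.Facts
import Cfsg.Agent.CpAut.Base
import Cfsg.Agent.KFacts.SuzFix
import Cfsg.Agent.KFacts.SuzInvol
import Cfsg.Agent.CTwoTab.Suz
import Cfsg.Agent.S1619
import Cfsg.Agent.S1620
import Cfsg.Agent.Lib.PermCode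
import Cfsg.Agent.Lib.PermNetFast
import Cfsg.Agent.H287.FixCard
import Cfsg.Agent.FastGrp
import Cfsg.Agent.Prune
set_option linter.all false

section
prune_inst 0x7ffdfefbbff87ddfffff7e7ffffddffdbdfeffffffdffbcbffedfbffafdf6b6fffe5fbaf9fefd8ffbef6e29eb0f87bd3fbffeeffef6bdc7ffffd5ff45ffbff9fffffbdad71febcbe1ffe6ffffbf9ffce7f3fffffffffffffffffffffffffffffffffffffffff

-- part: CpAut/TwoOuter
section
set_option linter.all false
open scoped Cfsg.Agent.FastGrp

-- merged: Cfsg.Agent.CpAutTwo.NoCover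
section

/-!
# Components with nontrivial centre (helper38)

`K` finite, `x` an automorphism with `x² = 1`, `X = C_K(x)`. If every involution `u` of `X` is `Ok`: `C_K(u)` is of
characteristic 2, or every perfect subgroup `P` of `C_K(u)` with at least 120 elements is simple and has no proper
subgroup with at least 120 elements, then the components of `X / O(X)` are simple (`simple_comp`).
-/

set_option autoImplicit false

namespace Cfsg.Agent.CpAutTwo

open Subgroup Cfsg
open Cfsg.Agent.LThree (Comps)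
open Cfsg.Agent.CpAut Cfsg.Agent.CpAut.TwoAbs

universe u v

/-- the derived series becomes stationary -/
theorem exists_stable (X : Type*) [Group X] [Finite X] : ∃ n, derivedSeries X (n + 1) = derivedSeries X n := by
  by_contra hcon
  push Not at hcon
  have h1 : ∀ n, Nat.card (derivedSeries X (n + 1)) < Nat.card (derivedSeries X n) := by
    intro n
    have h2 : derivedSeries X (n + 1) ≤ derivedSeries X n := derivedSeries_antitone X (Nat.le_succ n)
    by_contra h3
    exact hcon n (Subgroup.eq_of_le_of_card_ge h2 (not_lt.1 h3))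
  have h2 : ∀ n, Nat.card (derivedSeries X n) + n ≤ Nat.card (derivedSeries X 0) := by
    intro n
    induction n with
    | zero => simp
    | succ n ih =>
      have := h1 n
      omega
  have h3 := h2 (Nat.card (derivedSeries X 0) + 1)
  omega

/-- a non-abelian simple group has at least 60 elements -/
theorem sixty_le {S : Type*} [Group S] [Finite S] [IsSimpleGroup S] (h : ¬ IsMulCommutative S) : 60 ≤ Nat.card S := by
  by_contra hc
  have h1 : ¬ IsCyclic S := by
    intro hcy
    apply h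
    obtain ⟨g, hg⟩ := hcy.exists_generator
    refine ⟨⟨fun a b => ?_⟩⟩
    obtain ⟨m, rfl⟩ := mem_zpowers_iff.1 (hg a)
    obtain ⟨n, rfl⟩ := mem_zpowers_iff.1 (hg b)
    rw [← zpow_add, ← zpow_add, add_comm]
  have := S0493.result h1 (by omega)
  omega

/-- a quasisimple group with nontrivial centre has at least 120 elements -/
theorem card_cover {L : Type*} [Group L] [Finite L] (hL : IsQuasisimple L) (hZ : center L ≠ ⊥) :
    120 ≤ Nat.card L := by
  have hs := hL.2
  have h1 : ¬ IsMulCommutative (L ⧸ center L) := by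
    intro hc
    apply SignalizersComponents.Components.quasisimple_not_isSolvable hL
    have h2 : Group.IsSolvable (L ⧸ center L) := by
      let _ : CommGroup (L ⧸ center L) :=
        { (inferInstance : Group (L ⧸ center L)) with mul_comm := hc.is_comm.comm }
      infer_instance
    have h3 : Group.IsSolvable ↥(center L) :=
      Group.isSolvable_of_comm fun a b => Subtype.ext (mem_center_iff.1 b.2 a)
    exact Group.isSolvable_of_ker_le_range (center L).subtype (QuotientGroup.mk' (center L))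
      (by rw [QuotientGroup.ker_mk', range_subtype])
  have h2 := sixty_le h1
  have h3 : 2 ≤ Nat.card ↥(center L) := by
    have : Nat.card ↥(center L) ≠ 1 := fun h => hZ (Subgroup.card_eq_one.1 h)
    have := Nat.card_pos (α := ↥(center L))
    omega
  have h4 := Subgroup.card_eq_card_quotient_mul_card_subgroup (center L)
  rw [h4]
  calc 120 = 60 * 2 := rfl
    _ ≤ _ := Nat.mul_le_mul h2 h3

/-- the condition on an involution `u` of `K` -/
def Ok {K : Type*} [Group K] (u : K) : Prop :=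
  IsOfCharacteristicTwo ↥(centralizer ({u} : Set K)) ∨
    ∀ P : Subgroup K, P ≤ centralizer ({u} : Set K) → ⁅P, P⁆ = P → 120 ≤ Nat.card ↥P →
      IsSimpleGroup ↥P ∧ ∀ D : Subgroup K, D ≤ P → 120 ≤ Nat.card ↥D → D = P

section

variable {K : Type u} [Group K] [Finite K]

theorem map_commutator_eq {A B : Type*} [Group A] [Group B] (f : A →* B) {P : Subgroup A} (h : ⁅P, P⁆ = P) :
    ⁅P.map f, P.map f⁆ = P.map f := by
  rw [← map_commutator, h]

/-- **Components with nontrivial centre.** -/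
theorem simple_comp {x : MulAut K} (hx : x * x = 1) (hok : ∀ u : K, orderOf u = 2 → x u = u → Ok u)
    (L : Subgroup (↥(fixedSubgroup x) ⧸ pPrimeCore 2 ↥(fixedSubgroup x))) (hL : IsComponent L) :
    IsSimpleGroup ↥L := by
  have hLq := hL.2
  have hOn : (pPrimeCore 2 ↥(fixedSubgroup x)).Normal := Lib.Cores.pPrimeCore_normal 2
  by_cases hZ : center ↥L = ⊥
  · have h1 := hLq.2
    exact ((QuotientGroup.quotientMulEquivOfEq hZ).trans QuotientGroup.quotientBot).symm.isSimpleGroup
  exfalso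
  have hcard := card_cover hLq hZ
  -- an involution of the centre
  have hZ2 : IsPGroup 2 ↥(center ↥L) := isPGroup_center_comp Nat.prime_two L hL
  have h2 : Fact (Nat.Prime 2) := ⟨Nat.prime_two⟩
  obtain ⟨z, hz⟩ : ∃ z : ↥(center ↥L), orderOf z = 2 := by
    have h3 : 2 ∣ Nat.card ↥(center ↥L) := by
      obtain ⟨n, hn⟩ := IsPGroup.iff_card.1 hZ2
      rw [hn]
      refine dvd_pow_self 2 ?_
      rintro rfl
      apply hZ
      rw [← Subgroup.card_eq_one, hn, pow_zero]
    exact exists_prime_orderOf_dvd_card' 2 h3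
  obtain ⟨w, hw⟩ : ∃ w : ↥(fixedSubgroup x) ⧸ pPrimeCore 2 ↥(fixedSubgroup x), w = ((z : ↥L) : _) := ⟨_, rfl⟩
  have hwo : orderOf w = 2 := by rw [hw, Subgroup.orderOf_coe, Subgroup.orderOf_coe, hz]
  have hLw : L ≤ centralizer ({w} : Set _) := by
    intro l hl
    rw [mem_centralizer_singleton_iff, hw]
    exact congrArg Subtype.val (mem_center_iff.1 z.2 ⟨l, hl⟩)
  obtain ⟨u, hu, huw⟩ := exists_lift_invo odd_core hwo
  have huu : u * u = 1 := by rw [← pow_two, ← hu, pow_orderOf_eq_one]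
  rcases hok (u : K) (by rw [Subgroup.orderOf_coe, hu]) u.2 with hct | hP
  · -- characteristic 2
    have h3 := ct_cent_fix hx u hct
    obtain ⟨e, -⟩ := cent_equiv odd_core huu (inf_of_core hOn odd_core (core_of_ct h3))
    have h4 := ct_congr e h3
    rw [huw] at h4
    exact no_component_of_ct h4 _ (SignalizersComponents.Components.isComponent_subgroupOf hLw hL)
  · -- the perfect residual of `C_X(u)`
    let C : Subgroup ↥(fixedSubgroup x) := centralizer ({u} : Set ↥(fixedSubgroup x))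
    obtain ⟨n, hn⟩ := exists_stable ↥C
    let D : Subgroup ↥C := derivedSeries ↥C n
    have hD : ⁅D, D⁆ = D := hn
    -- the image in `K`
    let P : Subgroup K := (D.map C.subtype).map (fixedSubgroup x).subtype
    have hPp : ⁅P, P⁆ = P := map_commutator_eq _ (map_commutator_eq _ hD)
    have hPC : P ≤ centralizer ({(u : K)} : Set K) := by
      rintro _ ⟨_, ⟨c, -, rfl⟩, rfl⟩
      have := mem_centralizer_singleton_iff.1 c.2
      rw [mem_centralizer_singleton_iff]
      exact congrArg Subtype.val this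
    let j : ↥C →* K := (fixedSubgroup x).subtype.comp C.subtype
    have hj : Function.Injective j := (fixedSubgroup x).subtype_injective.comp C.subtype_injective
    have hPj : P = D.map j := by rw [← Subgroup.map_map]
    have hcP : Nat.card ↥P = Nat.card ↥D := by
      rw [hPj]
      exact Subgroup.card_map_of_injective hj
    -- the map to the quotient
    let f : ↥C →* ↥(fixedSubgroup x) ⧸ pPrimeCore 2 ↥(fixedSubgroup x) :=
      (QuotientGroup.mk' (pPrimeCore 2 ↥(fixedSubgroup x))).comp C.subtype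
    have hLf : L ≤ f.range := by
      intro l hl
      obtain ⟨c, rfl⟩ := QuotientGroup.mk_surjective l
      have h5 := mem_centralizer_singleton_iff.1 (hLw hl)
      rw [← huw] at h5
      obtain ⟨y, hy, hyc⟩ := exists_comm_lift odd_core huu h5
      refine ⟨⟨y * c, mem_centralizer_singleton_iff.2 hyc⟩, ?_⟩
      change QuotientGroup.mk (y * c) = QuotientGroup.mk c
      rw [QuotientGroup.mk_mul, (QuotientGroup.eq_one_iff y).2 hy, one_mul]
    have hLp : ⁅L, L⁆ = L := SignalizersComponents.Components.component_commutator_self hL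
    have hLD : L ≤ D.map f := by
      -- work in `f.range`
      have h6 : ⁅L.comap f.range.subtype, L.comap f.range.subtype⁆ = L.comap f.range.subtype := by
        apply map_injective f.range.subtype_injective
        rw [map_commutator, map_comap_eq, range_subtype, inf_eq_right.2 hLf, hLp]
      have h7 := LThree.le_derivedSeries_of_perfect h6 n
      have h8 := map_derivedSeries_eq (f := f.rangeRestrict) f.rangeRestrict_surjective n
      rw [← h8] at h7
      intro l hl
      obtain ⟨c, hc, hcl⟩ := h7 (show (⟨l, hLf hl⟩ : ↥f.range) ∈ L.comap f.range.subtype from hl)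
      exact ⟨c, hc, congrArg Subtype.val hcl⟩
    have hD120 : 120 ≤ Nat.card ↥D := by
      calc 120 ≤ Nat.card ↥L := hcard
        _ ≤ Nat.card ↥(D.map f) := Nat.le_of_dvd Nat.card_pos (card_dvd_of_le hLD)
        _ ≤ Nat.card ↥D := Nat.le_of_dvd Nat.card_pos (Subgroup.card_map_dvd D f)
    obtain ⟨hPs, hPd⟩ := hP P hPC hPp (by rw [hcP]; exact hD120)
    have eD : ↥D ≃* ↥P := (D.equivMapOfInjective j hj).trans (MulEquiv.subgroupCongr hPj.symm)
    have hDs : IsSimpleGroup ↥D := eD.isSimpleGroup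
    -- `f` is injective on `D`
    have hinj : Function.Injective (f.comp D.subtype) := by
      rw [← MonoidHom.ker_eq_bot_iff]
      rcases (inferInstance : (f.comp D.subtype).ker.Normal).eq_bot_or_eq_top with h9 | h9
      · exact h9
      · exfalso
        have h10 : D.map f = ⊥ := by
          rw [eq_bot_iff]
          rintro _ ⟨c, hc, rfl⟩
          have : (⟨c, hc⟩ : ↥D) ∈ (f.comp D.subtype).ker := by rw [h9]; exact mem_top _
          exact mem_bot.2 this
        rw [h10, le_bot_iff] at hLD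
        rw [hLD, card_bot] at hcard
        omega
    -- the preimage of `L` in `D`
    let M : Subgroup ↥D := L.comap (f.comp D.subtype)
    have hM : M.map (f.comp D.subtype) = L := by
      rw [map_comap_eq, MonoidHom.range_comp, range_subtype]
      exact inf_eq_right.2 hLD
    have eM : ↥M ≃* ↥L := (M.equivMapOfInjective _ hinj).trans (MulEquiv.subgroupCongr hM)
    have hM1 : M = ⊤ := by
      have h9 : (M.map D.subtype).map j = P := by
        apply hPd
        · rw [hPj]
          exact map_mono (map_subtype_le M)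
        · rw [Subgroup.card_map_of_injective hj, Subgroup.card_map_of_injective D.subtype_injective,
            Nat.card_congr eM.toEquiv]
          exact hcard
      rw [hPj] at h9
      have h10 := map_injective hj h9
      rw [eq_top_iff]
      intro d _
      have h11 : (d : ↥C) ∈ M.map D.subtype := by rw [h10]; exact d.2
      obtain ⟨m, hm, hmd⟩ := h11
      rwa [← D.subtype_injective hmd]
    have eL : ↥D ≃* ↥L := (Subgroup.topEquiv.symm.trans (MulEquiv.subgroupCongr hM1.symm)).trans eM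
    have hLs : IsSimpleGroup ↥L := eL.symm.isSimpleGroup
    exact hZ (CTwoTab.center_eq_bot_of_simple (SignalizersComponents.Components.quasisimple_not_isMulCommutative hLq))

/-- `Comps` from `simple_comp` and a list of simple groups -/
theorem comps_of_simple {H : Type u} [Group H] [Finite H]
    (h : ∀ L : Subgroup (H ⧸ pPrimeCore 2 H), IsComponent L → IsSimpleGroup ↥L ∧ IsCpSimple 2 ↥L) : Comps 2 H := by
  intro L hL
  obtain ⟨h1, h2⟩ := h L hL
  have hna := SignalizersComponents.Components.quasisimple_not_isMulCommutative hL.2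
  have hg := CTwoTab.good_of_simple hna h2
  exact ⟨hL.2, isPGroup_center_comp Nat.prime_two L hL, hg.1, hg.2⟩

end

end Cfsg.Agent.CpAutTwo

end

-- merged: Cfsg.Agent.CpAutTwo.OkTools
section

/-!
# Tools for `Ok` (helper38)

* `Ok.map`, `Ok.conj`; `ok_of_alt_six`, `ok_of_card`;
* `cp_small` : a simple group of order 60, 168 or 360 is on the `C₂` list.
-/

set_option autoImplicit false

namespace Cfsg.Agent.CpAutTwo

open Subgroup Cfsg
open Cfsg.Agent.CpAut Cfsg.Agent.CpAut.TwoAbs

universe u v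

theorem Ok.map {K : Type u} {K' : Type v} [Group K] [Finite K] [Group K'] [Finite K'] (e : K ≃* K') {u : K}
    (h : Ok u) : Ok (e u) := by
  rcases h with h | h
  · left
    exact ct_congr (((centralizer ({u} : Set K)).equivMapOfInjective e.toMonoidHom e.injective).trans
      (MulEquiv.subgroupCongr (CTwoTab.map_centralizer_singleton e u))) h
  · right
    intro P hP hperf hc
    have e1 : ↥P ≃* ↥(P.map e.symm.toMonoidHom) := P.equivMapOfInjective e.symm.toMonoidHom e.symm.injective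
    have hPc : P.map e.symm.toMonoidHom ≤ centralizer ({u} : Set K) := by
      rintro _ ⟨p, hp, rfl⟩
      have h3 := mem_centralizer_singleton_iff.1 (hP hp)
      rw [mem_centralizer_singleton_iff]
      apply e.injective
      change e (e.symm p * u) = e (u * e.symm p)
      rw [map_mul, map_mul, e.apply_symm_apply, h3]
    obtain ⟨h1, h2⟩ := h (P.map e.symm.toMonoidHom) hPc (map_commutator_eq _ hperf)
      (by rw [← Nat.card_congr e1.toEquiv]; exact hc)
    refine ⟨e1.isSimpleGroup, fun D hD hDc => ?_⟩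
    have h3 := h2 (D.map e.symm.toMonoidHom) (map_mono hD) (by
      rw [Subgroup.card_map_of_injective (f := e.symm.toMonoidHom) e.symm.injective]; exact hDc)
    exact map_injective (f := e.symm.toMonoidHom) e.symm.injective h3

theorem Ok.conj {K : Type u} [Group K] [Finite K] {u : K} (h : Ok u) (c : K) : Ok (c * u * c⁻¹) :=
  h.map (MulAut.conj c)

/-- perfect subgroups are small -/
theorem ok_of_card {K : Type u} [Group K] [Finite K] {u : K}
    (h : ∀ P : Subgroup K, P ≤ centralizer ({u} : Set K) → ⁅P, P⁆ = P → Nat.card ↥P < 120) : Ok u :=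
  Or.inr fun P hP hperf hc => absurd (h P hP hperf) (by omega)

/-- a simple group with more than 6 elements has no proper subgroup of index at most 3 -/
theorem top_of_card {S : Type*} [Group S] [Finite S] [IsSimpleGroup S] (hS : 6 < Nat.card S) (D : Subgroup S)
    (hD : Nat.card S ≤ 3 * Nat.card ↥D) : D = ⊤ := by
  by_contra hne
  have h0 : D.normalCore = ⊥ := by
    rcases (inferInstance : D.normalCore.Normal).eq_bot_or_eq_top with h | h
    · exact h
    · exact absurd (top_le_iff.1 (h ▸ D.normalCore_le)) hne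
  have h1 : Function.Injective (MulAction.toPermHom S (S ⧸ D)) := by
    rw [← MonoidHom.ker_eq_bot_iff, ← Subgroup.normalCore_eq_ker, h0]
  have h2 : Nat.card S ≤ Nat.card (Equiv.Perm (S ⧸ D)) := Nat.card_le_card_of_injective _ h1
  have h3 : Nat.card (S ⧸ D) ≤ 3 := by
    have h4 := Subgroup.card_eq_card_quotient_mul_card_subgroup D
    have h5 : 0 < Nat.card ↥D := Nat.card_pos
    by_contra h6
    have h7 : 4 * Nat.card ↥D ≤ Nat.card (S ⧸ D) * Nat.card ↥D := Nat.mul_le_mul_right _ (by omega)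
    omega
  rw [Nat.card_perm] at h2
  have h4 : (Nat.card (S ⧸ D)).factorial ≤ Nat.factorial 3 := Nat.factorial_le h3
  have h5 : Nat.factorial 3 = 6 := rfl
  omega

/-- the perfect subgroups of `C(u)` lie in a subgroup of order at most 360, simple if it has 360 elements -/
theorem ok_of_alt_six {K : Type u} [Group K] [Finite K] {u : K} (E : Subgroup K) (hs : IsSimpleGroup ↥E)
    (hE : Nat.card ↥E = 360)
    (h : ∀ P : Subgroup K, P ≤ centralizer ({u} : Set K) → ⁅P, P⁆ = P → P ≤ E) : Ok u := by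
  have key : ∀ D : Subgroup K, D ≤ E → 120 ≤ Nat.card ↥D → D = E := by
    intro D hD hc
    have h1 : Nat.card ↥(D.subgroupOf E) = Nat.card ↥D := Nat.card_congr (subgroupOfEquivOfLe hD).toEquiv
    have h2 := top_of_card (by rw [hE]; norm_num) (D.subgroupOf E) (by rw [hE, h1]; omega)
    exact le_antisymm hD (subgroupOf_eq_top.1 h2)
  right
  intro P hP hperf hc
  obtain rfl := key P (h P hP hperf) hc
  exact ⟨hs, key⟩

/-- a small simple group -/
theorem cp_small {S : Type u} [Group S] [Finite S] [IsSimpleGroup S] (hna : ¬ IsMulCommutative S)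
    (h : Nat.card S ≤ 1092) (h5 : Nat.card S ≠ 504) (h6 : Nat.card S ≠ 660) (h7 : Nat.card S ≠ 1092) :
    IsCpSimple 2 S := by
  rcases S0496.result hna h with h1 | h1 | h1 | h1 | h1 | h1
  · obtain ⟨e⟩ := S0494.result h1
    exact CTwoTab.JTwo.cp_A5 e
  · have : Fact (Nat.Prime 7) := ⟨by norm_num⟩
    obtain ⟨e⟩ := S0495.result h1 (F := ZMod 7) (ZMod.card 7)
    exact Or.inr (Or.inr (Or.inl ⟨rfl, Or.inl ⟨ZMod 7, inferInstance, inferInstance,
      Or.inl ⟨by rw [ZMod.card 7]; norm_num, Or.inr ⟨3, by rw [ZMod.card 7]; norm_num⟩⟩, ⟨e⟩⟩⟩))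
  · obtain ⟨e⟩ := S0497.result h1
    exact Or.inl (Or.inr (Or.inl ⟨rfl, Or.inl ⟨e⟩⟩))
  · exact absurd h1 h5
  · exact absurd h1 h6
  · exact absurd h1 h7

end Cfsg.Agent.CpAutTwo

end

-- merged: Cfsg.Agent.CpAutTwo.NoFour
section

/-!
# Elements of order four (helper38)

`x` an automorphism with `x² = 1`, `X = C_K(x)`. Suppose that every involution `u` of `X` is not a square in `K` or
`C_X(u)` is a 2-group. Then the centralizer in `X / O(X)` of the square of an element of order four is a 2-group.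
-/

set_option autoImplicit false

namespace Cfsg.Agent.CpAutTwo

open Subgroup Cfsg
open Cfsg.Agent.CpAut Cfsg.Agent.CpAut.TwoAbs

universe u

theorem four_eq {G : Type*} [Group G] (y : G) : y ^ 4 = y * y * (y * y) := by
  rw [pow_succ, pow_succ, pow_succ, pow_one, mul_assoc (y * y)]

theorem no_four {K : Type u} [Group K] [Finite K] {x : MulAut K}
    (h : ∀ u : K, u * u = 1 → u ≠ 1 → x u = u → (∀ y : K, y * y ≠ u) ∨
      ∀ b : K, x b = b → b * u = u * b → ∃ k, b ^ 2 ^ k = 1)
    {y s : ↥(fixedSubgroup x) ⧸ pPrimeCore 2 ↥(fixedSubgroup x)} (hy4 : y * y * (y * y) = 1) (hy2 : y * y ≠ 1)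
    (hs3 : s ^ 3 = 1) (hs : s ≠ 1) (hc : s * (y * y) = (y * y) * s) : False := by
  have hOn : (pPrimeCore 2 ↥(fixedSubgroup x)).Normal := Lib.Cores.pPrimeCore_normal 2
  have hodd : Odd (Nat.card ↥(pPrimeCore 2 ↥(fixedSubgroup x))) := odd_core
  obtain ⟨y0, rfl⟩ := QuotientGroup.mk_surjective y
  obtain ⟨s0, rfl⟩ := QuotientGroup.mk_surjective s
  -- a lift of order four
  obtain ⟨m, hm⟩ : ∃ m, m = Nat.card ↥(pPrimeCore 2 ↥(fixedSubgroup x)) := ⟨_, rfl⟩
  rw [← hm] at hodd
  have h4 : y0 ^ 4 ∈ pPrimeCore 2 ↥(fixedSubgroup x) := by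
    rw [← QuotientGroup.eq_one_iff, QuotientGroup.mk_pow, ← hy4]
    exact four_eq _
  have h5 : (y0 ^ 4) ^ m = 1 := by
    have := pow_card_eq_one' (x := (⟨y0 ^ 4, h4⟩ : ↥(pPrimeCore 2 ↥(fixedSubgroup x))))
    rw [← hm] at this
    exact congrArg Subtype.val this
  obtain ⟨n, hn⟩ : ∃ n, m * m = 4 * n + 1 := by
    obtain ⟨k, hk⟩ := hodd
    exact ⟨k * k + k, by rw [hk]; ring⟩
  obtain ⟨y1, hy1⟩ : ∃ y1, y1 = y0 ^ (m * m) := ⟨_, rfl⟩
  have h6 : y1 * y1 * (y1 * y1) = 1 := by
    have : y1 * y1 * (y1 * y1) = ((y0 ^ 4) ^ m) ^ m := by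
      rw [hy1, ← pow_mul, ← pow_mul, ← pow_add, ← pow_add]
      congr 1
      ring
    rw [this, h5, one_pow]
  have hyq : (QuotientGroup.mk y0 : ↥(fixedSubgroup x) ⧸ pPrimeCore 2 ↥(fixedSubgroup x)) ^ 4 = 1 := by
    rw [← hy4]
    exact four_eq _
  have h7 : (QuotientGroup.mk y1 : ↥(fixedSubgroup x) ⧸ pPrimeCore 2 ↥(fixedSubgroup x)) = QuotientGroup.mk y0 := by
    rw [hy1, hn, QuotientGroup.mk_pow, pow_add, pow_mul, hyq, one_pow, one_mul, pow_one]
  rw [← h7, ← QuotientGroup.mk_mul] at hy2 hc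
  obtain ⟨u, hu⟩ : ∃ u, u = y1 * y1 := ⟨_, rfl⟩
  rw [← hu] at h6 hy2 hc
  have hu1 : u ≠ 1 := fun h => hy2 (by rw [h]; rfl)
  rcases h (u : K) (congrArg Subtype.val h6) (fun h => hu1 (Subtype.ext h)) u.2 with h8 | h8
  · exact h8 y1 (congrArg Subtype.val hu.symm)
  · obtain ⟨o, ho, hoc⟩ := exists_comm_lift odd_core h6 hc
    obtain ⟨k, hk⟩ := h8 ((o * s0 : ↥(fixedSubgroup x)) : K) (o * s0).2 (congrArg Subtype.val hoc)
    have h9 : (o * s0) ^ 2 ^ k = 1 := Subtype.ext (by rw [Subgroup.coe_pow]; exact hk)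
    have h10 : (QuotientGroup.mk s0 : ↥(fixedSubgroup x) ⧸ pPrimeCore 2 ↥(fixedSubgroup x)) ^ 2 ^ k = 1 := by
      have e : (QuotientGroup.mk (o * s0) : ↥(fixedSubgroup x) ⧸ pPrimeCore 2 ↥(fixedSubgroup x)) =
          QuotientGroup.mk s0 := by
        rw [QuotientGroup.mk_mul, (QuotientGroup.eq_one_iff o).2 ho, one_mul]
      rw [← e, ← QuotientGroup.mk_pow, h9]
      rfl
    apply hs
    have h11 := orderOf_dvd_of_pow_eq_one hs3
    have h12 := orderOf_dvd_of_pow_eq_one h10
    have h13 : Nat.Coprime 3 (2 ^ k) := Nat.Coprime.pow_right k (by norm_num)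
    exact orderOf_eq_one_iff.1 (Nat.eq_one_of_dvd_coprimes h13 h11 h12)

/-- `A₇` has an element of order four whose square commutes with an element of order three. -/
theorem alt_seven : ∃ y s : alternatingGroup (Fin 7), y * y * (y * y) = 1 ∧ y * y ≠ 1 ∧ s ^ 3 = 1 ∧ s ≠ 1 ∧
    s * (y * y) = (y * y) * s := by
  refine ⟨⟨Equiv.swap 0 1 * Equiv.swap 1 2 * Equiv.swap 2 3 * Equiv.swap 4 5,
    Equiv.Perm.mem_alternatingGroup.2 (by decide +kernel)⟩, ⟨Equiv.swap 4 5 * Equiv.swap 5 6,
    Equiv.Perm.mem_alternatingGroup.2 (by decide +kernel)⟩, ?_, ?_, ?_, ?_, ?_⟩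
  · exact Subtype.ext (by decide +kernel)
  · intro h
    exact absurd (congrArg Subtype.val h) (by decide +kernel)
  · exact Subtype.ext (by decide +kernel)
  · intro h
    exact absurd (congrArg Subtype.val h) (by decide +kernel)
  · exact Subtype.ext (by decide +kernel)

/-- `A₇` is not in `X / O(X)`. -/
theorem no_alt_seven {K : Type u} [Group K] [Finite K] {x : MulAut K}
    (h : ∀ u : K, u * u = 1 → u ≠ 1 → x u = u → (∀ y : K, y * y ≠ u) ∨
      ∀ b : K, x b = b → b * u = u * b → ∃ k, b ^ 2 ^ k = 1)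
    (L : Subgroup (↥(fixedSubgroup x) ⧸ pPrimeCore 2 ↥(fixedSubgroup x))) (e : ↥L ≃* alternatingGroup (Fin 7)) :
    False := by
  obtain ⟨y, s, h1, h2, h3, h4, h5⟩ := alt_seven
  let f : alternatingGroup (Fin 7) →* ↥(fixedSubgroup x) ⧸ pPrimeCore 2 ↥(fixedSubgroup x) :=
    L.subtype.comp e.symm.toMonoidHom
  have hinj : Function.Injective f := Subtype.val_injective.comp e.symm.injective
  refine no_four h (y := f y) (s := f s) ?_ ?_ ?_ ?_ ?_
  · rw [← map_mul, ← map_mul, h1, map_one]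
  · rw [← map_mul, ← map_one f]
    exact fun h => h2 (hinj h)
  · rw [← map_pow, h3, map_one]
  · rw [← map_one f]
    exact fun h => h4 (hinj h)
  · rw [← map_mul, ← map_mul, ← map_mul, h5]

end Cfsg.Agent.CpAutTwo

end

-- merged: Cfsg.Agent.CpAutTwo.CpList
section

/-!
# Names of the known simple groups and the `C₂` list (helper38)

* `goodTwo g` : the group with name `g` is on the `C₂` list (sufficient condition); `cp_of_real`.
-/

set_option autoImplicit false

namespace Cfsg.Agent.CpAutTwo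

open Subgroup Cfsg
open Cfsg.Agent.OrdDiv

universe u

/-- sufficient for the group with this name to be on the `C₂` list -/
def goodTwo : Grp → Bool
  | .alt n => Nat.beq n 5 || Nat.beq n 6 || Nat.beq n 8
  | .psl n q => (Nat.beq (q % 2) 0 && Nat.ble 2 n && (Nat.blt 2 n || Nat.ble 4 q)) ||
      (Nat.beq n 2 && (Nat.beq q 5 || Nat.beq q 7 || Nat.beq q 9 || Nat.beq q 17 || Nat.beq q 31)) ||
      (Nat.beq q 3 && (Nat.beq n 3 || Nat.beq n 4))
  | .psp n q => Nat.beq (q % 2) 0 && Nat.ble 2 n && (Nat.blt 2 n || Nat.ble 3 q)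
  | .psu n q => (Nat.beq (q % 2) 0 && Nat.ble 3 n && (Nat.blt 3 n || Nat.blt 2 q)) ||
      (Nat.beq q 3 && (Nat.beq n 3 || Nat.beq n 4))
  | .g2 q => (Nat.beq (q % 2) 0 && Nat.ble 3 q) || Nat.beq q 3
  | .m11 | .m12 | .m22 | .m23 | .m24 | .j2 | .j3 | .j4 | .hs | .suz | .ru => true
  | _ => false

theorem char_two {F : Type} [Field F] [Fintype F] {q : ℕ} (h : Fintype.card F = q) (hq : q % 2 = 0) : CharP F 2 :=
  ringChar.of_eq (FiniteField.even_card_iff_char_two.2 (by rw [h]; exact hq))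

theorem fm9 {q : ℕ} (h : q = 5 ∨ q = 7 ∨ q = 9 ∨ q = 17 ∨ q = 31) : IsFM9 q := by
  rcases h with rfl | rfl | rfl | rfl | rfl
  · exact Or.inl ⟨by norm_num, Or.inl ⟨2, by norm_num, by norm_num⟩⟩
  · exact Or.inl ⟨by norm_num, Or.inr ⟨3, by norm_num⟩⟩
  · exact Or.inr rfl
  · exact Or.inl ⟨by norm_num, Or.inl ⟨4, by norm_num, by norm_num⟩⟩
  · exact Or.inl ⟨by norm_num, Or.inr ⟨5, by norm_num⟩⟩

theorem even_aux {q : ℕ} (h : q ^ 2 % 2 = 0 ∨ q % 2 = 0) : q ^ 2 % 2 = 0 := by
  rcases h with h | h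
  · exact h
  · rw [pow_two, Nat.mul_mod, h]

/-- **The `C₂` list.** -/
theorem cp_of_real {S : Type u} [Group S] {g : Grp} (hg : goodTwo g = true) (h : Real g S) : IsCpSimple 2 S := by
  have listed : IsCTwoListed S → IsCpSimple 2 S := fun h => Or.inr (Or.inr (Or.inl ⟨rfl, h⟩))
  cases g with
  | alt n =>
    obtain ⟨e⟩ := h
    simp only [goodTwo, Bool.or_eq_true, Nat.beq_eq] at hg
    rcases hg with (rfl | rfl) | rfl
    · exact CTwoTab.JTwo.cp_A5 e
    · exact Or.inl (Or.inr (Or.inl ⟨rfl, Or.inl ⟨e⟩⟩))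
    · have : Fact (Nat.Prime 2) := ⟨Nat.prime_two⟩
      obtain ⟨f⟩ := S0256.result (F := ZMod 2) (ZMod.card 2)
      exact Or.inl (Or.inl (Or.inl ⟨ZMod 2, inferInstance, inferInstance, inferInstance, 4, by norm_num,
        fun h => by omega, ⟨e.trans f.symm⟩⟩))
  | psl n q =>
    obtain ⟨F, i1, i2, hc, e⟩ := h
    simp only [goodTwo, Bool.or_eq_true, Bool.and_eq_true, Nat.beq_eq, Nat.ble_eq, Nat.blt_eq] at hg
    rcases hg with (⟨⟨h1, h2⟩, h3⟩ | ⟨h1, h2⟩) | ⟨h1, h2⟩
    · exact Or.inl (Or.inl (Or.inl ⟨F, i1, i2, char_two hc h1, n, h2, fun h => by omega, e⟩))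
    · subst h1
      exact listed (Or.inl ⟨F, i1, i2, by rw [hc]; exact fm9 (by tauto), e⟩)
    · refine listed (Or.inr (Or.inl ⟨F, i1, i2, by rw [hc, h1], ?_⟩))
      rcases h2 with rfl | rfl
      · exact Or.inl e
      · exact Or.inr (Or.inl e)
  | psp n q =>
    obtain ⟨F, i1, i2, hc, e⟩ := h
    simp only [goodTwo, Bool.or_eq_true, Bool.and_eq_true, Nat.beq_eq, Nat.ble_eq, Nat.blt_eq] at hg
    obtain ⟨⟨h1, h2⟩, h3⟩ := hg
    exact Or.inl (Or.inl (Or.inr (Or.inl ⟨F, i1, i2, char_two hc h1, n, h2, fun h => by omega, e⟩)))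
  | psu n q =>
    obtain ⟨F, i1, i2, hc, e⟩ := h
    simp only [goodTwo, Bool.or_eq_true, Bool.and_eq_true, Nat.beq_eq, Nat.ble_eq, Nat.blt_eq] at hg
    rcases hg with ⟨⟨h1, h2⟩, h3⟩ | ⟨h1, h2⟩
    · exact Or.inl (Or.inl (Or.inr (Or.inr (Or.inl ⟨F, i1, i2, char_two hc (even_aux (Or.inr h1)), n, q, hc, h2,
        by omega, e⟩))))
    · subst h1
      rcases h2 with rfl | rfl
      · exact Or.inl (Or.inr (Or.inl ⟨rfl, Or.inr (Or.inl ⟨F, i1, i2, by rw [hc]; norm_num, e⟩)⟩))
      · exact listed (Or.inr (Or.inr (Or.inl ⟨F, i1, i2, by rw [hc]; norm_num, e⟩)))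
  | g2 q =>
    obtain ⟨F, i1, i2, hc, e⟩ := h
    simp only [goodTwo, Bool.or_eq_true, Bool.and_eq_true, Nat.beq_eq, Nat.ble_eq, Nat.blt_eq] at hg
    rcases hg with ⟨h1, h2⟩ | h1
    · exact Or.inl (Or.inl (Or.inr (Or.inr (Or.inr (Or.inr (Or.inr (Or.inr (Or.inl
        ⟨F, i1, i2, char_two hc h1, Or.inl ⟨by omega, e⟩⟩))))))))
    · exact listed (Or.inr (Or.inl ⟨F, i1, i2, by rw [hc, h1], Or.inr (Or.inr e)⟩))
  | m11 => exact listed (Or.inr (Or.inr (Or.inr (Or.inl h))))
  | m12 => exact listed (Or.inr (Or.inr (Or.inr (Or.inr (Or.inl h)))))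
  | m22 => exact listed (Or.inr (Or.inr (Or.inr (Or.inr (Or.inr (Or.inl h))))))
  | m23 => exact listed (Or.inr (Or.inr (Or.inr (Or.inr (Or.inr (Or.inr (Or.inl h)))))))
  | m24 => exact listed (Or.inr (Or.inr (Or.inr (Or.inr (Or.inr (Or.inr (Or.inr (Or.inl h))))))))
  | j2 => exact listed (Or.inr (Or.inr (Or.inr (Or.inr (Or.inr (Or.inr (Or.inr (Or.inr (Or.inl h)))))))))
  | j3 => exact listed (Or.inr (Or.inr (Or.inr (Or.inr (Or.inr (Or.inr (Or.inr (Or.inr (Or.inr (Or.inl h))))))))))
  | j4 => exact listed (Or.inr (Or.inr (Or.inr (Or.inr (Or.inr (Or.inr (Or.inr (Or.inr (Or.inr (Or.inr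
      (Or.inl h)))))))))))
  | hs => exact listed (Or.inr (Or.inr (Or.inr (Or.inr (Or.inr (Or.inr (Or.inr (Or.inr (Or.inr (Or.inr (Or.inr
      (Or.inl h))))))))))))
  | suz => exact listed (Or.inr (Or.inr (Or.inr (Or.inr (Or.inr (Or.inr (Or.inr (Or.inr (Or.inr (Or.inr (Or.inr
      (Or.inr (Or.inl h)))))))))))))
  | ru => exact listed (Or.inr (Or.inr (Or.inr (Or.inr (Or.inr (Or.inr (Or.inr (Or.inr (Or.inr (Or.inr (Or.inr
      (Or.inr (Or.inr (Or.inl h))))))))))))))
  | oodd | oplus | ominus | f4 | e6 | e7 | e8 | te6 | td4 | sz | ree | tf4 | tits | j1 | co1 | co2 | co3 | mcl | he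
    | on | ly | fi22 | fi23 | fi24 | hn | th | b | m => exact absurd hg (by simp [goodTwo])

/-- all the candidates but one are on the list -/
theorem cp_or {T : OrderTable.{u}} {S : Type u} [Group S] (h : IsKnownSimple' S)
    (hna : ¬ ∀ a b : S, a * b = b * a) {l : List (ℕ × ℕ)} {N : ℕ} (hv : valid l N = true)
    (hd : Nat.card S ∣ N) (B : Grp → Bool) (hB : (cands l N).all (fun g => goodTwo g || B g) = true) :
    IsCpSimple 2 S ∨ ∃ g, B g = true ∧ Real g S := by
  obtain ⟨g, h1, h2⟩ := exists_real T h hna hv hd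
  have h3 := List.all_eq_true.1 hB g h1
  rw [Bool.or_eq_true] at h3
  rcases h3 with h3 | h3
  · exact Or.inl (cp_of_real h3 h2)
  · exact Or.inr ⟨g, h3, h2⟩

end Cfsg.Agent.CpAutTwo

end

-- merged: Cfsg.Agent.CpAutTwo.JTwo
section

/-!
# S1814, `p = 2`, row `J₂`: the outer involutions (helper38)

`α` an outer involutory automorphism of `J₂`, `X = C(α)` (which is `L₃(2).2`): `C_X(s)` is a 2-group for every
2-central involution `s` fixed by `α` (`pow_two_pow`).
-/

set_option autoImplicit false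

namespace Cfsg.Agent.CpAutTwo.JTwo

open Subgroup Cfsg
open Cfsg.Agent.LThree (Comps)
open Cfsg.Agent.CpAut Cfsg.Agent.CpAut.TwoAbs
open Cfsg.Agent.J2Type.Model Cfsg.Agent.J2Type.SPFacts Cfsg.Agent.J2Type.CStruct
open Cfsg.Agent.J3Type.OneClass Cfsg.Agent.J2Type.Base
open Cfsg.Agent.KFacts.J2.Basic Cfsg.Agent.KFacts.J2.Aut
open Cfsg.Agent.OddHalf.D4.Spor.JTwo

universe u'

variable {X : Type*} [Group X] {t u : X} {Q : Subgroup (centralizer ({t} : Set X))}
  {v : Fin 5 → centralizer ({t} : Set X)} {ρ : centralizer ({t} : Set X) →* SP}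

set_option synthInstance.maxHeartbeats 1000000 in
set_option synthInstance.maxSize 2000 in
theorem tau_aux : ∀ σ : Equiv.Perm (Fin 5), (Equiv.Perm.sign σ = -1 ∧ σ * σ = 1) →
    ∀ τ : Equiv.Perm (Fin 5), (σ * τ = τ * σ ∧ τ * τ ≠ 1) →
    ∀ s : Fin 5 → ZMod 2, (∑ i, s i = 1 ∧ (∀ i, s i + s (σ i) = 0) ∧
      (∃ k l, k ≠ l ∧ σ k = k ∧ s k = 0 ∧ σ l = l ∧ s l = 0) ∧ (∀ m, σ m = m → s (τ m) = s m)) → False := by
  simp only [↓Cfsg.Agent.PermCode.M, Cfsg.Agent.PermCode.P5.R, Cfsg.Agent.PermCode.B]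
  decide +kernel

/-- the centralizer of `t` in `C(α)` is a 2-group -/
theorem pow_aux [Finite X] (D : Dat t u Q v ρ) {α : MulAut X} (hα : ∀ k, α ≠ MulAut.conj k)
    (hαα : ∀ x, α (α x) = x) (hαt : α t = t) {b : X} (hb : α b = b) (hbt : b * t = t * b) :
    b ^ 2 ^ 6 = 1 := by
  obtain ⟨σ, s, hs⟩ := D.exists_act α hαt
  have hodd := odd_of_not_inner D hαt hα hs
  have h1 := act_mul D hαt hs hs
  have h2 : α * α = 1 := by
    ext x
    exact hαα x
  rw [h2] at h1
  obtain ⟨hσσ, hss⟩ := act_inj D h1 (act_one v)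
  have hsum := sum_sign D hs
  rw [hodd, if_neg (by decide)] at hsum
  obtain ⟨k, l, hkl, hk, hl⟩ := two_fixed D hα hαt hαα
  have hfix : ∀ m, α (v m) = v m → σ m = m ∧ s m = 0 := by
    intro m hm
    rw [hs m] at hm
    have h3 := D.M.v_inj (s m) 0 (σ m) m (by rw [zp_zero, one_mul]; exact Subtype.ext hm)
    exact ⟨h3.2, h3.1⟩
  set w : centralizer ({t} : Set X) := ⟨b, mem_cent.2 hbt⟩ with hw
  have hcb := act_conj D hbt
  have e1 := act_mul D hαt hs hcb
  have e2 := act_mul D (α := MulAut.conj b) (β := α) (by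
    change b * t * b⁻¹ = t
    rw [hbt, mul_inv_cancel_right]) hcb hs
  have e3 : α * MulAut.conj b = MulAut.conj b * α := by
    ext x
    change α (b * x * b⁻¹) = b * α x * b⁻¹
    rw [map_mul, map_mul, map_inv, hb]
  rw [e3] at e1
  obtain ⟨e4, e5⟩ := act_inj D e1 e2
  have h3 : (ρ w).σ * (ρ w).σ = 1 := by
    by_contra hne
    refine tau_aux σ ⟨hodd, hσσ⟩ (ρ w).σ ⟨e4, hne⟩ s ⟨hsum, fun i => congrFun hss i,
      ⟨k, l, hkl, (hfix k hk).1, (hfix k hk).2, (hfix l hl).1, (hfix l hl).2⟩, fun m hm => ?_⟩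
    have h5 := congrFun e5 m
    change (ρ w).s m + s ((ρ w).σ m) = s m + (ρ w).s (σ m) at h5
    rw [hm, add_comm] at h5
    exact add_right_cancel h5
  have h4 : w * w ∈ Q := by
    refine (D.M.mem_Q _).2 ?_
    rw [map_mul, mul_σ, h3]
  have h5 : (w * w) ^ 32 = 1 := by
    have h6 := pow_card_eq_one' (x := (⟨w * w, h4⟩ : ↥Q))
    rw [D.cardQ] at h6
    exact congrArg Subtype.val h6
  have h6 : w ^ 2 ^ 6 = 1 := by
    rw [← pow_two, ← pow_mul] at h5
    exact h5
  exact congrArg Subtype.val h6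

/-- the centralizer in `C(α)` of a conjugate of `t` is a 2-group -/
theorem pow_two_pow [Finite X] (D : Dat t u Q v ρ) {α : MulAut X} (hα : ∀ k, α ≠ MulAut.conj k)
    (hαα : ∀ x, α (α x) = x) {s : X} (hs : IsConj t s) (hαs : α s = s) {b : X} (hb : α b = b)
    (hbs : b * s = s * b) : b ^ 2 ^ 6 = 1 := by
  obtain ⟨g, hg⟩ := isConj_iff.1 hs
  have hβx : ∀ y, (MulAut.conj g⁻¹ * α * (MulAut.conj g⁻¹)⁻¹) y = g⁻¹ * α (g * y * g⁻¹) * g := by
    intro y
    rw [conj_conj, inv_inv]
  have h1 : (g⁻¹ * b * g) ^ 2 ^ 6 = 1 := by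
    refine pow_aux D (not_inner_conj hα g⁻¹) ?_ ?_ ?_ ?_
    · intro y
      rw [hβx, hβx]
      have h5 : g * (g⁻¹ * α (g * y * g⁻¹) * g) * g⁻¹ = α (g * y * g⁻¹) := by group
      rw [h5, hαα]; group
    · rw [hβx, hg, hαs, ← hg]; group
    · rw [hβx]
      have h5 : g * (g⁻¹ * b * g) * g⁻¹ = b := by group
      rw [h5, hb]
    · have h5 : t = g⁻¹ * s * g := by rw [← hg]; group
      rw [h5]
      calc g⁻¹ * b * g * (g⁻¹ * s * g) = g⁻¹ * (b * s) * g := by group
        _ = g⁻¹ * (s * b) * g := by rw [hbs]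
        _ = _ := by group
  have h2 : b = g * (g⁻¹ * b * g) * g⁻¹ := by group
  rw [h2, conj_pow, h1, mul_one, mul_inv_cancel]

/-- `u` is not a square -/
theorem no_sqrt [Finite X] (D : Dat t u Q v ρ) {r : X} (hr : IsConj u r) (y : X) : y * y ≠ r := by
  intro h
  obtain ⟨g, hg⟩ := isConj_iff.1 hr
  obtain ⟨f, U, V, H0, F⟩ := Cfsg.Agent.J2Type.CentU.main D.F
  have h1 : (g⁻¹ * y * g) * (g⁻¹ * y * g) = u := by
    calc (g⁻¹ * y * g) * (g⁻¹ * y * g) = g⁻¹ * (y * y) * g := by group
      _ = u := by rw [h, ← hg]; group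
  apply F.str.notMem
  have h2 := F.str.sq_mem (g⁻¹ * y * g) (mem_centralizer_singleton_iff.2 (by rw [← h1]; group))
  rwa [h1] at h2

/-- the involutions of `J₂` are `Ok` -/
theorem ok [Finite X] (D : Dat t u Q v ρ) (r : X) (hr : orderOf r = 2) : Ok r := by
  rcases D.F.cover r hr with h | h
  · obtain ⟨g, rfl⟩ := isConj_iff.1 h
    refine Ok.conj (Or.inl ?_) g
    have hQn := normal_Q D.M
    refine ct_of hQn (IsPGroup.iff_card.2 ⟨5, by rw [D.cardQ]; norm_num⟩) ?_
    intro b hb ho
    have h1 : b = 1 ∨ b = zc t := Cfsg.Agent.KFacts.QMinus.cent_Q D.M fun i =>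
      ((mem_centralizer_iff.1 hb) _ (D.M.v_mem i)).symm
    rcases h1 with h1 | h1
    · exact h1
    · exfalso
      have h2 : orderOf b = 2 := by
        rw [h1, ← Subgroup.orderOf_coe]
        exact D.F.hz
      rw [h2] at ho
      exact absurd ho (by decide)
  · obtain ⟨g, rfl⟩ := isConj_iff.1 h
    refine Ok.conj ?_ g
    obtain ⟨f, U, V, H0, F⟩ := Cfsg.Agent.J2Type.CentU.main D.F
    refine ok_of_card fun P hP hperf => ?_
    have h1 := CTwoTab.perfect_le_of_sq (fun a ha => F.str.sq_mem a ha) P hP hperf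
    have h2 := Nat.le_of_dvd Nat.card_pos (card_dvd_of_le h1)
    rw [card_H0 D F] at h2
    omega

theorem chk : (OrdDiv.cands [(2, 7), (3, 3), (5, 2), (7, 1)] 604800).all
    (fun g => goodTwo g || decide (g = .alt 7)) = true := by decide +kernel

/-- **Outer involutions of `J₂`.** -/
theorem outer_of_dat {X : Type u'} [Group X] [Finite X] {t u : X} {Q : Subgroup (centralizer ({t} : Set X))}
    {v : Fin 5 → centralizer ({t} : Set X)} {ρ : centralizer ({t} : Set X) →* SP} (D : Dat t u Q v ρ)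
    (hS : AllKnown.{u'}) (T : OrdDiv.OrderTable.{u'}) : OuterC X := by
  intro x hx hout
  have hxx : x * x = 1 := by rw [← pow_two, ← hx, pow_orderOf_eq_one]
  have hα : ∀ k, x ≠ MulAut.conj k := fun k hk => hout ⟨k, hk⟩
  have hαα : ∀ y, x (x y) = y := fun y => DFunLike.congr_fun hxx y
  refine comps_of_simple fun L hL => ?_
  have hs := simple_comp hxx (fun r hr _ => ok D r hr) L hL
  refine ⟨hs, ?_⟩
  have hna := SignalizersComponents.Components.quasisimple_not_isMulCommutative hL.2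
  have hd : Nat.card ↥L ∣ 604800 := by
    rw [← D.card]
    exact (Subgroup.card_subgroup_dvd_card L).trans ((Subgroup.card_quotient_dvd_card _).trans
      (Subgroup.card_subgroup_dvd_card _))
  rcases cp_or (T := T) (hS ↥L) (fun h => hna ⟨⟨h⟩⟩) (by decide +kernel) hd (fun g => decide (g = .alt 7)) chk with
    h | ⟨g, hg, h⟩
  · exact h
  · exfalso
    rw [decide_eq_true_eq] at hg
    subst hg
    obtain ⟨e⟩ := h
    refine no_alt_seven (x := x) (fun r hr hr1 hxr => ?_) L e
    rcases D.F.cover r (orderOf_two hr hr1) with h1 | h1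
    · exact Or.inr fun b hb hbr => ⟨6, pow_two_pow D hα hαα h1 hxr hb hbr⟩
    · exact Or.inl (no_sqrt D h1)

theorem outer (hS : AllKnown.{0}) (T : OrdDiv.OrderTable.{0}) : OuterC Spor.J2 := by
  have hfin : Finite Cfsg.Spor.J2 :=
    Nat.finite_of_card_ne_zero (by rw [Cfsg.Agent.S1619.result.2.2.2]; norm_num)
  obtain ⟨t, u, Q, v, ρ, D⟩ := Cfsg.Agent.KFacts.J2.Basic.exists_dat
  exact outer_of_dat D hS T

end Cfsg.Agent.CpAutTwo.JTwo

end

-- merged: Cfsg.Agent.CpAutTwo.SimpleQuot
section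

/-!
# Simple quotients of perfect groups and extraspecial subgroups of order 27 (helper38)

* `twentyseven_dvd` : elements `p`, `q` of order 3 with central commutator `≠ 1` give `27 ∣ |M|`;
* `exists_max` : a finite perfect group has a normal subgroup with nonabelian simple quotient;
* `exists_quot` : with the divisibility engine.
-/

set_option autoImplicit false

namespace Cfsg.Agent.CpAutTwo

open Subgroup Cfsg
open Cfsg.Agent.CpAut Cfsg.Agent.OrdDiv
open scoped commutatorElement

universe u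

section

variable {M : Type*} [Group M]

theorem pgroup_zpowers {r : ℕ} {g : M} (h : g ^ r = 1) : IsPGroup r ↥(zpowers g) := by
  rintro ⟨x, hx⟩
  obtain ⟨k, rfl⟩ := mem_zpowers_iff.1 hx
  refine ⟨1, Subtype.ext ?_⟩
  change (g ^ k) ^ r ^ 1 = 1
  rw [pow_one, ← zpow_natCast, ← zpow_mul, mul_comm, zpow_mul, zpow_natCast, h, one_zpow]

theorem zpowers_le_normalizer [Finite M] {K : Subgroup M} {g : M} (h : ∀ x ∈ K, g * x * g⁻¹ ∈ K) :
    zpowers g ≤ Subgroup.normalizer (K : Set M) := by
  rw [zpowers_le]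
  exact mem_normalizer_fintype fun x hx => h x hx

/-- an extraspecial group of order 27 -/
theorem twentyseven_dvd [Finite M] {p q s : M} (hp : p ^ 3 = 1) (hq : q ^ 3 = 1) (hs : p * q = s * q * p)
    (hsp : s * p = p * s) (hsq : s * q = q * s) (hs1 : s ≠ 1) : 27 ∣ Nat.card M := by
  have h3 : Fact (Nat.Prime 3) := ⟨Nat.prime_three⟩
  have hs3 : s ^ 3 = 1 := by
    have h1 : p * q * p⁻¹ = s * q := by rw [hs, mul_inv_cancel_right]
    have h2 : (s * q) ^ 3 = 1 := by
      rw [← h1, conj_pow, hq, mul_one, mul_inv_cancel]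
    have h4 : Commute s q := hsq
    rwa [h4.mul_pow, hq, mul_one] at h2
  let K : Subgroup M := zpowers p ⊔ zpowers s
  have hsK : s ∈ K := mem_sup_right (mem_zpowers s)
  have hpK : p ∈ K := mem_sup_left (mem_zpowers p)
  have hK : IsPGroup 3 ↥K := by
    refine (pgroup_zpowers hp).to_sup_of_normal_right' (pgroup_zpowers hs3) (zpowers_le_normalizer ?_)
    intro x hx
    obtain ⟨k, rfl⟩ := mem_zpowers_iff.1 hx
    have h4 : Commute p (s ^ k) := (show Commute p s from hsp.symm).zpow_right k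
    rw [h4.eq, mul_inv_cancel_right]
    exact zpow_mem (mem_zpowers s) k
  have hR : IsPGroup 3 ↥(zpowers q ⊔ K) := by
    refine (pgroup_zpowers hq).to_sup_of_normal_right' hK (zpowers_le_normalizer ?_)
    have h4 : K ≤ K.comap (MulAut.conj q).toMonoidHom := by
      refine sup_le (zpowers_le.2 ?_) (zpowers_le.2 ?_)
      · change q * p * q⁻¹ ∈ K
        have h5 : q * p * q⁻¹ = s⁻¹ * p := by
          have h6 : q * p = s⁻¹ * (p * q) := by rw [hs]; group
          rw [h6]; group
        rw [h5]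
        exact mul_mem (inv_mem hsK) hpK
      · change q * s * q⁻¹ ∈ K
        rw [← hsq, mul_inv_cancel_right]
        exact hsK
    exact fun x hx => h4 hx
  have hd := Subgroup.card_subgroup_dvd_card (zpowers q ⊔ K)
  obtain ⟨n, hn⟩ := IsPGroup.iff_card.1 hR
  have hqR : q ∈ zpowers q ⊔ K := mem_sup_left (mem_zpowers q)
  have hpR : p ∈ zpowers q ⊔ K := mem_sup_right hpK
  have hnc : ¬ IsMulCommutative ↥(zpowers q ⊔ K) := by
    intro hc
    apply hs1
    have h4 := congrArg Subtype.val (hc.is_comm.comm (⟨p, hpR⟩ : ↥(zpowers q ⊔ K)) ⟨q, hqR⟩)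
    change p * q = q * p at h4
    rw [hs] at h4
    calc s = s * q * p * (q * p)⁻¹ := by group
      _ = 1 := by rw [h4, mul_inv_cancel]
  have hn3 : 3 ≤ n := by
    by_contra hlt
    apply hnc
    have h4 : n = 0 ∨ n = 1 ∨ n = 2 := by omega
    rcases h4 with rfl | rfl | rfl
    · have h5 : zpowers q ⊔ K = ⊥ := by rw [← Subgroup.card_eq_one, hn, pow_zero]
      refine ⟨⟨fun a b => ?_⟩⟩
      have ha : (a : M) = 1 := mem_bot.1 (h5.le a.2)
      have hb : (b : M) = 1 := mem_bot.1 (h5.le b.2)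
      exact Subtype.ext (by rw [Subgroup.coe_mul, Subgroup.coe_mul, ha, hb])
    · rw [pow_one] at hn
      have : IsCyclic ↥(zpowers q ⊔ K) := isCyclic_of_prime_card hn
      exact IsCyclic.isMulCommutative
    · exact IsPGroup.isMulCommutative_of_card_eq_prime_sq hn
  rw [hn] at hd
  exact (pow_dvd_pow 3 hn3).trans hd

/-- a finite perfect group has a normal subgroup with nonabelian simple quotient -/
theorem exists_max [Finite M] [Nontrivial M] (hperf : ⁅(⊤ : Subgroup M), (⊤ : Subgroup M)⁆ = ⊤) :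
    ∃ (N : Subgroup M) (_ : N.Normal), N ≠ ⊤ ∧ IsSimpleGroup (M ⧸ N) ∧ ¬ ∀ a b : M ⧸ N, a * b = b * a := by
  have hfin : (Set.univ : Set (Subgroup M)).Finite := Set.toFinite _
  obtain ⟨N, ⟨hN, hNt⟩, hmax⟩ := Set.Finite.exists_maximal
    (s := {N : Subgroup M | N.Normal ∧ N ≠ ⊤}) (hfin.subset (Set.subset_univ _)) ⟨⊥, inferInstance, bot_ne_top⟩
  refine ⟨N, hN, hNt, ?_, ?_⟩
  · have hnt : Nontrivial (M ⧸ N) := by
      rw [QuotientGroup.nontrivial_iff]
      exact hNt
    refine ⟨fun H hH => ?_⟩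
    by_cases h : H.comap (QuotientGroup.mk' N) = ⊤
    · right
      rw [eq_top_iff]
      intro x _
      obtain ⟨g, rfl⟩ := QuotientGroup.mk_surjective x
      have : g ∈ H.comap (QuotientGroup.mk' N) := by rw [h]; exact mem_top g
      exact this
    · left
      have h1 : N ≤ H.comap (QuotientGroup.mk' N) := by
        intro n hn
        have h3 : (QuotientGroup.mk' N) n = 1 := (QuotientGroup.eq_one_iff n).2 hn
        rw [mem_comap, h3]
        exact one_mem H
      have h2 := hmax (show H.comap (QuotientGroup.mk' N) ∈ {N : Subgroup M | N.Normal ∧ N ≠ ⊤} from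
        ⟨hH.comap _, h⟩) h1
      rw [eq_bot_iff]
      intro x hx
      obtain ⟨g, rfl⟩ := QuotientGroup.mk_surjective x
      have h3 : g ∈ N := h2 (show g ∈ H.comap (QuotientGroup.mk' N) from hx)
      exact mem_bot.2 ((QuotientGroup.eq_one_iff g).2 h3)
  · intro hc
    apply hNt
    rw [eq_top_iff, ← hperf, commutator_le]
    intro a _ b _
    rw [← QuotientGroup.eq_one_iff]
    have h1 := hc (QuotientGroup.mk a) (QuotientGroup.mk b)
    change (QuotientGroup.mk' N) ⁅a, b⁆ = 1
    rw [map_commutatorElement, commutatorElement_eq_one_iff_mul_comm]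
    exact h1

end

/-- **The engine for quotients.** -/
theorem exists_quot {M : Type u} [Group M] [Finite M] [Nontrivial M] (hS : AllKnown.{u}) (T : OrderTable.{u})
    (hperf : ⁅(⊤ : Subgroup M), (⊤ : Subgroup M)⁆ = ⊤) {l : List (ℕ × ℕ)} {n : ℕ} (hv : valid l n = true) (hd : Nat.card M ∣ n)
    (P : ℕ → Bool) (hP : ∀ (N : Subgroup M) (_ : N.Normal), N ≠ ⊤ → P (Nat.card (M ⧸ N)) = true) :
    ∃ (N : Subgroup M) (_ : N.Normal), IsSimpleGroup (M ⧸ N) ∧ ¬ (∀ a b : M ⧸ N, a * b = b * a) ∧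
      ∃ g ∈ (cands l n).filter (fun g => P (ordN g)), Real g (M ⧸ N) ∧ Nat.card (M ⧸ N) = ordN g := by
  obtain ⟨N, hN, hNt, hs, hna⟩ := exists_max hperf
  refine ⟨N, hN, hs, hna, ?_⟩
  obtain ⟨g, h1, h2, h3⟩ := exists_good T (hS (M ⧸ N)) hna hv ((card_quotient_dvd_card N).trans hd)
  exact ⟨g, List.mem_filter.2 ⟨h1, by rw [← h3]; exact hP N hN hNt⟩, h2, h3⟩

end Cfsg.Agent.CpAutTwo

end

-- merged: Cfsg.Agent.CpAutTwo.SuzGen
section

/-!
# Two subgroups of `Suz` (helper38)

`HJ = ⟨a, b, c, d, e⟩` (`J₂`) and `HM = ⟨a, b, k, d, y⟩` (`M₁₂`) in a common format: `H ww` is the subgroup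
generated by five words; homomorphisms of `HJ` killing `e` or `a b`, and homomorphisms of `HM` killing `a`, are
trivial (`J_triv`, `M_triv`).
-/

set_option autoImplicit false
set_option maxRecDepth 100000
set_option exponentiation.threshold 4000

namespace Cfsg.Agent.CpAutTwo.Suz

open Cfsg.Spor Cfsg.Agent.Lib.PermNet Cfsg.Agent.Lib.PermNetOrbit Cfsg.Agent.SporadicRecognition.SuzPhi
  Cfsg.Agent.SporadicRecognition.SuzOrder Cfsg.Agent.SuzThree.Basic Cfsg.Agent.KFacts.SuzRho

section

variable (ww : Fin 5 → List Suz.Gen)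

/-- the subgroup generated by five words -/
noncomputable def H : Subgroup Suz := Subgroup.closure (Set.range fun i => el (ww i))

/-- the generators -/
noncomputable def gen (i : Fin 5) : ↥(H ww) := ⟨el (ww i), Subgroup.subset_closure ⟨i, rfl⟩⟩

/-- expand a word -/
def ex (W : List (Fin 5)) : List Suz.Gen := (W.map ww).flatten

/-- the element of a word -/
noncomputable def G (W : List (Fin 5)) : ↥(H ww) := (W.map (gen ww)).prod

theorem coe_G (W : List (Fin 5)) : (G ww W : Suz) = el (ex ww W) := by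
  induction W with
  | nil => rfl
  | cons i W ih =>
    have h1 : G ww (i :: W) = gen ww i * G ww W := by rw [G, List.map_cons, List.prod_cons]; rfl
    have h2 : ex ww (i :: W) = ww i ++ ex ww W := by rw [ex, List.map_cons, List.flatten_cons]; rfl
    rw [h1, h2, Subgroup.coe_mul, ih, el_append]
    rfl

theorem G_append (V W : List (Fin 5)) : G ww (V ++ W) = G ww V * G ww W := by
  rw [G, G, G, List.map_append, List.prod_append]

theorem G_one {W : List (Fin 5)} (h : t5 (wd (ex ww W)) = true) : G ww W = 1 :=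
  Subtype.ext (by rw [coe_G]; exact eq_one_of_t5 (Rep.el _) h)

theorem G_eq {V W : List (Fin 5)} (h : t5 (wd (ex ww V ++ (ex ww W).reverse)) = true) : G ww V = G ww W := by
  apply Subtype.ext
  rw [coe_G, coe_G]
  have h1 : el (ex ww V ++ (ex ww W).reverse) = 1 := eq_one_of_t5 (Rep.el _) h
  rw [el_append, el_reverse, mul_inv_eq_one] at h1
  exact h1

/-- power of a word -/
def rpt (W : List (Fin 5)) : ℕ → List (Fin 5)
  | 0 => []
  | n + 1 => W ++ rpt W n

theorem G_rpt (W : List (Fin 5)) (n : ℕ) : G ww (rpt W n) = G ww W ^ n := by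
  induction n with
  | zero => rw [rpt, pow_zero]; rfl
  | succ n ih => rw [rpt, G_append, ih, pow_succ']

/-- a relation, mapped -/
theorem rel {Q : Type*} [Group Q] (f : ↥(H ww) →* Q) {W : List (Fin 5)} {n : ℕ}
    (h : t5 (wd (ex ww (rpt W n))) = true) : (W.map fun i => f (gen ww i)).prod ^ n = 1 := by
  have h1 : (W.map fun i => f (gen ww i)).prod = f (G ww W) := by
    rw [G, map_list_prod, List.map_map]
    rfl
  rw [h1, ← map_pow, ← G_rpt, G_one ww h, map_one]

theorem triv_of_gen {Q : Type*} [Group Q] (f : ↥(H ww) →* Q) (h : ∀ i, f (gen ww i) = 1) (x : ↥(H ww)) : f x = 1 := by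
  have h1 : H ww ≤ f.ker.map (H ww).subtype := by
    refine (Subgroup.closure_le _).2 ?_
    rintro _ ⟨i, rfl⟩
    exact ⟨gen ww i, h i, rfl⟩
  obtain ⟨y, hy, hyx⟩ := h1 x.2
  have h2 : y = x := Subtype.ext hyx
  rw [← h2]
  exact hy

end

/-! ### `J₂` -/

/-- generators of `J₂` -/
def wJ : Fin 5 → List Suz.Gen := ![[.a], [.b], [.c], [.d], [.e]]

/-- generators of `M₁₂` -/
def wM : Fin 5 → List Suz.Gen := ![[.a], [.b], kw, [.d], yw]

theorem set_J : (Set.range fun i => el (wJ i)) = SJ := by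
  ext x
  constructor
  · rintro ⟨i, rfl⟩
    exact ⟨wJ i, by revert i; decide, rfl⟩
  · rintro ⟨w, hw, rfl⟩
    simp only [List.mem_cons, List.not_mem_nil, or_false] at hw
    rcases hw with rfl | rfl | rfl | rfl | rfl
    · exact ⟨0, rfl⟩
    · exact ⟨1, rfl⟩
    · exact ⟨2, rfl⟩
    · exact ⟨3, rfl⟩
    · exact ⟨4, rfl⟩

theorem set_M : (Set.range fun i => el (wM i)) = SM := by
  ext x
  constructor
  · rintro ⟨i, rfl⟩
    exact ⟨wM i, by revert i; decide, rfl⟩
  · rintro ⟨w, hw, rfl⟩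
    simp only [List.mem_cons, List.not_mem_nil, or_false] at hw
    rcases hw with rfl | rfl | rfl | rfl | rfl
    · exact ⟨0, rfl⟩
    · exact ⟨1, rfl⟩
    · exact ⟨2, rfl⟩
    · exact ⟨3, rfl⟩
    · exact ⟨4, rfl⟩

theorem H_J : H wJ = Subgroup.closure SJ := by rw [H, set_J]

theorem H_M : H wM = Subgroup.closure SM := by rw [H, set_M]

theorem perf_of {Γ : Type*} [Group Γ] {K : Subgroup Γ} (h : ⁅K, K⁆ = K) :
    ⁅(⊤ : Subgroup ↥K), (⊤ : Subgroup ↥K)⁆ = ⊤ := by
  apply Subgroup.map_injective K.subtype_injective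
  rw [Subgroup.map_commutator, ← MonoidHom.range_eq_map, Subgroup.range_subtype, h]

theorem perf_J : ⁅(⊤ : Subgroup ↥(H wJ)), (⊤ : Subgroup ↥(H wJ))⁆ = ⊤ :=
  perf_of (by rw [H_J]; exact perfect_SJ)

theorem perf_M : ⁅(⊤ : Subgroup ↥(H wM)), (⊤ : Subgroup ↥(H wM))⁆ = ⊤ :=
  perf_of (by rw [H_M]; exact perfect_SM)

section J

variable {Q : Type*} [Group Q] (f : ↥(H wJ) →* Q)

theorem sq_J (i : Fin 5) : f (gen wJ i) * f (gen wJ i) = 1 := by
  have h : t5 (wd (ex wJ (rpt [i] 2))) = true := by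
    revert i
    decide +kernel
  have h1 := rel wJ f h
  rwa [List.map_cons, List.map_nil, List.prod_singleton, pow_two] at h1

/-- **homomorphisms killing `e`** -/
theorem J_triv (h : f (gen wJ 4) = 1) (x : ↥(H wJ)) : f x = 1 := by
  have r1 := rel wJ f (W := [0, 1]) (n := 5) (by decide +kernel)
  have r2 := rel wJ f (W := [1, 2]) (n := 3) (by decide +kernel)
  have r3 := rel wJ f (W := [3, 4]) (n := 3) (by decide +kernel)
  have r4 : f (gen wJ 0) = (f (gen wJ 2) * f (gen wJ 3)) ^ 4 := by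
    have h1 := congrArg f (G_eq wJ (V := [0]) (W := rpt [2, 3] 4) (by decide +kernel))
    rw [G_rpt, map_pow] at h1
    simpa [G] using h1
  simp only [List.map_cons, List.map_nil, List.prod_cons, List.prod_nil, mul_one] at r1 r2 r3
  have hd : f (gen wJ 3) = 1 := by
    rw [h, mul_one] at r3
    exact one_of_odd (sq_J f 3) (by decide) r3
  have ha : f (gen wJ 0) = 1 := by
    have h4 : f (gen wJ 2) ^ 4 = (f (gen wJ 2) * f (gen wJ 2)) ^ 2 := by rw [← pow_two, ← pow_mul]
    rw [r4, hd, mul_one, h4, sq_J f 2, one_pow]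
  have hb : f (gen wJ 1) = 1 := by
    rw [ha, one_mul] at r1
    exact one_of_odd (sq_J f 1) (by decide) r1
  have hc : f (gen wJ 2) = 1 := by
    rw [hb, one_mul] at r2
    exact one_of_odd (sq_J f 2) (by decide) r2
  refine triv_of_gen wJ f (fun i => ?_) x
  fin_cases i
  · exact ha
  · exact hb
  · exact hc
  · exact hd
  · exact h

/-- **homomorphisms killing `a b`** -/
theorem J_triv' (h : f (gen wJ 0) * f (gen wJ 1) = 1) (x : ↥(H wJ)) : f x = 1 := by
  have r1 := rel wJ f (W := [0, 1, 2]) (n := 5) (by decide +kernel)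
  have r2 := rel wJ f (W := [1, 2]) (n := 3) (by decide +kernel)
  have r5 := rel wJ f (W := rpt [1, 2, 3, 2, 3] 5 ++ [4]) (n := 3) (by decide +kernel)
  simp only [List.map_cons, List.map_nil, List.prod_cons, List.prod_nil, mul_one, rpt, List.cons_append,
    List.nil_append, List.append_nil] at r1 r2 r5
  have hc : f (gen wJ 2) = 1 := by
    rw [← mul_assoc, h, one_mul] at r1
    exact one_of_odd (sq_J f 2) (by decide) r1
  have hb : f (gen wJ 1) = 1 := by
    rw [hc, mul_one] at r2
    exact one_of_odd (sq_J f 1) (by decide) r2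
  have hd2 : f (gen wJ 3) * f (gen wJ 3) = 1 := sq_J f 3
  have he : f (gen wJ 4) = 1 := by
    rw [hb, hc] at r5
    have h3 : ∀ y : Q, f (gen wJ 3) * (f (gen wJ 3) * y) = y := fun y => by rw [← mul_assoc, hd2, one_mul]
    simp only [one_mul, h3] at r5
    exact one_of_odd (sq_J f 4) (by decide) r5
  exact J_triv f he x

end J

/-! ### `M₁₂` -/

section M

variable {Q : Type*} [Group Q] (f : ↥(H wM) →* Q)

theorem sq_M (i : Fin 5) : f (gen wM i) * f (gen wM i) = 1 := by
  have h : t5 (wd (ex wM (rpt [i] 2))) = true := by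
    revert i
    decide +kernel
  have h1 := rel wM f h
  rwa [List.map_cons, List.map_nil, List.prod_singleton, pow_two] at h1

set_option Elab.async false in
/-- **homomorphisms killing `a`** -/
theorem M_triv (h : f (gen wM 0) = 1) (x : ↥(H wM)) : f x = 1 := by
  have r1 := rel wM f (W := [0, 1]) (n := 5) (by decide +kernel)
  have r2 := rel wM f (W := [1, 2]) (n := 3) (by decide +kernel)
  have r4 := rel wM f (W := [0, 1, 4, 1, 2]) (n := 5) (by decide +kernel)
  have r5 := rel wM f (W := [1, 2, 3, 4, 1, 4]) (n := 11) (by (rewrite [show @Cfsg.Agent.SuzThree.Basic.t5 = delta% @Cfsg.Agent.SuzThree.Basic.t5 from by delta Cfsg.Agent.SuzThree.Basic.t5; rfl, show @Cfsg.Agent.SuzThree.Basic.mv = delta% @Cfsg.Agent.SuzThree.Basic.mv from by delta Cfsg.Agent.SuzThree.Basic.mv; rfl, Cfsg.Agent.Lib.PermNetFast.appWord_fast]; decide +kernel))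
  simp only [List.map_cons, List.map_nil, List.prod_cons, List.prod_nil, mul_one] at r1 r2 r4 r5
  have hb : f (gen wM 1) = 1 := by
    rw [h, one_mul] at r1
    exact one_of_odd (sq_M f 1) (by decide) r1
  have hc : f (gen wM 2) = 1 := by
    rw [hb, one_mul] at r2
    exact one_of_odd (sq_M f 2) (by decide) r2
  have hy : f (gen wM 4) = 1 := by
    rw [h, hb, hc, one_mul, one_mul, mul_one, mul_one] at r4
    exact one_of_odd (sq_M f 4) (by decide) r4
  have hd : f (gen wM 3) = 1 := by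
    rw [hb, hc, hy, one_mul, one_mul, mul_one, mul_one, mul_one] at r5
    exact one_of_odd (sq_M f 3) (by decide) r5
  refine triv_of_gen wM f (fun i => ?_) x
  fin_cases i
  · exact h
  · exact hb
  · exact hc
  · exact hd
  · exact hy

end M

end Cfsg.Agent.CpAutTwo.Suz

end

-- merged: Cfsg.Agent.CpAutTwo.SuzRow
section

/-!
# S1814, `p = 2`, row `Suz`: the outer involutions (helper38)

`C(ρ) = J₂.2`, `C(σ) = M₁₂.2`: the subgroups `HJ`, `HM` are perfect; a simple quotient has order divisible by 27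
(an extraspecial group of order 27 whose centre normally generates), hence is `J₂`, `M₁₂` by the divisibility engine.
-/

set_option autoImplicit false
set_option maxRecDepth 100000
set_option exponentiation.threshold 4000

namespace Cfsg.Agent.CpAutTwo.Suz

open Cfsg Cfsg.Spor Cfsg.Agent.Lib.PermNet Cfsg.Agent.Lib.PermNetOrbit Cfsg.Agent.SporadicRecognition.SuzPhi
  Cfsg.Agent.SporadicRecognition.SuzOrder Cfsg.Agent.SuzThree.Basic Cfsg.Agent.KFacts.SuzRho
open Cfsg.Agent.LThree (Comps)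
open Cfsg.Agent.CpAut Cfsg.Agent.OrdDiv
open Cfsg.Agent.SuzThree.CentA Cfsg.Agent.SuzThree.CentCard Cfsg.Agent.KFacts.SuzFix

/-- the second outer involution -/
local notation "σσ" => Cfsg.Agent.KFacts.SuzRho.sigma

universe u

/-- an extraspecial group of order 27 in words -/
theorem dvd_27 (ww : Fin 5 → List Suz.Gen) {Q : Type*} [Group Q] [Finite Q] (f : ↥(H ww) →* Q)
    {p q s : List (Fin 5)} (h1 : t5 (wd (ex ww (rpt p 3))) = true) (h2 : t5 (wd (ex ww (rpt q 3))) = true)
    (h3 : t5 (wd (ex ww (p ++ q) ++ (ex ww (s ++ (q ++ p))).reverse)) = true)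
    (h4 : t5 (wd (ex ww (s ++ p) ++ (ex ww (p ++ s)).reverse)) = true)
    (h5 : t5 (wd (ex ww (s ++ q) ++ (ex ww (q ++ s)).reverse)) = true) (hs : f (G ww s) ≠ 1) :
    27 ∣ Nat.card Q := by
  have e1 := G_one ww h1
  have e2 := G_one ww h2
  have e3 := G_eq ww h3
  have e4 := G_eq ww h4
  have e5 := G_eq ww h5
  rw [G_rpt] at e1 e2
  rw [G_append, G_append, G_append, ← mul_assoc] at e3
  rw [G_append, G_append] at e4 e5
  refine twentyseven_dvd (p := f (G ww p)) (q := f (G ww q)) (s := f (G ww s)) ?_ ?_ ?_ ?_ ?_ hs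
  · rw [← map_pow, e1, map_one]
  · rw [← map_pow, e2, map_one]
  · rw [← map_mul, e3, map_mul, map_mul]
  · rw [← map_mul, e4, map_mul]
  · rw [← map_mul, e5, map_mul]

/-- a subgroup of index at most two -/
theorem comps_of_index {X : Type u} [Group X] [Finite X] (K : Subgroup X) (hK : InC 2 ↥K)
    (hi : Nat.card X ≤ 2 * Nat.card ↥K) : Comps 2 X := by
  have h1 := K.card_mul_index
  have h2 : 0 < Nat.card ↥K := Nat.card_pos
  have h3 : K.index ≤ 2 := by
    by_contra h4
    have h5 : Nat.card ↥K * 3 ≤ Nat.card ↥K * K.index := Nat.mul_le_mul_left _ (by omega)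
    omega
  have h4 : 0 < K.index := Nat.pos_of_ne_zero (Subgroup.FiniteIndex.index_ne_zero)
  have h5 : K.index = 1 ∨ K.index = 2 := by omega
  rcases h5 with h5 | h5
  · rw [Subgroup.index_eq_one] at h5
    have hn : K.Normal := by
      rw [h5]
      infer_instance
    exact comps_of_sq K hK fun g => h5 ▸ Subgroup.mem_top _
  · have hn : K.Normal := Subgroup.normal_of_index_eq_two h5
    exact comps_of_sq K hK fun g => Subgroup.mul_self_mem_of_index_two h5 g

/-! ### `J₂` -/

/-- elements of order 3 -/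
def pJ : List (Fin 5) := [0, 1, 0, 2, 1, 0, 1]
/-- elements of order 3 -/
def qJ : List (Fin 5) := [1, 3, 2, 3]
/-- their commutator -/
def sJ : List (Fin 5) := pJ ++ (qJ ++ (pJ.reverse ++ qJ.reverse))

theorem eq_stab : H wJ = stabL φ [1575, 0] := by
  rw [H_J, ← J_eq]
  rfl

theorem card_HJ : Nat.card ↥(H wJ) = 604800 := by rw [eq_stab, card_J]

theorem not_triv {Γ : Type*} [Group Γ] {N : Subgroup Γ} [N.Normal] (hN : N ≠ ⊤) :
    ¬ ∀ x, (QuotientGroup.mk' N) x = 1 := fun h =>
  hN (eq_top_iff.2 fun x _ => (QuotientGroup.eq_one_iff x).1 (h x))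

theorem dvd_J (N : Subgroup ↥(H wJ)) (hN : N.Normal) (hNt : N ≠ ⊤) : 135 ∣ Nat.card (↥(H wJ) ⧸ N) := by
  have hfin := CTwoTab.Suz.finSuz
  have hnt := not_triv hNt
  set f := QuotientGroup.mk' N
  have h27 : 27 ∣ Nat.card (↥(H wJ) ⧸ N) := by
    refine dvd_27 wJ f (p := pJ) (q := qJ) (s := sJ) (by decide +kernel) (by decide +kernel) (by decide +kernel)
      (by decide +kernel) (by decide +kernel) fun h => hnt (J_triv f ?_)
    have h1 := G_one wJ (W := rpt (sJ ++ [4]) 3) (by decide +kernel)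
    rw [G_rpt, G_append] at h1
    have h2 := congrArg f h1
    rw [map_pow, map_mul, h, one_mul, map_one] at h2
    have h3 : G wJ [4] = gen wJ 4 := by
      rw [G, List.map_cons, List.map_nil, List.prod_singleton]
    rw [h3] at h2
    exact one_of_odd (sq_J f 4) (by decide) h2
  have h5 : 5 ∣ Nat.card (↥(H wJ) ⧸ N) := by
    have h1 := rel wJ f (W := [0, 1]) (n := 5) (by decide +kernel)
    simp only [List.map_cons, List.map_nil, List.prod_cons, List.prod_nil, mul_one] at h1
    have h2 : f (gen wJ 0) * f (gen wJ 1) ≠ 1 := fun h => hnt (J_triv' f h)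
    have : Fact (Nat.Prime 5) := ⟨by norm_num⟩
    have h3 := orderOf_eq_prime h1 h2
    rw [← h3]
    exact orderOf_dvd_natCard _
  exact Nat.Coprime.mul_dvd_of_dvd_of_dvd (by norm_num) h27 h5

theorem list_J : (cands [(2, 7), (3, 3), (5, 2), (7, 1)] 604800).filter (fun g => ordN g % 135 == 0) = [.j2] := by
  decide +kernel

/-- **`HJ` is simple** -/
theorem simple_J (hS : AllKnown.{0}) (T : OrderTable.{0}) :
    IsSimpleGroup ↥(H wJ) ∧ ¬ IsMulCommutative ↥(H wJ) ∧ Spor.IsoJ2 ↥(H wJ) := by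
  have hfin := CTwoTab.Suz.finSuz
  have hnt : Nontrivial ↥(H wJ) := by
    apply Finite.one_lt_card_iff_nontrivial.1
    rw [card_HJ]
    norm_num
  obtain ⟨N, hN, hs, hna, g, hg, hr, hc⟩ := exists_quot hS T perf_J (l := [(2, 7), (3, 3), (5, 2), (7, 1)])
    (n := 604800) (by decide +kernel) (by rw [card_HJ]) (fun n => n % 135 == 0)
    (fun N hN hNt => by
      rw [beq_iff_eq]
      exact Nat.mod_eq_zero_of_dvd (dvd_J N hN hNt))
  rw [list_J, List.mem_singleton] at hg
  subst hg
  have h1 : N = ⊥ := by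
    have h2 := Subgroup.card_eq_card_quotient_mul_card_subgroup N
    rw [hc, card_HJ, show ordN .j2 = 604800 from spor_ord (.j2, 604800) (by decide)] at h2
    rw [← Subgroup.card_eq_one]
    omega
  have e : ↥(H wJ) ⧸ N ≃* ↥(H wJ) := (QuotientGroup.quotientMulEquivOfEq h1).trans QuotientGroup.quotientBot
  refine ⟨e.symm.isSimpleGroup, fun h => hna fun a b => ?_, ?_⟩
  · apply e.injective
    rw [map_mul, map_mul]
    exact h.is_comm.comm _ _
  · obtain ⟨e'⟩ := hr
    exact ⟨e.symm.trans e'⟩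

theorem card_rho_le : Nat.card ↥(fixedSubgroup rho) ≤ 2 * 604800 := by
  have hfin := CTwoTab.Suz.finSuz
  obtain ⟨F, hF⟩ : ∃ F : Subgroup Suz, F = fixedSubgroup rho := ⟨_, rfl⟩
  have hmem : ∀ g, g ∈ F ↔ rho g = g := fun g => by rw [hF]; exact Iff.rfl
  rw [← hF]
  have h1 : Nat.card F ≤ 2 * Nat.card (stabL (φS F) [0]) := by
    have h := KFacts.SuzTwoB.stabL_le (φS F) [] 0 {0, 1575} (fun g _ => by
      rcases zero_of_rho ((hmem g).1 g.2) with h | h
      · rw [φS_apply, h]; simp
      · rw [φS_apply, h]; simp)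
    rw [stabL_nil] at h
    exact h.trans (Nat.mul_le_mul_right _ (by decide))
  have h2 : Nat.card (stabL (φS F) [0]) ≤ Nat.card (stabL φ [1575, 0]) := by
    refine Nat.card_le_card_of_injective (fun g : stabL (φS F) [0] =>
      (⟨((g : F) : Suz), ?_⟩ : stabL φ [1575, 0])) ?_
    · intro q hq
      have h0 : φ ((g : F) : Suz) 0 = 0 := g.2 0 (by simp)
      simp only [List.mem_cons, List.not_mem_nil, or_false] at hq
      rcases hq with rfl | rfl
      · have h3 := rho_fix h0
        rwa [(hmem _).1 (g : F).2] at h3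
      · exact h0
    · intro g g' h
      have h3 := congrArg Subtype.val h
      exact Subtype.ext (Subtype.ext h3)
  rw [card_J] at h2
  omega

/-- **`C(ρ)`** -/
theorem comps_rho (hS : AllKnown.{0}) (T : OrderTable.{0}) : Comps 2 ↥(fixedSubgroup rho) := by
  have hfin := CTwoTab.Suz.finSuz
  have hle : H wJ ≤ fixedSubgroup rho := by
    rw [eq_stab]
    exact fun g hg => rho_J hg
  have e : ↥((H wJ).subgroupOf (fixedSubgroup rho)) ≃* ↥(H wJ) := Subgroup.subgroupOfEquivOfLe hle
  obtain ⟨hs, hna, ⟨ej⟩⟩ := simple_J hS T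
  have hs' : IsSimpleGroup ↥((H wJ).subgroupOf (fixedSubgroup rho)) := e.isSimpleGroup
  refine comps_of_index _ (inC_two (fun h => hna ⟨⟨fun a b => ?_⟩⟩) (cp_of_real (g := .j2) rfl ⟨e.trans ej⟩)) ?_
  · apply e.symm.injective
    rw [map_mul, map_mul]
    exact h.is_comm.comm _ _
  · rw [Nat.card_congr e.toEquiv, card_HJ]
    exact card_rho_le

/-! ### `M₁₂` -/

/-- elements of order 3 -/
def pM : List (Fin 5) := [1, 0, 1, 0, 4, 1, 4, 1]
/-- elements of order 3 -/
def qM : List (Fin 5) := [1, 0, 1, 0, 2, 1]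
/-- their commutator -/
def sM : List (Fin 5) := pM ++ (qM ++ (pM.reverse ++ qM.reverse))

set_option Elab.async false in
theorem dvd_M (N : Subgroup ↥(H wM)) (hN : N.Normal) (hNt : N ≠ ⊤) : 27 ∣ Nat.card (↥(H wM) ⧸ N) := by
  have hfin := CTwoTab.Suz.finSuz
  have hnt := not_triv hNt
  set f := QuotientGroup.mk' N
  refine dvd_27 wM f (p := pM) (q := qM) (s := sM) (by decide +kernel) (by decide +kernel) (by decide +kernel)
    (by (rewrite [show @Cfsg.Agent.SuzThree.Basic.t5 = delta% @Cfsg.Agent.SuzThree.Basic.t5 from by delta Cfsg.Agent.SuzThree.Basic.t5; rfl, show @Cfsg.Agent.SuzThree.Basic.mv = delta% @Cfsg.Agent.SuzThree.Basic.mv from by delta Cfsg.Agent.SuzThree.Basic.mv; rfl, Cfsg.Agent.Lib.PermNetFast.appWord_fast]; decide +kernel)) (by decide +kernel) fun h => hnt (M_triv f ?_)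
  have h1 := G_one wM (W := rpt (sM ++ [0]) 11) (by (rewrite [show @Cfsg.Agent.SuzThree.Basic.t5 = delta% @Cfsg.Agent.SuzThree.Basic.t5 from by delta Cfsg.Agent.SuzThree.Basic.t5; rfl, show @Cfsg.Agent.SuzThree.Basic.mv = delta% @Cfsg.Agent.SuzThree.Basic.mv from by delta Cfsg.Agent.SuzThree.Basic.mv; rfl, Cfsg.Agent.Lib.PermNetFast.appWord_fast]; decide +kernel))
  rw [G_rpt, G_append] at h1
  have h2 := congrArg f h1
  rw [map_pow, map_mul, h, one_mul, map_one] at h2
  have h3 : G wM [0] = gen wM 0 := by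
    rw [G, List.map_cons, List.map_nil, List.prod_singleton]
  rw [h3] at h2
  exact one_of_odd (sq_M f 0) (by decide) h2

theorem list_M : (cands [(2, 7), (3, 3), (5, 1), (11, 1)] 190080).filter (fun g => ordN g % 27 == 0) = [.m12] := by
  decide +kernel

theorem sigma_gen (i : Fin 5) : σσ (el (wM i)) = el (wM i) := by
  rw [sigma_el]
  fin_cases i
  · exact eq_of_reps (Rep.el _) (Rep.el _) (by decide +kernel)
  · exact eq_of_reps (Rep.el _) (Rep.el _) (by decide +kernel)
  · exact eq_of_reps (Rep.el _) (Rep.el _) (by decide +kernel)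
  · exact eq_of_reps (Rep.el _) (Rep.el _) (by decide +kernel)
  · exact eq_of_reps (Rep.el _) (Rep.el _) (by decide +kernel)

theorem HM_le : H wM ≤ fixedSubgroup σσ := by
  refine (Subgroup.closure_le _).2 ?_
  rintro _ ⟨i, rfl⟩
  exact sigma_gen i

theorem card_sigma : Nat.card ↥(fixedSubgroup σσ) = 190080 := by
  have h1 : MulAut.congr (MulAut.conj (el [.e, .d])) tau = σσ := KFacts.SuzInvol.sigma_eq.symm
  rw [← h1, ← Nat.card_congr (fixEquiv (MulAut.conj (el [.e, .d])) tau).toEquiv]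
  exact card_tau fun g => Iff.rfl

/-- the centralizers of involutions of `Suz` have order prime to 11 -/
theorem not_eleven {n : Suz} (hn : n * n = 1) (hn1 : n ≠ 1) :
    ¬ 11 ∣ Nat.card ↥(Subgroup.centralizer ({n} : Set Suz)) := by
  have key : ∀ {s t : Suz}, IsConj s t → Nat.card ↥(Subgroup.centralizer ({t} : Set Suz)) =
      Nat.card ↥(Subgroup.centralizer ({s} : Set Suz)) := by
    intro s t h
    obtain ⟨c, rfl⟩ := isConj_iff.1 h
    have h1 := CTwoTab.map_centralizer_singleton (MulAut.conj c) s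
    rw [show c * s * c⁻¹ = MulAut.conj c s from rfl, ← h1]
    exact Subgroup.card_map_of_injective (MulAut.conj c).injective
  rcases CTwoTab.Suz.classes hn hn1 with h | h
  · rw [key h]
    have h1 : Nat.card ↥(Subgroup.centralizer ({z0} : Set Suz)) = 3317760 := SuzThree.CentCard.card_C1
    rw [h1]
    norm_num
  · rw [key h]
    have h1 : Nat.card ↥(Subgroup.centralizer ({KFacts.SuzLFour.e0} : Set Suz)) = 161280 := KFacts.SuzTwoB.card_CE
    rw [h1]
    norm_num

/-- **`HM` is simple** -/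
theorem simple_M (hS : AllKnown.{0}) (T : OrderTable.{0}) :
    IsSimpleGroup ↥(H wM) ∧ ¬ IsMulCommutative ↥(H wM) ∧ Spor.IsoM12 ↥(H wM) ∧
      Nat.card ↥(fixedSubgroup σσ) ≤ 2 * Nat.card ↥(H wM) := by
  have hfin := CTwoTab.Suz.finSuz
  have hd : Nat.card ↥(H wM) ∣ 190080 := by
    rw [← card_sigma]
    exact Subgroup.card_dvd_of_le HM_le
  have hnt : Nontrivial ↥(H wM) := by
    refine ⟨gen wM 0, 1, fun h => ?_⟩
    have h1 := congrArg Subtype.val h
    have h2 : el [.a] = 1 := h1
    have h3 : φ (el [.a]) 2 = 3 := (Rep.el _).pt (by decide +kernel)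
    rw [h2, map_one] at h3
    exact absurd h3 (by decide)
  obtain ⟨N, hN, hs, hna, g, hg, hr, hc⟩ := exists_quot hS T perf_M (l := [(2, 7), (3, 3), (5, 1), (11, 1)])
    (n := 190080) (by decide +kernel) hd (fun n => n % 27 == 0)
    (fun N hN hNt => by
      rw [beq_iff_eq]
      exact Nat.mod_eq_zero_of_dvd (dvd_M N hN hNt))
  rw [list_M, List.mem_singleton] at hg
  subst hg
  have hcard := Subgroup.card_eq_card_quotient_mul_card_subgroup N
  rw [hc, show ordN .m12 = 95040 from spor_ord (.m12, 95040) (by decide)] at hcard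
  have h1 : N = ⊥ := by
    by_contra hne
    have h2 : Nat.card ↥N ≠ 1 := fun h => hne (Subgroup.card_eq_one.1 h)
    have hpos : 0 < Nat.card ↥N := Nat.card_pos
    have h3 : Nat.card ↥N = 2 := by
      have := Nat.le_of_dvd (by norm_num) hd
      omega
    obtain ⟨n, hn⟩ : ∃ n : ↥N, n ≠ 1 := by
      by_contra hcon
      push Not at hcon
      apply h2
      have : Subsingleton ↥N := ⟨fun a b => by rw [hcon a, hcon b]⟩
      exact Nat.card_eq_one_iff_unique.2 ⟨this, ⟨1⟩⟩
    have hu : ∀ m : ↥N, m ≠ 1 → m = n := by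
      classical
      intro m hm
      by_contra hmn
      have h4 : ({1, n, m} : Finset ↥N).card = 3 := by
        rw [Finset.card_eq_three]
        exact ⟨1, n, m, hn.symm, hm.symm, fun h => hmn h.symm, rfl⟩
      have h5 : ({1, n, m} : Finset ↥N).card ≤ Nat.card ↥N := by
        have := Fintype.ofFinite ↥N
        rw [Nat.card_eq_fintype_card]
        exact Finset.card_le_univ _
      omega
    have hcen : ∀ g : ↥(H wM), g * (n : ↥(H wM)) = n * g := by
      intro g
      have h4 : g * (n : ↥(H wM)) * g⁻¹ ∈ N := hN.conj_mem _ n.2 g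
      have h5 := hu ⟨_, h4⟩ (fun h => hn (Subtype.ext (by
        have h6 : g * (n : ↥(H wM)) * g⁻¹ = 1 := congrArg Subtype.val h
        exact conj_eq_one_iff.1 h6)))
      have h6 : g * (n : ↥(H wM)) * g⁻¹ = n := congrArg Subtype.val h5
      exact mul_inv_eq_iff_eq_mul.1 h6
    have hnn : ((n : ↥(H wM)) : Suz) * n = 1 := by
      have h4 : n ^ 2 = 1 := by rw [← h3]; exact pow_card_eq_one'
      rw [pow_two] at h4
      exact congrArg (fun x : ↥N => ((x : ↥(H wM)) : Suz)) h4
    refine not_eleven hnn (fun h => hn (Subtype.ext (Subtype.ext h))) ?_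
    have h6 : H wM ≤ Subgroup.centralizer ({((n : ↥(H wM)) : Suz)} : Set Suz) := by
      intro g hg
      rw [Subgroup.mem_centralizer_singleton_iff]
      exact congrArg Subtype.val (hcen ⟨g, hg⟩)
    refine dvd_trans ?_ (Subgroup.card_dvd_of_le h6)
    rw [hcard, h3]
    norm_num
  have e : ↥(H wM) ⧸ N ≃* ↥(H wM) := (QuotientGroup.quotientMulEquivOfEq h1).trans QuotientGroup.quotientBot
  refine ⟨e.symm.isSimpleGroup, fun h => hna fun a b => ?_, ?_, ?_⟩
  · apply e.injective
    rw [map_mul, map_mul]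
    exact h.is_comm.comm _ _
  · obtain ⟨e'⟩ := hr
    exact ⟨e.symm.trans e'⟩
  · rw [card_sigma, hcard, h1, Subgroup.card_bot]

/-- **`C(σ)`** -/
theorem comps_sigma (hS : AllKnown.{0}) (T : OrderTable.{0}) : Comps 2 ↥(fixedSubgroup σσ) := by
  have hfin := CTwoTab.Suz.finSuz
  have e : ↥((H wM).subgroupOf (fixedSubgroup σσ)) ≃* ↥(H wM) := Subgroup.subgroupOfEquivOfLe HM_le
  obtain ⟨hs, hna, ⟨ej⟩, hc⟩ := simple_M hS T
  have hs' : IsSimpleGroup ↥((H wM).subgroupOf (fixedSubgroup σσ)) := e.isSimpleGroup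
  refine comps_of_index _ (inC_two (fun h => hna ⟨⟨fun a b => ?_⟩⟩) (cp_of_real (g := .m12) rfl ⟨e.trans ej⟩)) ?_
  · apply e.symm.injective
    rw [map_mul, map_mul]
    exact h.is_comm.comm _ _
  · rw [Nat.card_congr e.toEquiv]
    exact hc

/-- **Outer involutions of `Suz`.** -/
theorem outer (hS : AllKnown.{0}) (T : OrderTable.{0}) : OuterC Cfsg.Spor.Suz := by
  intro x hx hout
  have hxx : x * x = 1 := by rw [← pow_two, ← hx, pow_orderOf_eq_one]
  rcases KFacts.SuzInvol.outer hxx (fun s hs => hout ⟨s, hs⟩) with ⟨g, h⟩ | ⟨g, h⟩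
  · exact comps_conj g h (comps_rho hS T)
  · refine comps_conj (g * (el [.e, .d])⁻¹) (x := σσ) ?_ (comps_sigma hS T)
    rw [h, KFacts.SuzInvol.sigma_eq, map_mul, map_inv]
    group

end Cfsg.Agent.CpAutTwo.Suz

end

-- merged: Cfsg.Agent.CpAut.TwoOuter
section

/-!
# S1814, `p = 2`: the rows `J₂`, `Suz` (helper31)
-/

set_option autoImplicit false

namespace Cfsg.Agent.CpAut.TwoOuter

open Subgroup Cfsg

theorem j2 (hS : AllKnown.{0}) (T : OrdDiv.OrderTable.{0}) : AutC 2 Spor.J2 := by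
  have hcard : Nat.card Spor.J2 = 604800 := S1619.result.2.2.2
  have : Finite Spor.J2 := Nat.finite_of_card_ne_zero (by rw [hcard]; norm_num)
  exact CpAutTwo.autC_two (TwoInner.center_eq_bot_of_card S1620.result.1 (by rw [hcard]; norm_num))
    (CTwoTab.JTwo.compC2_of_iso ⟨MulEquiv.refl _⟩) (CpAutTwo.JTwo.outer hS T)

theorem suz (hS : AllKnown.{0}) (T : OrdDiv.OrderTable.{0}) : AutC 2 Spor.Suz := by
  have hcard := SporadicRecognition.SuzOrder.card_Suz
  have : Finite Spor.Suz := CTwoTab.Suz.finSuz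
  exact CpAutTwo.autC_two (TwoInner.center_eq_bot_of_card SporadicRecognition.SuzOrder.simple
    (by rw [hcard]; norm_num)) CTwoTab.Suz.compC2 (CpAutTwo.Suz.outer hS T)

end Cfsg.Agent.CpAut.TwoOuter

end

private theorem dce_f7bd7686fd51 : _root_.True := by
  try have : _root_.True := by simp only [_root_.Cfsg.Agent.CpAutTwo.goodTwo.eq_12]
  try have : _root_.True := by simp only [_root_.Cfsg.Agent.CpAutTwo.Suz.rpt.eq_2]
  try have : _root_.True := by simp only [_root_.Cfsg.Agent.CpAutTwo.goodTwo.eq_14]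
  try have : _root_.True := by simp only [_root_.Cfsg.Agent.CpAutTwo.goodTwo.eq_6]
  try have : _root_.True := by simp only [_root_.Cfsg.Agent.CpAutTwo.Suz.rpt.eq_1]
  try have : _root_.True := by simp only [_root_.Cfsg.Agent.CpAutTwo.goodTwo.eq_3]
  try have : _root_.True := by simp only [_root_.Cfsg.Agent.CpAutTwo.goodTwo.eq_17]
  try have : _root_.True := by simp only [_root_.Cfsg.Agent.CpAutTwo.goodTwo.eq_2]
  try have : _root_.True := by simp only [_root_.Cfsg.Agent.CpAutTwo.goodTwo.eq_16]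
  try have : _root_.True := by simp only [_root_.Cfsg.Agent.CpAutTwo.goodTwo.eq_4]
  try have : _root_.True := by simp only [_root_.Cfsg.Agent.CpAutTwo.goodTwo.eq_8]
  try have : _root_.True := by simp only [_root_.Cfsg.Agent.CpAutTwo.Suz.ex.eq_1]
  try have : _root_.True := by simp only [_root_.Cfsg.Agent.CpAutTwo.goodTwo._sparseCasesOn_1.else_eq]
  try have : _root_.True := by simp only [_root_.Cfsg.Agent.CpAutTwo.goodTwo.eq_11]
  try have : _root_.True := by simp only [_root_.Cfsg.Agent.CpAutTwo.Suz.rpt.eq_def]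
  try have : _root_.True := by simp only [_root_.Cfsg.Agent.CpAutTwo.Suz.H.eq_1]
  try have : _root_.True := by simp only [_root_.Cfsg.Agent.CpAutTwo.goodTwo.eq_1]
  try have : _root_.True := by simp only [_root_.Cfsg.Agent.CpAutTwo.goodTwo.eq_15]
  try have : _root_.True := by simp only [_root_.Cfsg.Agent.CpAutTwo.Suz.G.eq_1]
  try have : _root_.True := by simp only [_root_.Cfsg.Agent.CpAutTwo.goodTwo.eq_10]
  try have : _root_.True := by simp only [_root_.Cfsg.Agent.CpAutTwo.goodTwo.eq_13]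
  try have : _root_.True := by simp only [_root_.Cfsg.Agent.CpAutTwo.goodTwo.eq_9]
  try have : _root_.True := by simp only [_root_.Cfsg.Agent.CpAutTwo.goodTwo.eq_7]
  try have : _root_.True := by simp only [_root_.Cfsg.Agent.CpAutTwo.goodTwo.eq_5]
  exact _root_.True.intro
end

-- part: H287/FixSuz
section
prune_inst 0x20104400382200000018000000002420100000020043000100400502000100012005060102600410110204702802804001100009423800002a008a0040040000042020c010001000010000406003180c00000000000000000000000000000000000000000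
set_option linter.all false
open scoped Cfsg.Agent.FastGrp

/-!
# `Suz`: the order of the centralizer of an outer involutory automorphism (helper287)

`dvd_card` : `64` divides `|C_X(x)|` for an outer involutory automorphism `x` of `X = Suz`.
-/

set_option autoImplicit false

namespace Cfsg.Agent.H287

open Subgroup Cfsg
open Cfsg.Agent.CpAut

universe u v

/-- `n` divides the order of the centralizer of every outer involutory automorphism of `X` -/
def OutDvd (n : ℕ) (X : Type*) [Group X] : Prop :=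
  ∀ x : MulAut X, orderOf x = 2 → (¬ ∃ g : X, x = MulAut.conj g) → n ∣ Nat.card ↥(fixedSubgroup x)

theorem OutDvd.of_equiv {n : ℕ} {X : Type u} {Y : Type v} [Group X] [Group Y] (e : X ≃* Y) (h : OutDvd n X) :
    OutDvd n Y := by
  intro y hy hout
  have h1 : MulAut.congr e ((MulAut.congr e).symm y) = y := (MulAut.congr e).apply_symm_apply y
  have h2 : orderOf ((MulAut.congr e).symm y) = 2 := by rw [MulEquiv.orderOf_eq, hy]
  have h3 : ¬ ∃ g : X, (MulAut.congr e).symm y = MulAut.conj g := by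
    rintro ⟨g, hg⟩
    apply hout
    refine ⟨e g, ?_⟩
    rw [← h1, hg]
    ext b
    change e (g * e.symm b * g⁻¹) = e g * b * (e g)⁻¹
    rw [map_mul, map_mul, e.apply_symm_apply, map_inv]
  have h4 := h _ h2 h3
  rw [Nat.card_congr (fixEquiv e ((MulAut.congr e).symm y)).toEquiv] at h4
  rwa [h1] at h4

namespace FixSuz

open Cfsg.Agent.CpAutTwo.Suz
open Cfsg.Agent.KFacts.SuzRho Cfsg.Agent.KFacts.SuzFix

local notation "σσ" => Cfsg.Agent.KFacts.SuzRho.sigma

theorem card_conj {X : Type u} [Group X] (g : X) {x y : MulAut X} (h : y = MulAut.conj g * x * (MulAut.conj g)⁻¹) :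
    Nat.card ↥(fixedSubgroup y) = Nat.card ↥(fixedSubgroup x) := by
  have h1 : MulAut.congr (MulAut.conj g) x = MulAut.conj g * x * (MulAut.conj g)⁻¹ := rfl
  rw [h, ← h1]
  exact (Nat.card_congr (fixEquiv (MulAut.conj g) x).toEquiv).symm

theorem suz : OutDvd 64 Spor.Suz := by
  intro x hx hout
  have hxx : x * x = 1 := by rw [← pow_two, ← hx, pow_orderOf_eq_one]
  rcases KFacts.SuzInvol.outer hxx (fun s hs => hout ⟨s, hs⟩) with ⟨g, h⟩ | ⟨g, h⟩
  · rw [card_conj g h]
    have hle : H wJ ≤ fixedSubgroup rho := by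
      rw [eq_stab]
      exact fun g hg => rho_J hg
    have h1 := card_dvd_of_le hle
    rw [card_HJ] at h1
    exact dvd_trans (by norm_num) h1
  · have h1 : x = MulAut.conj (g * (SporadicRecognition.SuzOrder.el [.e, .d])⁻¹) * σσ *
        (MulAut.conj (g * (SporadicRecognition.SuzOrder.el [.e, .d])⁻¹))⁻¹ := by
      rw [h, KFacts.SuzInvol.sigma_eq, map_mul, map_inv]
      group
    rw [card_conj _ h1, card_sigma]
    norm_num

end FixSuz

/-- **`64 ∣ |C_X(x)|` for the outer involutory automorphisms of `Suz`** -/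
theorem dvd_suz {X : Type u} [Group X] (h : Spor.IsoSuz X) {x : MulAut X} (hx : orderOf x = 2)
    (hout : ¬ ∃ g : X, x = MulAut.conj g) : 64 ∣ Nat.card ↥(fixedSubgroup x) := by
  obtain ⟨e⟩ := h
  exact FixSuz.suz.of_equiv e.symm x hx hout

end Cfsg.Agent.H287
end
end
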