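import Mathlib
import Cfsg.Agent.CpAut.Base
import Cfsg.Agent.CTwoTab.Good
import Cfsg.Agent.ClassicalGeometry.AutPSL.Main
import Cfsg.Agent.S0256
import Cfsg.Agent.GH.Cov.LieL4
import Cfsg.Agent.SmallSimple.Embed
import Cfsg.Agent.S0243
import Cfsg.Agent.S0245
import Cfsg.Agent.S0246
import Cfsg.Agent.S0249
import Cfsg.Agent.S0270
import Cfsg.Agent.S0299
import Cfsg.Agent.S0300
import Cfsg.Agent.S0822
import Cfsg.Agent.LieClassical.Order72
import Cfsg.Agent.ResEven.LFour.Core
import Cfsg.Agent.LieClassical.SympCenter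
import Cfsg.Agent.S0752
import Cfsg.Agent.GenOrth.Normal
import Cfsg.Agent.LieClassical.OrthCenter
import Cfsg.Prelude.Def_SevenCases
import Cfsg.Agent.CpAut.Alt
import Cfsg.Agent.GTwoRows.Base
import Cfsg.Agent.S0799
import Cfsg.Agent.S0307
import Cfsg.Agent.S0253
import Cfsg.Agent.CpAut.TwoFrame
import Cfsg.Agent.EvenType.ChevTwo
import Cfsg.Agent.EvenType.CharTwoCent
import Cfsg.Agent.OddHalf.D8.HS.Elim_m3
import Cfsg.Agent.OddHalf.Small.L2
import Cfsg.Agent.OddHalf.Small.M24Char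
import Cfsg.Agent.SevenCases.SporTh
import Cfsg.Agent.SevenCases.SporJ4
import Cfsg.Agent.SevenCases.SporCo2
import Cfsg.Agent.CpAut.TwoTool
import Cfsg.Agent.H393.Iso.J23
import Cfsg.Agent.CoThreeStd.AutCent
import Cfsg.Agent.CoThreeStd.AutInv
import Cfsg.Agent.AschSpor.MTwelve
import Cfsg.Agent.Sigma.Frame
import Cfsg.Agent.S0144
import Cfsg.Agent.CTwoTab.Ru
import Cfsg.Agent.OddHalf.D5.DblClean_m3
import Cfsg.Agent.RuRed.Final768_m3
import Cfsg.Agent.CTwoTab.Fi23Fin
import Cfsg.Agent.S1697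
import Cfsg.Agent.CTwoTab.Co1
import Cfsg.Agent.ConwayFacts.AutCo1
import Cfsg.Agent.S0399
import Cfsg.Agent.KFacts.MonsterM
import Cfsg.Agent.MonsterX.InstanceFinal_m3
import Cfsg.Agent.H850.MonSub
import Cfsg.Agent.S1705
import Cfsg.Agent.H287.FixSuz
import Cfsg.Agent.OddHalf.D4.Spor.FiTF_m3
import Cfsg.Agent.R08.NoFpf
import Cfsg.Agent.H237.EvenFi
import Cfsg.Agent.R08.TetBasic
import Cfsg.Agent.CTwoTab.Fi22
import Cfsg.Agent.Schreier.Tools
import Cfsg.Agent.KFacts.FiTF.FrameF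
import Cfsg.Agent.ResEven.LFour.Row
import Cfsg.Agent.CTwoTab.HS
import Cfsg.Agent.HN.IotaCent
import Cfsg.Agent.HN.CentUp
import Cfsg.Agent.KFacts.HS.Sheet2_m3
import Cfsg.Agent.HN.HypKill2
import Cfsg.Agent.HN.HypFacts
import Cfsg.Agent.CpAut.TwoTab
import Cfsg.Agent.CpAut.TwoInnerB
import Cfsg.Agent.CpAut.Fi22Row
import Cfsg.Agent.H340.BabyTe
import Cfsg.Agent.CTwoTab.Monster
import Cfsg.Agent.CTwoTab.HN
import Cfsg.Agent.H287.FixCard
import Cfsg.Agent.FastGrp
import Cfsg.Agent.Prune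
set_option linter.all false

section
prune_inst 0x7ff0bcfbebf839dfffff7e7fffdddffdfdb8ffffeffff9cb7fec69ff2fdf6b02c9c5fb858bea52fe1ff6621410f87b53fffffeffe26fdc7ffffd5ff45ffbff9fffffbd08519e88b41fbc6ffff3f07f8e7f3fffffffffffffffffffffffffffbeffbfffffffff

-- part: CpAut/TwoAll
section
set_option linter.all false
open scoped Cfsg.Agent.FastGrp

-- part: CpAutTwo/LFour/Orth
section
-- merged: Cfsg.Agent.CpAutTwo.LFour.Base
section

/-!
# S1814, `p = 2`, row `L₄(3)`: tools (helper60)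

* `inC_of_simple`, `comps_sub`, `comps_sub_solv` : a subgroup between `C''` and `C`;
* `Simi B`, `Iso B` : similarities and isometries of the form `B` in `SL₄(3)`; `mem_fix` : the fixed points of a graph
  automorphism; `comps_graph`, `comps_graph_solv`.
-/

set_option autoImplicit false

namespace Cfsg.Agent.CpAutTwo.LFour

open Matrix Subgroup Cfsg
open Cfsg.Agent.LThree (Comps)
open Cfsg.Agent.ClassicalGeometry.AutPSL.Auto Cfsg.Agent.ClassicalGeometry.AutPSL.Root

universe u v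

abbrev F3 := ZMod 3
abbrev M4 := Matrix (Fin 4) (Fin 4) F3
abbrev SL4 := _root_.Matrix.SpecialLinearGroup (Fin 4) F3
abbrev L4 := ProjectiveSpecialLinearGroup (Fin 4) F3
abbrev GL4 := GL (Fin 4) F3

/-! ### abstract part -/

theorem inC_of_simple {K : Type*} [Group K] [IsSimpleGroup K] (hna : ¬ IsMulCommutative K) (h : IsCpSimple 2 K) :
    InC 2 K := by
  have g := CTwoTab.good_of_simple hna h
  refine ⟨CTwoTab.isQuasisimple_of_simple hna, ?_, g.1, g.2⟩
  rw [CTwoTab.center_eq_bot_of_simple hna]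
  exact IsPGroup.of_bot

theorem map_derivedSeries_two {X : Type*} [Group X] (C : Subgroup X) :
    (derivedSeries ↥C 2).map C.subtype = ⁅⁅C, C⁆, ⁅C, C⁆⁆ := by
  rw [derivedSeries_succ, map_commutator, derivedSeries_succ, map_commutator, derivedSeries_zero,
    ← MonoidHom.range_eq_map, range_subtype]

theorem comps_sub {X : Type u} [Group X] [Finite X] (C N : Subgroup X) (hNC : N ≤ C) (hN : InC 2 ↥N)
    (h2 : ⁅⁅C, C⁆, ⁅C, C⁆⁆ ≤ N) : Comps 2 ↥C := by
  have e : ↥(N.subgroupOf C) ≃* ↥N := subgroupOfEquivOfLe hNC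
  have h3 : InC 2 ↥(N.subgroupOf C) := (CpQuot.Congr.inC_iff e 2).2 hN
  have h4 : derivedSeries ↥C 2 ≤ N.subgroupOf C := by
    intro x hx
    apply h2
    rw [← map_derivedSeries_two]
    exact ⟨x, hx, rfl⟩
  have h5 : ⁅N.subgroupOf C, N.subgroupOf C⁆ = N.subgroupOf C := by
    have h6 : _root_.commutator ↥(N.subgroupOf C) = ⊤ := Group.isPerfect_def.1 h3.1.1
    have h7 := congrArg (Subgroup.map (N.subgroupOf C).subtype) h6
    rw [_root_.commutator_def, map_commutator, ← MonoidHom.range_eq_map, range_subtype] at h7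
    exact h7
  have h6 : N.subgroupOf C = derivedSeries ↥C 2 := le_antisymm (LThree.le_derivedSeries_of_perfect h5 2) h4
  have h7 : (N.subgroupOf C).Normal := by rw [h6]; infer_instance
  refine Comps.of_normal Nat.prime_two (N.subgroupOf C) h3 ?_
  refine ⟨2, ?_⟩
  rw [← map_derivedSeries_eq (QuotientGroup.mk'_surjective (N.subgroupOf C)), Subgroup.map_eq_bot_iff,
    QuotientGroup.ker_mk']
  exact h4

theorem comps_sub_solv {X : Type u} [Group X] [Finite X] (C N : Subgroup X) (hN : Group.IsSolvable ↥N)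
    (h2 : ⁅⁅C, C⁆, ⁅C, C⁆⁆ ≤ N) : Comps 2 ↥C := by
  apply Comps.of_solvable
  have h3 : Group.IsSolvable ↥(derivedSeries ↥C 2) := by
    have h4 : ∀ x : ↥(derivedSeries ↥C 2), (x : X) ∈ N := by
      intro x
      apply h2
      rw [← map_derivedSeries_two]
      exact ⟨x.1, x.2, rfl⟩
    let f : ↥(derivedSeries ↥C 2) →* ↥N := ((C.subtype.comp (derivedSeries ↥C 2).subtype).codRestrict N h4)
    have hf : Function.Injective f := by
      intro a b hab
      have h5 : ((f a : ↥N) : X) = ((f b : ↥N) : X) := by rw [hab]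
      exact Subtype.ext (Subtype.ext h5)
    exact Group.isSolvable_of_isSolvable_injective hf
  have h4 : Group.IsSolvable (↥C ⧸ derivedSeries ↥C 2) := by
    refine ⟨2, ?_⟩
    rw [← map_derivedSeries_eq (QuotientGroup.mk'_surjective (derivedSeries ↥C 2)), Subgroup.map_eq_bot_iff,
      QuotientGroup.ker_mk']
  exact (Group.isSolvable_iff_subgroup_quotient (derivedSeries ↥C 2)).2 ⟨h3, h4⟩

/-- the image of a group modulo its centre -/
theorem inC_range {G X : Type*} [Group G] [Group X] (f : G →* X) (hf : ∀ k, f k = 1 ↔ k ∈ center G)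
    (hG : InC 2 (G ⧸ center G)) : InC 2 ↥f.range := by
  have h1 : f.ker = center G := by
    ext k
    rw [MonoidHom.mem_ker]
    exact hf k
  have e : G ⧸ center G ≃* ↥f.range :=
    (QuotientGroup.quotientMulEquivOfEq h1.symm).trans (QuotientGroup.quotientKerEquivRange f)
  exact (CpQuot.Congr.inC_iff e 2).1 hG

end Cfsg.Agent.CpAutTwo.LFour

end

-- merged: Cfsg.Agent.CpAutTwo.LFour.Forms
section

/-!
# S1814, `p = 2`, row `L₄(3)`: forms and graph automorphisms (helper60)

* `Simi B`, `Iso B` : similarities and isometries of the form `B` in `SL₄(3)`; `mem_simi_of_fix`, `fix_of_iso` : the fixed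
  points of a graph automorphism; `comps_graph`, `comps_graph_solv`;
* `cases_aut` : the automorphisms of order 2.
-/

set_option autoImplicit false

namespace Cfsg.Agent.CpAutTwo.LFour

open Matrix Subgroup Cfsg
open Cfsg.Agent.LThree (Comps)
open Cfsg.Agent.ClassicalGeometry.AutPSL.Auto Cfsg.Agent.ClassicalGeometry.AutPSL.Root

universe u v

/-- `gᵀ X g` -/
def act (g : SL4) (X : M4) : M4 := g.1ᵀ * X * g.1

theorem act_mul (g h : SL4) (X : M4) : act (g * h) X = act h (act g X) := by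
  show (g.1 * h.1)ᵀ * X * (g.1 * h.1) = h.1ᵀ * (g.1ᵀ * X * g.1) * h.1
  rw [transpose_mul]
  simp only [mul_assoc]

theorem act_one (X : M4) : act 1 X = X := by
  show (1 : M4)ᵀ * X * 1 = X
  rw [transpose_one, one_mul, mul_one]

theorem act_smul (g : SL4) (c : F3) (X : M4) : act g (c • X) = c • act g X := by
  show g.1ᵀ * (c • X) * g.1 = c • (g.1ᵀ * X * g.1)
  rw [Matrix.mul_smul, Matrix.smul_mul]

theorem act_inv {g : SL4} {c : F3} {X : M4} (hc : c * c = 1) (h : act g X = c • X) : act g⁻¹ X = c • X := by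
  have h1 : act g⁻¹ (act g X) = X := by rw [← act_mul, mul_inv_cancel, act_one]
  rw [h, act_smul] at h1
  calc act g⁻¹ X = (c * c) • act g⁻¹ X := by rw [hc, one_smul]
    _ = c • X := by rw [mul_smul, h1]

/-- the similarities of `B` in `SL₄(3)` -/
def Simi (B : M4) : Subgroup SL4 where
  carrier := {g | ∃ c : F3, c * c = 1 ∧ act g B = c • B}
  one_mem' := ⟨1, one_mul 1, by rw [act_one, one_smul]⟩
  mul_mem' := by
    rintro g h ⟨c, hc, hg⟩ ⟨d, hd, hh⟩
    refine ⟨c * d, ?_, ?_⟩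
    · calc c * d * (c * d) = (c * c) * (d * d) := by ring
        _ = 1 := by rw [hc, hd, one_mul]
    · rw [act_mul, hg, act_smul, hh, smul_smul]
  inv_mem' := by
    rintro g ⟨c, hc, hg⟩
    exact ⟨c, hc, act_inv hc hg⟩

theorem mem_simi {B : M4} {g : SL4} : g ∈ Simi B ↔ ∃ c : F3, c * c = 1 ∧ act g B = c • B := Iff.rfl

/-- the isometries of `B` in `SL₄(3)` -/
def Iso (B : M4) : Subgroup SL4 where
  carrier := {g | act g B = B}
  one_mem' := act_one B
  mul_mem' := by
    intro g h hg hh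
    change act g B = B at hg
    change act h B = B at hh
    show act (g * h) B = B
    rw [act_mul, hg, hh]
  inv_mem' := by
    intro g hg
    change act g B = B at hg
    have h := act_inv (g := g) (c := 1) (X := B) (one_mul 1) (by rw [hg, one_smul])
    rw [one_smul] at h
    exact h

theorem mem_iso {B : M4} {g : SL4} : g ∈ Iso B ↔ g.1ᵀ * B * g.1 = B := Iff.rfl

theorem comm_simi_le (B : M4) : ⁅Simi B, Simi B⁆ ≤ Iso B := by
  rw [commutator_le]
  intro g hg h hh
  obtain ⟨c, hc, hg⟩ := mem_simi.1 hg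
  obtain ⟨d, hd, hh⟩ := mem_simi.1 hh
  rw [commutatorElement_def]
  change act (g * h * g⁻¹ * h⁻¹) B = B
  have h1 := act_inv hc hg
  have h2 := act_inv hd hh
  rw [act_mul, act_mul, act_mul, hg, act_smul, hh]
  simp only [act_smul, h1, h2, smul_smul]
  have e : c * d * c * d = 1 := by
    calc c * d * c * d = (c * c) * (d * d) := by ring
      _ = 1 := by rw [hc, hd, one_mul]
  rw [e, one_smul]

theorem sq_of_pow_four : ∀ c : F3, c ^ 4 = 1 → c * c = 1 := by decide

theorem sq_of_smul_one {A B : SL4} {c : F3} (h : A.1 = c • B.1) : c * c = 1 := by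
  apply sq_of_pow_four
  have h1 := congrArg Matrix.det h
  rw [A.2, Matrix.det_smul, B.2, mul_one, Fintype.card_fin] at h1
  exact h1.symm

theorem graph_apply (A : GL4) (g : SL4) : lift (cj A * itr) (pr g) = pr (cj A (itr g)) := rfl

theorem graph_coe (A : GL4) (g : SL4) : (cj A (itr g)).1 = A.1 * (g⁻¹).1ᵀ * (A⁻¹ : GL4).1 := rfl

theorem tr_inv (g : SL4) : g.1ᵀ * (g⁻¹).1ᵀ = 1 := by
  rw [← transpose_mul, ← Matrix.SpecialLinearGroup.coe_mul, inv_mul_cancel, Matrix.SpecialLinearGroup.coe_one,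
    transpose_one]

theorem tr_inv' (g : SL4) : (g⁻¹).1ᵀ * g.1ᵀ = 1 := by
  rw [← transpose_mul, ← Matrix.SpecialLinearGroup.coe_mul, mul_inv_cancel, Matrix.SpecialLinearGroup.coe_one,
    transpose_one]

theorem gl_inv (A : GL4) : (A⁻¹ : GL4).1 * A.1 = 1 := by rw [← Units.val_mul, inv_mul_cancel, Units.val_one]

theorem gl_inv' (A : GL4) : A.1 * (A⁻¹ : GL4).1 = 1 := by rw [← Units.val_mul, mul_inv_cancel, Units.val_one]

theorem mem_simi_of_fix {A : GL4} {g : SL4} (h : lift (cj A * itr) (pr g) = pr g) : g ∈ Simi (A⁻¹ : GL4).1 := by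
  rw [graph_apply] at h
  obtain ⟨c, hc⟩ := exists_smul_of_pr_eq h
  refine ⟨c, sq_of_smul_one hc, ?_⟩
  show g.1ᵀ * (A⁻¹ : GL4).1 * g.1 = c • (A⁻¹ : GL4).1
  have hg : g.1 = c • (A.1 * (g⁻¹).1ᵀ * (A⁻¹ : GL4).1) := hc
  calc g.1ᵀ * (A⁻¹ : GL4).1 * g.1 = g.1ᵀ * (A⁻¹ : GL4).1 * (c • (A.1 * (g⁻¹).1ᵀ * (A⁻¹ : GL4).1)) := by rw [← hg]
    _ = c • (g.1ᵀ * ((A⁻¹ : GL4).1 * A.1) * (g⁻¹).1ᵀ * (A⁻¹ : GL4).1) := by
        rw [Matrix.mul_smul]; simp only [mul_assoc]
    _ = c • (A⁻¹ : GL4).1 := by rw [gl_inv, mul_one, tr_inv, one_mul]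

theorem fix_of_iso {A : GL4} {g : SL4} (h : g ∈ Iso (A⁻¹ : GL4).1) : lift (cj A * itr) (pr g) = pr g := by
  rw [graph_apply]
  congr 1
  apply Subtype.ext
  rw [graph_coe]
  rw [mem_iso] at h
  calc A.1 * (g⁻¹).1ᵀ * (A⁻¹ : GL4).1 = A.1 * (g⁻¹).1ᵀ * (g.1ᵀ * (A⁻¹ : GL4).1 * g.1) := by rw [h]
    _ = A.1 * ((g⁻¹).1ᵀ * g.1ᵀ) * (A⁻¹ : GL4).1 * g.1 := by simp only [mul_assoc]
    _ = g.1 := by rw [tr_inv', mul_one, gl_inv', one_mul]

/-- the fixed points of a graph automorphism -/
theorem second_le (A : GL4) {G : Type*} [Group G] (φ : G →* SL4)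
    (h2 : ⁅Iso (A⁻¹ : GL4).1, Iso (A⁻¹ : GL4).1⁆ ≤ φ.range) :
    ⁅⁅fixedSubgroup (lift (cj A * itr)), fixedSubgroup (lift (cj A * itr))⁆,
      ⁅fixedSubgroup (lift (cj A * itr)), fixedSubgroup (lift (cj A * itr))⁆⁆ ≤ (pr.comp φ).range := by
  have h3 : fixedSubgroup (lift (cj A * itr)) ≤ (Simi (A⁻¹ : GL4).1).map pr := by
    intro x hx
    obtain ⟨g, rfl⟩ := pr_surjective x
    exact ⟨g, mem_simi_of_fix hx, rfl⟩
  refine (commutator_mono (commutator_mono h3 h3) (commutator_mono h3 h3)).trans ?_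
  rw [← map_commutator, ← map_commutator, MonoidHom.range_comp]
  exact map_mono ((commutator_mono (comm_simi_le _) (comm_simi_le _)).trans h2)

theorem comps_graph (A : GL4) {G : Type*} [Group G] (φ : G →* SL4) (h1 : ∀ k, φ k ∈ Iso (A⁻¹ : GL4).1)
    (h2 : ⁅Iso (A⁻¹ : GL4).1, Iso (A⁻¹ : GL4).1⁆ ≤ φ.range) (h3 : ∀ k, φ k ∈ center SL4 ↔ k ∈ center G)
    (hG : InC 2 (G ⧸ center G)) : Comps 2 ↥(fixedSubgroup (lift (cj A * itr))) := by
  refine comps_sub _ (pr.comp φ).range ?_ (inC_range (pr.comp φ) ?_ hG) (second_le A φ h2)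
  · rintro _ ⟨k, rfl⟩
    exact fix_of_iso (h1 k)
  · intro k
    rw [← h3, ← pr_eq_one_iff]
    rfl

theorem comps_graph_solv (A : GL4) {G : Type*} [Group G] (φ : G →* SL4) (hs : Group.IsSolvable G)
    (h2 : ⁅Iso (A⁻¹ : GL4).1, Iso (A⁻¹ : GL4).1⁆ ≤ φ.range) : Comps 2 ↥(fixedSubgroup (lift (cj A * itr))) := by
  refine comps_sub_solv _ (pr.comp φ).range ?_ (second_le A φ h2)
  exact Group.isSolvable_of_surjective (pr.comp φ).rangeRestrict_surjective

end Cfsg.Agent.CpAutTwo.LFour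

end

-- merged: Cfsg.Agent.CpAutTwo.LFour.Aut
section

/-!
# S1814, `p = 2`, row `L₄(3)`: the automorphisms of order 2 (helper60)
-/

set_option autoImplicit false

namespace Cfsg.Agent.CpAutTwo.LFour

open Matrix Subgroup Cfsg
open Cfsg.Agent.LThree (Comps)
open Cfsg.Agent.ClassicalGeometry.AutPSL.Auto Cfsg.Agent.ClassicalGeometry.AutPSL.Root
open Cfsg.Agent.ClassicalGeometry.AutPSL.Main

theorem fld_one (σ : F3 ≃+* F3) : σ = 1 := by
  ext x
  have h : ∀ x : F3, x = 0 ∨ x = 1 ∨ x = 1 + 1 := by decide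
  rcases h x with rfl | rfl | rfl <;> simp only [_root_.map_zero, _root_.RingAut.one_apply, _root_.map_one, _root_.map_add]

theorem two_forms (α : MulAut L4) : (∃ A : GL4, α = lift (cj A)) ∨ (∃ A : GL4, α = lift (cj A * itr)) := by
  rcases surj_three 3 (by norm_num) α with ⟨A, σ, h⟩ | ⟨A, σ, h⟩
  · left
    refine ⟨A, ?_⟩
    rw [h, fld_one σ, map_one, mul_one]
  · right
    refine ⟨A, ?_⟩
    rw [h, fld_one σ, map_one, mul_one]

/-- `A⁻ᵀ` -/
def ct (A : GL4) : GL4 where
  val := (A⁻¹ : GL4).1ᵀ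
  inv := A.1ᵀ
  val_inv := by rw [← transpose_mul, gl_inv', transpose_one]
  inv_val := by rw [← transpose_mul, gl_inv, transpose_one]

theorem itr_cj (A : GL4) : (itr * cj A : MulAut SL4) = cj (ct A) * itr := by
  apply MulEquiv.ext
  intro g
  apply Subtype.ext
  have h1 : itr (cj A g) = itr (cj A g) := rfl
  show ((cj A g)⁻¹ : SL4).1ᵀ = (A⁻¹ : GL4).1ᵀ * ((g⁻¹ : SL4).1ᵀ) * A.1ᵀ
  rw [← map_inv, coe_cj, transpose_mul, transpose_mul, mul_assoc]

theorem scalar_of_lift {C : GL4} (h : lift (cj C) = 1) : ∃ r : F3, scalar (Fin 4) r = C.1 := by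
  have h1 : lift (cj C * fld (1 : F3 ≃+* F3)) = lift (fld (1 : F3 ≃+* F3)) := by
    rw [map_one, mul_one, map_one, h]
  exact (injective_aux h1).1

/-- a graph automorphism of order two comes from a symmetric or an alternating form -/
theorem graph_sq {A : GL4} (h : lift (cj A * itr) * lift (cj A * itr) = 1) : A.1ᵀ = A.1 ∨ A.1ᵀ = -A.1 := by
  have h1 : (cj A * itr) * (cj A * itr) = (cj (A * ct A) : MulAut SL4) := by
    calc (cj A * itr) * (cj A * itr) = cj A * (itr * cj A) * itr := by simp only [mul_assoc]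
      _ = cj A * cj (ct A) * (itr * itr) := by rw [itr_cj]; simp only [mul_assoc]
      _ = cj (A * ct A) := by rw [itr_mul_itr, mul_one, ← map_mul]
  rw [← map_mul, h1] at h
  obtain ⟨r, hr⟩ := scalar_of_lift h
  have h2 : A.1 * (A⁻¹ : GL4).1ᵀ = scalar (Fin 4) r := by rw [hr]; rfl
  have h3 : A.1 = r • A.1ᵀ := by
    calc A.1 = A.1 * ((A⁻¹ : GL4).1ᵀ * A.1ᵀ) := by rw [← transpose_mul, gl_inv', transpose_one, mul_one]
      _ = scalar (Fin 4) r * A.1ᵀ := by rw [← mul_assoc, h2]
      _ = r • A.1ᵀ := by rw [scalar_apply, ← smul_one_eq_diagonal, Matrix.smul_mul, one_mul]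
  have h4 : A.1.det ≠ 0 := by
    intro h0
    have h5 := congrArg Matrix.det (gl_inv' A)
    rw [det_mul, h0, zero_mul, det_one] at h5
    exact zero_ne_one h5
  have h5 : r ^ 4 = 1 := by
    have h6 := congrArg Matrix.det h3
    rw [det_smul, det_transpose, Fintype.card_fin] at h6
    exact mul_right_cancel₀ h4 (by rw [one_mul]; exact h6.symm)
  have h6 : ∀ r : F3, r ^ 4 = 1 → r = 1 ∨ r = -1 := by decide
  rcases h6 r h5 with rfl | rfl
  · left
    rw [one_smul] at h3
    exact h3.symm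
  · right
    rw [neg_smul, one_smul] at h3
    calc A.1ᵀ = - -A.1ᵀ := (neg_neg _).symm
      _ = -A.1 := by rw [← h3]

end Cfsg.Agent.CpAutTwo.LFour

end

-- merged: Cfsg.Agent.CpAutTwo.LFour.Refl
section

/-!
# S1814, `p = 2`, row `L₄(3)`: the diagonal automorphism with centralizer `L₃(3)` (helper60)
-/

set_option autoImplicit false

namespace Cfsg.Agent.CpAutTwo.LFour

open Matrix Subgroup Cfsg
open Cfsg.Agent.LThree (Comps)
open Cfsg.Agent.ClassicalGeometry.AutPSL.Auto Cfsg.Agent.ClassicalGeometry.AutPSL.Root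
open Cfsg.Agent.ClassicalGeometry.AutPSL.Main

/-- a change of coordinates -/
structure Tr (κ : Type) [Fintype κ] [DecidableEq κ] where
  P : Matrix (Fin 4) κ F3
  P' : Matrix κ (Fin 4) F3
  pp : P * P' = 1
  qq : P' * P = 1

namespace Tr

variable {κ : Type} [Fintype κ] [DecidableEq κ] (t : Tr κ)

def hom : Matrix κ κ F3 →* M4 where
  toFun M := t.P * M * t.P'
  map_one' := by rw [Matrix.mul_one, t.pp]
  map_mul' M N := by
    calc t.P * (M * N) * t.P' = t.P * (M * 1 * N) * t.P' := by rw [mul_one]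
      _ = t.P * (M * (t.P' * t.P) * N) * t.P' := by rw [t.qq]
      _ = t.P * M * t.P' * (t.P * N * t.P') := by simp only [Matrix.mul_assoc]

theorem hom_apply (M : Matrix κ κ F3) : t.hom M = t.P * M * t.P' := rfl

def inv (M : M4) : Matrix κ κ F3 := t.P' * M * t.P

theorem inv_hom (M : Matrix κ κ F3) : t.inv (t.hom M) = M := by
  show t.P' * (t.P * M * t.P') * t.P = M
  calc t.P' * (t.P * M * t.P') * t.P = (t.P' * t.P) * M * (t.P' * t.P) := by simp only [Matrix.mul_assoc]
    _ = M := by rw [t.qq, Matrix.one_mul, Matrix.mul_one]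

theorem hom_inv (M : M4) : t.hom (t.inv M) = M := by
  show t.P * (t.P' * M * t.P) * t.P' = M
  calc t.P * (t.P' * M * t.P) * t.P' = (t.P * t.P') * M * (t.P * t.P') := by simp only [Matrix.mul_assoc]
    _ = M := by rw [t.pp, Matrix.one_mul, Matrix.mul_one]

theorem hom_inj {M N : Matrix κ κ F3} (h : t.hom M = t.hom N) : M = N := by
  rw [← t.inv_hom M, h, t.inv_hom]

theorem det_hom (M : Matrix κ κ F3) : (t.hom M).det = M.det := det_conj_of_mul_eq_one t.pp t.qq

theorem hom_smul (c : F3) (M : Matrix κ κ F3) : t.hom (c • M) = c • t.hom M := by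
  rw [hom_apply, hom_apply, Matrix.mul_smul, Matrix.smul_mul]

/-- the change of coordinates given by a linear equivalence -/
noncomputable def of (j : (κ → F3) ≃ₗ[F3] (Fin 4 → F3)) : Tr κ where
  P := LinearMap.toMatrix' j.toLinearMap
  P' := LinearMap.toMatrix' j.symm.toLinearMap
  pp := by
    rw [← LinearMap.toMatrix'_comp]
    simp
  qq := by
    rw [← LinearMap.toMatrix'_comp]
    simp

theorem of_P (j : (κ → F3) ≃ₗ[F3] (Fin 4 → F3)) (x : κ → F3) : (of j).P *ᵥ x = j x :=
  LinearMap.toMatrix'_mulVec _ _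

theorem of_P' (j : (κ → F3) ≃ₗ[F3] (Fin 4 → F3)) (x : Fin 4 → F3) : (of j).P' *ᵥ x = j.symm x :=
  LinearMap.toMatrix'_mulVec _ _

theorem hom_of_mulVec (j : (κ → F3) ≃ₗ[F3] (Fin 4 → F3)) (M : Matrix κ κ F3) (x : κ → F3) :
    (of j).hom M *ᵥ j x = j (M *ᵥ x) := by
  rw [hom_apply, ← mulVec_mulVec, ← mulVec_mulVec, of_P', j.symm_apply_apply, of_P]

end Tr

/-! ### the reflection -/

abbrev SL3 := _root_.Matrix.SpecialLinearGroup (Fin 3) F3
abbrev K4 := Fin 1 ⊕ Fin 3

def psi (t : Tr K4) : SL3 →* SL4 where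
  toFun h := ⟨t.hom (fromBlocks 1 0 0 h.1), by rw [t.det_hom, det_fromBlocks_zero₂₁, h.2, det_one, one_mul]⟩
  map_one' := by
    apply Subtype.ext
    show t.hom (fromBlocks 1 0 0 1) = 1
    rw [fromBlocks_one, map_one]
  map_mul' g h := by
    apply Subtype.ext
    show t.hom (fromBlocks 1 0 0 (g.1 * h.1)) = t.hom (fromBlocks 1 0 0 g.1) * t.hom (fromBlocks 1 0 0 h.1)
    rw [← map_mul, fromBlocks_multiply]
    simp

theorem psi_val (t : Tr K4) (h : SL3) : (psi t h).1 = t.hom (fromBlocks 1 0 0 h.1) := rfl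

theorem cube_one : ∀ c : F3, c ^ 3 = 1 → c = 1 := by decide

theorem psi_center (t : Tr K4) (h : SL3) : pr (psi t h) = 1 ↔ h ∈ center SL3 := by
  rw [pr_eq_one_iff]
  constructor
  · intro hh
    obtain ⟨r, -, hr⟩ := Matrix.SpecialLinearGroup.mem_center_iff.1 hh
    have h1 : t.hom (fromBlocks 1 0 0 h.1) = t.hom (r • 1) := by
      rw [Tr.hom_smul, map_one, ← psi_val, ← hr, scalar_apply, smul_one_eq_diagonal]
    have h2 := t.hom_inj h1
    have h3 : h.1 = r • 1 := by
      have h4 := congrArg Matrix.toBlocks₂₂ h2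
      rw [toBlocks_fromBlocks₂₂] at h4
      rw [h4]
      ext i j
      simp [toBlocks₂₂, one_apply]
    rw [Matrix.SpecialLinearGroup.mem_center_iff]
    refine ⟨r, ?_, ?_⟩
    · have h5 := congrArg Matrix.det h3
      rw [h.2, det_smul, det_one, mul_one] at h5
      exact h5.symm
    · rw [h3, scalar_apply, smul_one_eq_diagonal]
  · intro hh
    obtain ⟨r, hr3, hr⟩ := Matrix.SpecialLinearGroup.mem_center_iff.1 hh
    rw [Fintype.card_fin] at hr3
    have hr1 := cube_one r hr3
    have h1 : h = 1 := by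
      apply Subtype.ext
      rw [← hr, hr1, map_one]
      rfl
    rw [h1, map_one]
    exact one_mem _

theorem exists_ker (a b c : F3) : ∃ v : Fin 3 → F3, v ≠ 0 ∧ a * v 0 + b * v 1 + c * v 2 = 0 := by
  by_cases h : a = 0 ∧ b = 0
  · refine ⟨![1, 0, 0], ?_, ?_⟩
    · intro h0
      exact one_ne_zero (congrFun h0 0)
    · simp [h.1]
  · refine ⟨![b, -a, 0], ?_, ?_⟩
    · intro h0
      apply h
      have h1 : b = 0 := congrFun h0 0
      have h2 : -a = 0 := congrFun h0 1
      exact ⟨neg_eq_zero.1 h2, h1⟩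
    · simp only [_root_.Fin.isValue, _root_.Matrix.cons_val_zero, _root_.Matrix.cons_val_one, _root_.mul_neg, _root_.Matrix.cons_val, _root_.MulZeroClass.mul_zero, _root_.add_zero]
      ring

theorem det_anti (X : Matrix (Fin 1) (Fin 3) F3) (Y : Matrix (Fin 3) (Fin 1) F3) :
    (fromBlocks 0 X Y 0 : Matrix K4 K4 F3).det = 0 := by
  obtain ⟨v, hv, h⟩ := exists_ker (X 0 0) (X 0 1) (X 0 2)
  apply exists_mulVec_eq_zero_iff.1
  refine ⟨Sum.elim 0 v, ?_, ?_⟩
  · intro h0
    apply hv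
    funext i
    exact congrFun h0 (Sum.inr i)
  · rw [fromBlocks_mulVec]
    funext i
    rcases i with i | i
    · have hi : i = 0 := Subsingleton.elim _ _
      subst hi
      simp only [Sum.elim_inl, Sum.elim_inr, Function.comp_def, Pi.zero_apply, mulVec, dotProduct, Fin.sum_univ_three,
        Pi.add_apply, Matrix.zero_apply, zero_mul, Finset.sum_const_zero, zero_add]
      exact h
    · simp [Function.comp_def, mulVec, dotProduct]

theorem eq_zero_of_neg : ∀ x : F3, x = -x → x = 0 := by decide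

theorem mat_zero {m n : Type*} {X : Matrix m n F3} (h : X = -X) : X = 0 := by
  ext i j
  exact eq_zero_of_neg _ (congrFun (congrFun h i) j)

/-- the reflection -/
def DD : Matrix K4 K4 F3 := fromBlocks (-1) 0 0 1

theorem mul_DD (a : Matrix (Fin 1) (Fin 1) F3) (b : Matrix (Fin 1) (Fin 3) F3) (c : Matrix (Fin 3) (Fin 1) F3)
    (d : Matrix (Fin 3) (Fin 3) F3) : fromBlocks a b c d * DD = fromBlocks (-a) b (-c) d := by
  rw [DD, fromBlocks_multiply]
  simp

theorem DD_mul (a : Matrix (Fin 1) (Fin 1) F3) (b : Matrix (Fin 1) (Fin 3) F3) (c : Matrix (Fin 3) (Fin 1) F3)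
    (d : Matrix (Fin 3) (Fin 3) F3) : DD * fromBlocks a b c d = fromBlocks (-a) (-b) c d := by
  rw [DD, fromBlocks_multiply]
  simp

theorem cj_mul (A : GL4) (g : SL4) : (cj A g).1 * A.1 = A.1 * g.1 := by
  rw [coe_cj, mul_assoc, gl_inv, mul_one]

theorem cj_eq_of_comm {A : GL4} {g : SL4} (h : A.1 * g.1 = g.1 * A.1) : cj A g = g := by
  apply Subtype.ext
  rw [coe_cj, h, mul_assoc, gl_inv', mul_one]

theorem sq_one_of_mul : ∀ a b : F3, a * b = 1 → a * a = 1 := by decide

theorem pm_of_sq : ∀ c : F3, c * c = 1 → c = 1 ∨ c = -1 := by decide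

theorem fix_refl_le {A : GL4} (t : Tr K4) (hA : A.1 = t.hom DD) :
    fixedSubgroup (lift (cj A)) ≤ (pr.comp (psi t)).range := by
  intro x hx
  obtain ⟨g, rfl⟩ := pr_surjective x
  change lift (cj A) (pr g) = pr g at hx
  rw [lift_pr] at hx
  obtain ⟨c, hc⟩ := exists_smul_of_pr_eq hx
  have hc2 := sq_of_smul_one hc
  have h1 : g.1 * A.1 = c • (A.1 * g.1) := by
    calc g.1 * A.1 = (c • (cj A g).1) * A.1 := by rw [← hc]
      _ = c • (A.1 * g.1) := by rw [Matrix.smul_mul, cj_mul]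
  obtain ⟨a, b, c', d, hN⟩ : ∃ a b c' d, t.inv g.1 = fromBlocks a b c' d :=
    ⟨_, _, _, _, (fromBlocks_toBlocks (t.inv g.1)).symm⟩
  have hg : g.1 = t.hom (fromBlocks a b c' d) := by rw [← hN, t.hom_inv]
  have hdet : (fromBlocks a b c' d).det = 1 := by rw [← t.det_hom, ← hg]; exact g.2
  rw [hg, hA, ← map_mul, ← map_mul, ← t.hom_smul] at h1
  have h2 := t.hom_inj h1
  rw [mul_DD, DD_mul] at h2
  rcases pm_of_sq c hc2 with rfl | rfl
  · rw [one_smul, fromBlocks_inj] at h2
    have hb : b = 0 := mat_zero h2.2.1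
    have hc' : c' = 0 := mat_zero h2.2.2.1.symm
    subst hb hc'
    rw [det_fromBlocks_zero₂₁, det_fin_one] at hdet
    have ha2 := sq_one_of_mul _ _ hdet
    have hd : (a 0 0 • d).det = 1 := by
      rw [det_smul, Fintype.card_fin]
      linear_combination (a 0 0 * a 0 0) * hdet + ha2
    refine ⟨⟨a 0 0 • d, hd⟩, ?_⟩
    apply pr_eq_of_smul (c := a 0 0)
    show g.1 = a 0 0 • t.hom (fromBlocks 1 0 0 (a 0 0 • d))
    rw [hg, ← t.hom_smul, fromBlocks_smul, smul_zero, smul_zero, smul_smul, ha2, one_smul]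
    congr 2
    ext i j
    rw [Subsingleton.elim i 0, Subsingleton.elim j 0]
    simp
  · exfalso
    rw [neg_smul, one_smul, fromBlocks_neg, fromBlocks_inj] at h2
    have ha : a = 0 := by
      apply mat_zero
      rw [neg_neg] at h2
      exact h2.1.symm
    have hd : d = 0 := mat_zero h2.2.2.2
    subst ha hd
    rw [det_anti] at hdet
    exact zero_ne_one hdet

theorem center_SL3 : center SL3 = ⊥ := by
  rw [eq_bot_iff]
  intro h hh
  obtain ⟨r, hr3, hr⟩ := Matrix.SpecialLinearGroup.mem_center_iff.1 hh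
  rw [Fintype.card_fin] at hr3
  have hr1 := cube_one r hr3
  rw [mem_bot]
  apply Subtype.ext
  rw [← hr, hr1, map_one]
  rfl

end Cfsg.Agent.CpAutTwo.LFour

end

-- merged: Cfsg.Agent.CpAutTwo.LFour.Facts
section

/-!
# S1814, `p = 2`, row `L₄(3)`: the components (helper60)
-/

set_option autoImplicit false

namespace Cfsg.Agent.CpAutTwo.LFour

open Matrix Subgroup Cfsg
open Cfsg.Agent.LThree (Comps)
open Cfsg.Agent.ClassicalGeometry.AutPSL.Auto Cfsg.Agent.ClassicalGeometry.AutPSL.Root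

theorem not_comm_psl3 : ¬ IsMulCommutative (ProjectiveSpecialLinearGroup (Fin 3) F3) := by
  intro h
  let g : SL3 := ⟨!![1, 1, 0; 0, 1, 0; 0, 0, 1], by decide +kernel⟩
  let k : SL3 := ⟨!![1, 0, 0; 0, 1, 1; 0, 0, 1], by decide +kernel⟩
  have h1 : pr g * pr k = pr k * pr g := h.is_comm.comm _ _
  rw [← map_mul, ← map_mul] at h1
  have h2 : pr ((g * k) * (k * g)⁻¹) = 1 := by rw [map_mul, h1, ← map_mul, mul_inv_cancel, map_one]
  rw [pr_eq_one_iff, center_SL3, mem_bot, mul_inv_eq_one] at h2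
  have h3 : (g * k).1 = (k * g).1 := congrArg Subtype.val h2
  revert h3
  decide

theorem inC_psl3 : InC 2 (SL3 ⧸ center SL3) := by
  have : IsSimpleGroup (ProjectiveSpecialLinearGroup (Fin 3) F3) := S0249.result 3 le_rfl
  exact inC_of_simple not_comm_psl3 (Or.inr (Or.inr (Or.inl ⟨rfl, Or.inr (Or.inl ⟨F3, inferInstance, inferInstance,
    ZMod.card 3, Or.inl ⟨MulEquiv.refl _⟩⟩)⟩)))

theorem comps_refl (A : GL4) (t : Tr K4) (hA : A.1 = t.hom DD) : Comps 2 ↥(fixedSubgroup (lift (cj A))) := by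
  have hle := fix_refl_le t hA
  refine comps_sub _ (pr.comp (psi t)).range ?_ (inC_range _ (psi_center t) inC_psl3) ?_
  · rintro _ ⟨h, rfl⟩
    show lift (cj A) (pr (psi t h)) = pr (psi t h)
    rw [lift_pr, cj_eq_of_comm]
    rw [psi_val, hA, ← map_mul, ← map_mul, mul_DD, DD_mul, neg_zero, neg_zero]
  · refine le_trans ?_ hle
    exact (commutator_mono (commutator_le_self _) (commutator_le_self _)).trans (commutator_le_self _)

theorem card_psp : Nat.card (PSp 2 F3) = 25920 := by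
  have h1 := Cfsg.Agent.S0245.result (F := F3) (q := 3) (ZMod.card 3) 2
  have h2 := Cfsg.Agent.S0246.result (F := F3) (q := 3) (ZMod.card 3) 2 (by norm_num)
  have h3 := Subgroup.card_eq_card_quotient_mul_card_subgroup (Subgroup.center (symplecticGroup (Fin 2) F3))
  rw [h1, h2] at h3
  simp only [Finset.prod_range_succ, Finset.prod_range_zero] at h3
  norm_num at h3
  show Nat.card (symplecticGroup (Fin 2) F3 ⧸ Subgroup.center (symplecticGroup (Fin 2) F3)) = 25920
  omega

theorem not_comm_psp : ¬ IsMulCommutative (PSp 2 F3) := by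
  have : IsSimpleGroup (PSp 2 F3) := S0270.result 2 le_rfl (fun _ => by rw [ZMod.card])
  apply SmallSimple.Embed.not_comm_of_card_not_prime
  rw [card_psp]
  norm_num

theorem inC_psp : InC 2 (PSp 2 F3) := by
  have : IsSimpleGroup (PSp 2 F3) := S0270.result 2 le_rfl (fun _ => by rw [ZMod.card])
  apply inC_of_simple not_comm_psp
  have : Fact (Nat.Prime 2) := ⟨Nat.prime_two⟩
  have : Fintype (GaloisField 2 2) := Fintype.ofFinite _
  have hc : Fintype.card (GaloisField 2 2) = 4 := by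
    rw [← Nat.card_eq_fintype_card, GaloisField.card 2 2 (by norm_num)]; norm_num
  obtain ⟨f⟩ := S0822.result (F := GaloisField 2 2) (K := F3) hc (ZMod.card 3)
  exact Or.inl (Or.inl (Or.inr (Or.inr (Or.inl ⟨GaloisField 2 2, inferInstance, inferInstance,
    inferInstance, 4, 2, by rw [hc]; norm_num, by norm_num, by norm_num, ⟨f.symm⟩⟩))))

theorem inC_minus (a b : F3) (hab : ∀ z₁ z₂ : F3, z₁ ^ 2 + a * z₁ * z₂ + b * z₂ ^ 2 = 0 → z₁ = 0 ∧ z₂ = 0) :
    InC 2 (POmega F3 (quadFormMinus 1 F3 a b)) := by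
  obtain ⟨e⟩ := S0300.result (F := F3) (K := ResEven.LFour.E) (q := 3) (ZMod.card 3)
    (by rw [ResEven.LFour.card_E]; norm_num) a b hab
  rw [CpQuot.Congr.inC_iff e]
  have hs := ResEven.LFour.simple_PSL
  refine inC_of_simple ?_ (Or.inr (Or.inr (Or.inl ⟨rfl, Or.inl ⟨ResEven.LFour.E, inferInstance, inferInstance,
    Or.inr ResEven.LFour.card_E, ⟨MulEquiv.refl _⟩⟩⟩)))
  apply SmallSimple.Embed.not_comm_of_card_not_prime
  rw [ResEven.LFour.card_PSL]
  norm_num

theorem solvable_psl_two : Group.IsSolvable (ProjectiveSpecialLinearGroup (Fin 2) F3) := by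
  apply Cfsg.Agent.LieClassical.Order72.isSolvable_of_card_dvd
  have h := S0243.result (F := F3) (ZMod.card 3) 2 le_rfl
  rw [Fin.prod_univ_two, show Nat.gcd 2 (3 - 1) * ((3 - 1) * Nat.card (ProjectiveSpecialLinearGroup (Fin 2) F3)) =
    2 * (2 * Nat.card (ProjectiveSpecialLinearGroup (Fin 2) F3)) from rfl,
    show (3 ^ 2 - 3 ^ ((0 : Fin 2) : ℕ)) * (3 ^ 2 - 3 ^ ((1 : Fin 2) : ℕ)) = 48 from rfl] at h
  have h2 : Nat.card (ProjectiveSpecialLinearGroup (Fin 2) F3) = 12 := by omega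
  rw [h2]
  norm_num

theorem solvable_plus : Group.IsSolvable ↥(Omega F3 (quadFormPlus 2 F3)) := by
  obtain ⟨e⟩ := S0299.result (F := F3) (by rw [ZMod.card])
  have h1 := solvable_psl_two
  have h2 : Group.IsSolvable (POmega F3 (quadFormPlus 2 F3)) :=
    Group.isSolvable_of_isSolvable_injective (f := e.toMonoidHom) e.injective
  exact (Group.isSolvable_iff_subgroup_quotient (center ↥(Omega F3 (quadFormPlus 2 F3)))).2 ⟨Group.isSolvable_of_comm
    (fun a b => Subtype.ext (mem_center_iff.1 b.2 a.1)), h2⟩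

end Cfsg.Agent.CpAutTwo.LFour

end

-- merged: Cfsg.Agent.CpAutTwo.LFour.Symp
section

/-!
# S1814, `p = 2`, row `L₄(3)`: the graph automorphism with centralizer `PGSp₄(3)` (helper60)
-/

set_option autoImplicit false

namespace Cfsg.Agent.CpAutTwo.LFour

open Matrix Subgroup Cfsg
open Cfsg.Agent.LThree (Comps)
open Cfsg.Agent.ClassicalGeometry.AutPSL.Auto Cfsg.Agent.ClassicalGeometry.AutPSL.Root

namespace Tr

variable {κ : Type} [Fintype κ] [DecidableEq κ]

/-- the change of coordinates given by a basis -/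
noncomputable def ofBasis (b : Module.Basis κ F3 (Fin 4 → F3)) : Tr κ where
  P := (Pi.basisFun F3 (Fin 4)).toMatrix b
  P' := b.toMatrix (Pi.basisFun F3 (Fin 4))
  pp := Module.Basis.toMatrix_mul_toMatrix_flip _ _
  qq := Module.Basis.toMatrix_mul_toMatrix_flip _ _

theorem ofBasis_P (b : Module.Basis κ F3 (Fin 4 → F3)) (r : Fin 4) (i : κ) : (ofBasis b).P r i = b i r := by
  show (Pi.basisFun F3 (Fin 4)).toMatrix b r i = b i r
  rw [Module.Basis.toMatrix_apply, Pi.basisFun_repr]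

theorem gram (b : Module.Basis κ F3 (Fin 4 → F3)) (B : M4) (i k : κ) :
    ((ofBasis b).Pᵀ * B * (ofBasis b).P) i k = b i ⬝ᵥ (B *ᵥ b k) := by
  rw [Matrix.mul_assoc, Matrix.mul_apply]
  simp only [transpose_apply, ofBasis_P, Matrix.mul_apply, dotProduct, mulVec]

theorem hom_mul_P (t : Tr κ) (M : Matrix κ κ F3) : t.hom M * t.P = t.P * M := by
  rw [hom_apply, Matrix.mul_assoc, t.qq, Matrix.mul_one]

theorem iso_iff (t : Tr κ) {B : M4} {Γ : Matrix κ κ F3} {c : F3} (hc : c ≠ 0) (h : t.Pᵀ * B * t.P = c • Γ)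
    (M : Matrix κ κ F3) : (t.hom M)ᵀ * B * t.hom M = B ↔ Mᵀ * Γ * M = Γ := by
  have key : t.Pᵀ * ((t.hom M)ᵀ * B * t.hom M) * t.P = c • (Mᵀ * Γ * M) := by
    calc t.Pᵀ * ((t.hom M)ᵀ * B * t.hom M) * t.P = (t.hom M * t.P)ᵀ * B * (t.hom M * t.P) := by
          rw [transpose_mul]; simp only [Matrix.mul_assoc]
      _ = (t.P * M)ᵀ * B * (t.P * M) := by rw [hom_mul_P]
      _ = Mᵀ * (t.Pᵀ * B * t.P) * M := by rw [transpose_mul]; simp only [Matrix.mul_assoc]
      _ = c • (Mᵀ * Γ * M) := by rw [h, Matrix.mul_smul, Matrix.smul_mul]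
  constructor
  · intro h1
    rw [h1, h] at key
    have h2 := congrArg (fun X => c⁻¹ • X) key
    simp only [smul_smul, inv_mul_cancel₀ hc, one_smul] at h2
    exact h2.symm
  · intro h1
    rw [h1, ← h] at key
    have h2 := congrArg (fun X => t.P'ᵀ * X * t.P') key
    have e : ∀ X : M4, t.P'ᵀ * (t.Pᵀ * X * t.P) * t.P' = X := by
      intro X
      calc t.P'ᵀ * (t.Pᵀ * X * t.P) * t.P' = (t.P * t.P')ᵀ * X * (t.P * t.P') := by
            rw [transpose_mul]; simp only [Matrix.mul_assoc]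
        _ = X := by rw [t.pp, transpose_one, Matrix.one_mul, Matrix.mul_one]
    simp only [e] at h2
    exact h2

theorem center_iff (t : Tr κ) {M : Matrix κ κ F3} {g : SL4} (hg : g.1 = t.hom M) :
    g ∈ center SL4 ↔ ∃ a : F3, M = a • 1 := by
  rw [Matrix.SpecialLinearGroup.mem_center_iff]
  constructor
  · rintro ⟨r, -, hr⟩
    refine ⟨r, ?_⟩
    apply t.hom_inj
    rw [← hg, ← hr, hom_smul, map_one, scalar_apply, smul_one_eq_diagonal]
  · rintro ⟨a, rfl⟩
    have h1 : g.1 = a • 1 := by rw [hg, hom_smul, map_one]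
    refine ⟨a, ?_, ?_⟩
    · have h2 := congrArg Matrix.det h1
      rw [g.2, det_smul, det_one, mul_one] at h2
      exact h2.symm
    · rw [h1, scalar_apply, smul_one_eq_diagonal]

end Tr

/-! ### alternating forms -/

theorem inv_of_alt {A : GL4} (h : A.1ᵀ = -A.1) : (A⁻¹ : GL4).1ᵀ = -(A⁻¹ : GL4).1 := by
  have h1 : (A⁻¹ : GL4).1ᵀ * A.1ᵀ = 1 := by rw [← transpose_mul, gl_inv', transpose_one]
  rw [h] at h1
  calc (A⁻¹ : GL4).1ᵀ = (A⁻¹ : GL4).1ᵀ * (A.1 * (A⁻¹ : GL4).1) := by rw [gl_inv', mul_one]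
    _ = -((A⁻¹ : GL4).1ᵀ * -A.1) * (A⁻¹ : GL4).1 := by rw [Matrix.mul_neg, neg_neg, ← mul_assoc]
    _ = -(A⁻¹ : GL4).1 := by rw [h1, Matrix.neg_mul, one_mul]

theorem inv_of_symm {A : GL4} (h : A.1ᵀ = A.1) : (A⁻¹ : GL4).1ᵀ = (A⁻¹ : GL4).1 := by
  have h1 : (A⁻¹ : GL4).1ᵀ * A.1ᵀ = 1 := by rw [← transpose_mul, gl_inv', transpose_one]
  rw [h] at h1
  calc (A⁻¹ : GL4).1ᵀ = (A⁻¹ : GL4).1ᵀ * (A.1 * (A⁻¹ : GL4).1) := by rw [gl_inv', mul_one]
    _ = (A⁻¹ : GL4).1 := by rw [← mul_assoc, h1, one_mul]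

theorem dot_swap (B : M4) (u v : Fin 4 → F3) : u ⬝ᵥ (B *ᵥ v) = v ⬝ᵥ (Bᵀ *ᵥ u) := by
  rw [dotProduct_mulVec, dotProduct_comm, mulVec_transpose]

theorem dot_nondeg (A : GL4) {w : Fin 4 → F3} (h : ∀ v, w ⬝ᵥ ((A⁻¹ : GL4).1 *ᵥ v) = 0) : w = 0 := by
  have h1 : w ᵥ* (A⁻¹ : GL4).1 = 0 := by
    apply dotProduct_eq_zero
    intro v
    rw [← dotProduct_mulVec]
    exact h v
  calc w = w ᵥ* ((A⁻¹ : GL4).1 * A.1) := by rw [gl_inv, vecMul_one]
    _ = 0 := by rw [← vecMul_vecMul, h1, zero_vecMul]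

theorem exists_symp (A : GL4) (h : A.1ᵀ = -A.1) :
    ∃ t : Tr (Fin 2 ⊕ Fin 2), t.Pᵀ * (A⁻¹ : GL4).1 * t.P = (-1 : F3) • Matrix.J (Fin 2) F3 := by
  have hB := inv_of_alt h
  have hswap : ∀ u v : Fin 4 → F3, u ⬝ᵥ ((A⁻¹ : GL4).1 *ᵥ v) = -(v ⬝ᵥ ((A⁻¹ : GL4).1 *ᵥ u)) := by
    intro u v
    rw [dot_swap, hB, neg_mulVec, dotProduct_neg]
  have halt : (Matrix.toBilin' (A⁻¹ : GL4).1).IsAlt := by
    intro v
    rw [Matrix.toBilin'_apply']
    exact eq_zero_of_neg _ (hswap v v)
  obtain ⟨m, k, b, h1, h2, h3, h4⟩ := S0752.result _ halt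
  simp only [Matrix.toBilin'_apply'] at h1 h2 h3 h4
  have hk : k = 0 := by
    by_contra hk
    have h5 := b.ne_zero (Sum.inr ⟨0, Nat.pos_of_ne_zero hk⟩)
    exact h5 (dot_nondeg A (h4 _))
  subst hk
  have hm : m = 2 := by
    have h5 := Module.finrank_eq_card_basis b
    rw [Module.finrank_fintype_fun_eq_card] at h5
    simp only [Fintype.card_sum, Fintype.card_fin] at h5
    omega
  subst hm
  let b' : Module.Basis (Fin 2 ⊕ Fin 2) F3 (Fin 4 → F3) := b.reindex (Equiv.sumEmpty (Fin 2 ⊕ Fin 2) (Fin 0))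
  have hb' : ∀ i, b' i = b (Sum.inl i) := by
    intro i
    rw [Module.Basis.reindex_apply]
    rfl
  refine ⟨Tr.ofBasis b', ?_⟩
  ext i j
  rw [Tr.gram, hb', hb']
  rcases i with i | i <;> rcases j with j | j
  · rw [h2]
    simp [Matrix.J]
  · rw [h1]
    simp only [Matrix.J, Matrix.smul_apply, fromBlocks_apply₁₂, Matrix.neg_apply, Matrix.one_apply, smul_eq_mul]
    split_ifs <;> simp
  · rw [hswap, h1]
    simp only [Matrix.J, Matrix.smul_apply, fromBlocks_apply₂₁, Matrix.one_apply, smul_eq_mul, eq_comm (a := j)]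
    split_ifs <;> simp
  · rw [h3]
    simp [Matrix.J]

def phiS (t : Tr (Fin 2 ⊕ Fin 2)) : symplecticGroup (Fin 2) F3 →* SL4 where
  toFun M := ⟨t.hom M.1, by rw [t.det_hom, SymplecticGroup.det_eq_one M.2]⟩
  map_one' := by
    apply Subtype.ext
    show t.hom 1 = 1
    rw [map_one]
  map_mul' M N := by
    apply Subtype.ext
    show t.hom (M.1 * N.1) = t.hom M.1 * t.hom N.1
    rw [map_mul]

theorem comps_alt (A : GL4) (h : A.1ᵀ = -A.1) : Comps 2 ↥(fixedSubgroup (lift (cj A * itr))) := by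
  obtain ⟨t, ht⟩ := exists_symp A h
  have hne : (-1 : F3) ≠ 0 := by decide
  refine comps_graph A (phiS t) ?_ ?_ ?_ inC_psp
  · intro M
    rw [mem_iso]
    exact (t.iso_iff hne ht M.1).2 (SymplecticGroup.mem_iff'.1 M.2)
  · refine (commutator_le_self _).trans ?_
    intro g hg
    rw [mem_iso] at hg
    have h1 : t.inv g.1 ∈ symplecticGroup (Fin 2) F3 := by
      rw [SymplecticGroup.mem_iff', ← t.iso_iff hne ht, t.hom_inv]
      exact hg
    exact ⟨⟨t.inv g.1, h1⟩, Subtype.ext (t.hom_inv g.1)⟩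
  · intro M
    rw [t.center_iff (M := M.1) rfl, LieClassical.SympCenter.mem_center_iff]

end Cfsg.Agent.CpAutTwo.LFour

end

-- merged: Cfsg.Agent.CpAutTwo.LFour.Orth
section

/-!
# S1814, `p = 2`, row `L₄(3)`: the graph automorphisms with orthogonal centralizers (helper60)
-/

set_option autoImplicit false

namespace Cfsg.Agent.CpAutTwo.LFour

open Matrix Subgroup Cfsg QuadraticMap
open Cfsg.Agent.LThree (Comps)
open Cfsg.Agent.ClassicalGeometry.AutPSL.Auto Cfsg.Agent.ClassicalGeometry.AutPSL.Root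
open Cfsg.Agent.ClassicalGeometry.Reflection (mem_isometryGroup_iff)
open Cfsg.Agent.LieClassical.OrthCore (Nondeg)

/-! ### the quadratic form of a symmetric matrix -/

/-- `Q(v) = vᵀ B v` -/
noncomputable def quad (B : M4) : QuadraticForm F3 (Fin 4 → F3) := (Matrix.toBilin' B).toQuadraticMap

theorem quad_apply (B : M4) (v : Fin 4 → F3) : quad B v = v ⬝ᵥ (B *ᵥ v) := by
  rw [quad, LinearMap.BilinMap.toQuadraticMap_apply, Matrix.toBilin'_apply']

theorem polar_quad {B : M4} (hB : Bᵀ = B) (u v : Fin 4 → F3) : polar (quad B) u v = 2 * (u ⬝ᵥ (B *ᵥ v)) := by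
  have h1 : v ⬝ᵥ (B *ᵥ u) = u ⬝ᵥ (B *ᵥ v) := by rw [dot_swap, hB]
  rw [polar, quad_apply, quad_apply, quad_apply, mulVec_add, dotProduct_add, add_dotProduct, add_dotProduct, h1]
  ring

theorem two_mul_cancel : ∀ a b : F3, 2 * a = 2 * b → a = b := by decide

theorem nondeg_quad {A : GL4} (h : A.1ᵀ = A.1) : Nondeg (quad (A⁻¹ : GL4).1) := by
  intro x hx
  apply dot_nondeg A
  intro v
  have h1 := hx v
  rw [polar_quad (inv_of_symm h)] at h1
  exact two_mul_cancel _ _ (by rw [h1, mul_zero])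

theorem iso_iff_quad {B : M4} (hB : Bᵀ = B) (g : M4) : gᵀ * B * g = B ↔ ∀ v, quad B (g *ᵥ v) = quad B v := by
  have e : ∀ u v : Fin 4 → F3, (g *ᵥ u) ⬝ᵥ (B *ᵥ (g *ᵥ v)) = u ⬝ᵥ ((gᵀ * B * g) *ᵥ v) := by
    intro u v
    rw [← mulVec_mulVec, ← mulVec_mulVec, dotProduct_mulVec u gᵀ, vecMul_transpose]
  constructor
  · intro h v
    rw [quad_apply, quad_apply, e, h]
  · intro h
    have h1 : ∀ u v : Fin 4 → F3, (g *ᵥ u) ⬝ᵥ (B *ᵥ (g *ᵥ v)) = u ⬝ᵥ (B *ᵥ v) := by
      intro u v
      apply two_mul_cancel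
      rw [← polar_quad hB, ← polar_quad hB, polar, polar, ← mulVec_add, h, h, h]
    apply Matrix.ext_of_mulVec_single
    intro i
    apply dotProduct_eq
    intro u
    rw [dotProduct_comm, ← e, h1, dotProduct_comm]

variable {κ : Type} [Fintype κ] [DecidableEq κ]

theorem quad_hom {B : M4} (hB : Bᵀ = B) {q : (κ → F3) → F3} {c : F3} (hc : c ≠ 0)
    {j : (κ → F3) ≃ₗ[F3] (Fin 4 → F3)} (hj : ∀ x, quad B (j x) = c * q x) (M : Matrix κ κ F3) :
    ((Tr.of j).hom M)ᵀ * B * (Tr.of j).hom M = B ↔ ∀ x, q (M *ᵥ x) = q x := by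
  rw [iso_iff_quad hB]
  constructor
  · intro h x
    have h1 := h (j x)
    rw [Tr.hom_of_mulVec, hj, hj] at h1
    exact mul_left_cancel₀ hc h1
  · intro h v
    obtain ⟨x, rfl⟩ := j.surjective v
    rw [Tr.hom_of_mulVec, hj, hj, h]

theorem det_of_omega {q : (κ → F3) → F3} (k : Omega F3 q) : k.1.1.1.det = 1 := by
  have h : k.1 ∈ (Matrix.GeneralLinearGroup.det.comp (isometryGroup F3 q).subtype).ker :=
    Abelianization.commutator_subset_ker _ k.2
  have h1 : Matrix.GeneralLinearGroup.det k.1.1 = 1 := h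
  have h2 := congrArg Units.val h1
  simpa only [_root_.Matrix.GeneralLinearGroup.val_det_apply, _root_.Units.val_one] using h2

def phiO (q : (κ → F3) → F3) (t : Tr κ) : Omega F3 q →* SL4 where
  toFun k := ⟨t.hom k.1.1.1, by rw [t.det_hom, det_of_omega]⟩
  map_one' := by
    apply Subtype.ext
    show t.hom 1 = 1
    rw [map_one]
  map_mul' M N := by
    apply Subtype.ext
    show t.hom (M.1.1.1 * N.1.1.1) = t.hom M.1.1.1 * t.hom N.1.1.1
    rw [map_mul]

theorem phiO_mem {B : M4} {q : (κ → F3) → F3} {t : Tr κ}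
    (hq : ∀ M : Matrix κ κ F3, (t.hom M)ᵀ * B * t.hom M = B ↔ ∀ x, q (M *ᵥ x) = q x) (k : Omega F3 q) :
    phiO q t k ∈ Iso B :=
  mem_iso.2 ((hq _).2 ((mem_isometryGroup_iff _ _).1 k.1.2))

/-- an isometry in the coordinates of `q` -/
def back (t : Tr κ) (g : SL4) : GL κ F3 where
  val := t.inv g.1
  inv := t.inv (g⁻¹).1
  val_inv := by
    apply t.hom_inj
    rw [map_mul, t.hom_inv, t.hom_inv, ← Matrix.SpecialLinearGroup.coe_mul, mul_inv_cancel, map_one]
    rfl
  inv_val := by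
    apply t.hom_inj
    rw [map_mul, t.hom_inv, t.hom_inv, ← Matrix.SpecialLinearGroup.coe_mul, inv_mul_cancel, map_one]
    rfl

theorem comm_iso_le {B : M4} {q : (κ → F3) → F3} {t : Tr κ}
    (hq : ∀ M : Matrix κ κ F3, (t.hom M)ᵀ * B * t.hom M = B ↔ ∀ x, q (M *ᵥ x) = q x) :
    ⁅Iso B, Iso B⁆ ≤ (phiO q t).range := by
  have hback : ∀ g ∈ Iso B, back t g ∈ isometryGroup F3 q := by
    intro g hg
    rw [mem_isometryGroup_iff]
    apply (hq _).1
    show (t.hom (t.inv g.1))ᵀ * B * t.hom (t.inv g.1) = B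
    rw [t.hom_inv]
    exact hg
  rw [commutator_le]
  intro g hg h hh
  let G : isometryGroup F3 q := ⟨back t g, hback g hg⟩
  let H : isometryGroup F3 q := ⟨back t h, hback h hh⟩
  have hk : G * H * G⁻¹ * H⁻¹ ∈ _root_.commutator (isometryGroup F3 q) :=
    commutator_mem_commutator (mem_top G) (mem_top H)
  refine ⟨⟨G * H * G⁻¹ * H⁻¹, hk⟩, ?_⟩
  apply Subtype.ext
  rw [commutatorElement_def]
  show t.hom (t.inv g.1 * t.inv h.1 * t.inv (g⁻¹).1 * t.inv (h⁻¹).1) = (g * h * g⁻¹ * h⁻¹).1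
  rw [map_mul, map_mul, map_mul, t.hom_inv, t.hom_inv, t.hom_inv, t.hom_inv, Matrix.SpecialLinearGroup.coe_mul,
    Matrix.SpecialLinearGroup.coe_mul, Matrix.SpecialLinearGroup.coe_mul]

theorem center_phiO {Q : QuadraticForm F3 (κ → F3)} (nd : Nondeg Q) (hn : 3 ≤ Fintype.card κ)
    (hs : ∃ u : κ → F3, u ≠ 0 ∧ Q u = 0) (t : Tr κ) (k : Omega F3 (⇑Q)) :
    phiO (⇑Q) t k ∈ center SL4 ↔ k ∈ center (Omega F3 (⇑Q)) := by
  have nd' : (polarBilin Q).Nondegenerate :=
    ⟨fun x hx => nd x hx, fun y hy => nd y (fun x => by rw [polar_comm]; exact hy x)⟩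
  rw [LieClassical.OrthCenter.mem_center_omega_iff nd' hn hs, t.center_iff (M := k.1.1.1) rfl]
  constructor
  · rintro ⟨a, ha⟩
    have h1 : phiO (⇑Q) t k ∈ center SL4 := (t.center_iff (M := k.1.1.1) rfl).2 ⟨a, ha⟩
    obtain ⟨r, hr4, hr⟩ := Matrix.SpecialLinearGroup.mem_center_iff.1 h1
    rw [Fintype.card_fin] at hr4
    have h2 : t.hom k.1.1.1 = t.hom (r • 1) := by
      rw [t.hom_smul, map_one]
      show (phiO (⇑Q) t k).1 = _
      rw [← hr, scalar_apply, smul_one_eq_diagonal]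
    have h3 := t.hom_inj h2
    rcases pm_of_sq r (sq_of_pow_four r hr4) with rfl | rfl
    · left; rw [h3, one_smul]
    · right; rw [h3, neg_smul, one_smul]
  · rintro (h | h)
    · exact ⟨1, by rw [h, one_smul]⟩
    · exact ⟨-1, by rw [h, neg_smul, one_smul]⟩

theorem inC_minus' (a b : F3) (hab : GenOrth.Aniso a b) :
    InC 2 (Omega F3 (⇑(LieClassical.OrthForms.minusForm 1 F3 a b)) ⧸
      center (Omega F3 (⇑(LieClassical.OrthForms.minusForm 1 F3 a b)))) := by
  rw [LieClassical.OrthForms.coe_minusForm]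
  exact inC_minus a b hab

theorem sing_minus (a b : F3) : ∃ u : (Fin 1 ⊕ Fin 1) ⊕ Fin 2 → F3, u ≠ 0 ∧
    LieClassical.OrthForms.minusForm 1 F3 a b u = 0 := by
  refine ⟨Sum.elim (Sum.elim 1 0) 0, ?_, ?_⟩
  · intro h
    have h1 := congrFun h (Sum.inl (Sum.inl 0))
    exact one_ne_zero h1
  · rw [LieClassical.OrthForms.coe_minusForm, LieClassical.OrthForms.quadFormMinus_apply]
    simp

theorem comps_symm (A : GL4) (h : A.1ᵀ = A.1) : Comps 2 ↥(fixedSubgroup (lift (cj A * itr))) := by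
  have hB := inv_of_symm h
  have hnf := GenOrth.normal_form 4 (nondeg_quad h) (by rw [Module.finrank_fintype_fun_eq_card, Fintype.card_fin])
  rcases hnf with ⟨k, hk, -⟩ | ⟨k, hk, c, hc, j, hj⟩ | ⟨k, hk, a, b, hab, c, hc, j, hj⟩
  · omega
  · obtain rfl : k = 2 := by omega
    exact comps_graph_solv A (phiO _ (Tr.of j)) solvable_plus (comm_iso_le (quad_hom hB hc hj))
  · obtain rfl : k = 1 := by omega
    rw [← LieClassical.OrthForms.coe_minusForm] at hj
    exact comps_graph A (phiO _ (Tr.of j)) (phiO_mem (quad_hom hB hc hj)) (comm_iso_le (quad_hom hB hc hj))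
      (center_phiO (LieClassical.OrthForms.nondeg_minusForm 1 F3 a b hab) (by decide) (sing_minus a b) _)
      (inC_minus' a b hab)

end Cfsg.Agent.CpAutTwo.LFour

end
end

-- part: CpAut/TwoAll
section
-- merged: Cfsg.Agent.CpAut.TwoTRows
section

/-!
# S1814, `p = 2`: the `T_2` rows (helper31)

* `tl2` : `L₂(q)`, `q` odd, from Dickson's list of subgroups (S0799);
* `ta7` : `A_7`.
-/

set_option autoImplicit false

namespace Cfsg.Agent.CpAut.TwoT

open Subgroup Cfsg Cfsg.Agent.CpAut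

universe u

theorem solv_top (G : Type*) [Group G] : Group.IsSolvable (G ⧸ (⊤ : Subgroup G)) := by
  have : Subsingleton (G ⧸ (⊤ : Subgroup G)) := QuotientGroup.subsingleton_quotient_top
  exact Group.isSolvable_of_comm fun a b => Subsingleton.elim _ _

/-- `PSL₂(K)` and `PGL₂(K)`, `|K|` odd -/
theorem compsCT_psl {K : Type} [Field K] [Fintype K] (ho : Odd (Fintype.card K)) :
    CompsCT 2 (Matrix.ProjectiveSpecialLinearGroup (Fin 2) K) := by
  rcases Nat.lt_or_ge 3 (Fintype.card K) with h3 | h3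
  · have hC := GTwoRows.inCT_psl ho h3
    have hC' : InCT 2 ↥(⊤ : Subgroup (Matrix.ProjectiveSpecialLinearGroup (Fin 2) K)) :=
      (inCT_iff Subgroup.topEquiv 2).2 hC
    exact CompsCT.of_normal Nat.prime_two ⊤ hC' (solv_top _)
  · have h1 := Fintype.one_lt_card (α := K)
    have h4 : Fintype.card K = 3 := by
      rcases ho with ⟨k, hk⟩
      omega
    have h5 := GTwoRows.isSolvable_sl_three h4
    exact CompsCT.of_solvable (Group.isSolvable_of_surjective (QuotientGroup.mk'_surjective _))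

theorem compsCT_pgl {K : Type} [Field K] [Fintype K] (ho : Odd (Fintype.card K)) :
    CompsCT 2 (Matrix.ProjGenLinGroup (Fin 2) K) := by
  obtain ⟨g, hg, hker⟩ := S0307.result (F := K) rfl 2 (by norm_num)
  have hq : Group.IsSolvable (Matrix.ProjGenLinGroup (Fin 2) K ⧸ g.ker) :=
    Group.isSolvable_of_isSolvable_injective (f := (QuotientGroup.quotientKerEquivRange g).toMonoidHom)
      (QuotientGroup.quotientKerEquivRange g).injective
  have e : Matrix.ProjectiveSpecialLinearGroup (Fin 2) K ≃* ↥g.ker :=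
    (MonoidHom.ofInjective Matrix.ProjectiveSpecialLinearGroup.toPGL_injective).trans
      (MulEquiv.subgroupCongr hker.symm)
  have hfin : Finite (Matrix.ProjGenLinGroup (Fin 2) K) :=
    Finite.of_surjective _ Matrix.ProjGenLinGroup.mk_surjective
  rcases Nat.lt_or_ge 3 (Fintype.card K) with h3 | h3
  · exact CompsCT.of_normal Nat.prime_two g.ker ((inCT_iff e 2).1 (GTwoRows.inCT_psl ho h3)) hq
  · have h1 := Fintype.one_lt_card (α := K)
    have h4 : Fintype.card K = 3 := by
      rcases ho with ⟨k, hk⟩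
      omega
    have h5 := GTwoRows.isSolvable_sl_three h4
    have h6 : Group.IsSolvable (Matrix.ProjectiveSpecialLinearGroup (Fin 2) K) :=
      Group.isSolvable_of_surjective (QuotientGroup.mk'_surjective _)
    have h7 : Group.IsSolvable ↥g.ker := Group.isSolvable_of_surjective e.surjective (f := e.toMonoidHom)
    exact CompsCT.of_solvable (Group.isSolvable_of_ker_le_range g.ker.subtype (QuotientGroup.mk' g.ker)
      (by rw [QuotientGroup.ker_mk', Subgroup.range_subtype]))

theorem inCT_alt_five : InCT 2 ↥(alternatingGroup (Fin 5)) := by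
  have : Fact (Nat.Prime 5) := ⟨by norm_num⟩
  have hc : Fintype.card (ZMod 5) = 5 := ZMod.card 5
  obtain ⟨e⟩ := S0253.result (F := ZMod 5) hc
  exact (inCT_iff e 2).1 (GTwoRows.inCT_psl (by rw [hc]; decide) (by rw [hc]; norm_num))

/-- **Subgroups of `L₂(q)`, `q` odd.** -/
theorem compsCT_le {F : Type} [Field F] [Fintype F] (ho : Odd (Fintype.card F))
    (H : Subgroup (Matrix.ProjectiveSpecialLinearGroup (Fin 2) F)) : CompsCT 2 ↥H := by
  have : Fact (Nat.Prime (ringChar F)) := ⟨CharP.char_is_prime F (ringChar F)⟩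
  have hchar : CharP F (ringChar F) := ringChar.charP F
  rcases S0799.result (F := F) rfl (ringChar F) H with ⟨k, -, h | ⟨⟨e⟩⟩⟩ | ⟨P, K, hK, ⟨e⟩⟩ | ⟨⟨e⟩⟩ | ⟨⟨e⟩⟩ | ⟨⟨e⟩⟩ |
    ⟨K, _, _, m, hm, ⟨⟨e⟩⟩ | ⟨⟨e⟩⟩⟩
  · have := h.1
    have hs : Group.IsSolvable ↥H := by
      let _ := this.commGroup
      exact inferInstance
    exact CompsCT.of_solvable hs
  · have := ClassicalGeometry.PSL2Solvable.isSolvable_dihedral k
    exact CompsCT.of_solvable (Group.isSolvable_of_surjective e.symm.surjective (f := e.symm.toMonoidHom))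
  · have := ClassicalGeometry.PSL2Solvable.isSolvable_of_le_normalizer (ringChar F) P K hK
    exact CompsCT.of_solvable (Group.isSolvable_of_surjective e.symm.surjective (f := e.symm.toMonoidHom))
  · have hs := solvable_perm (β := Fin 4) (by simp)
    have : Group.IsSolvable ↥(alternatingGroup (Fin 4)) := inferInstance
    exact CompsCT.of_solvable (Group.isSolvable_of_surjective e.symm.surjective (f := e.symm.toMonoidHom))
  · have hs := solvable_perm (β := Fin 4) (by simp)
    exact CompsCT.of_solvable (Group.isSolvable_of_surjective e.symm.surjective (f := e.symm.toMonoidHom))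
  · have hC' : InCT 2 ↥(⊤ : Subgroup ↥(alternatingGroup (Fin 5))) := (inCT_iff Subgroup.topEquiv 2).2 inCT_alt_five
    exact (CompsCT.of_normal Nat.prime_two ⊤ hC' (solv_top _)).congr e.symm
  · have hK : Odd (Fintype.card K) := by
      rw [← hm] at ho
      rcases Nat.eq_zero_or_pos m with rfl | hm0
      · rw [pow_zero] at hm
        have := Fintype.one_lt_card (α := F)
        omega
      · exact (Nat.odd_pow_iff hm0.ne').1 ho
    exact (compsCT_psl hK).congr e.symm
  · have hK : Odd (Fintype.card K) := by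
      rw [← hm] at ho
      rcases Nat.eq_zero_or_pos m with rfl | hm0
      · rw [pow_zero] at hm
        have := Fintype.one_lt_card (α := F)
        omega
      · exact (Nat.odd_pow_iff hm0.ne').1 ho
    exact (compsCT_pgl hK).congr e.symm

/-- **The row `L₂(q)`.** -/
theorem tl2 (F : Type) [Field F] [Fintype F] (ho : Odd (Fintype.card F)) :
    AutCT 2 (Matrix.ProjectiveSpecialLinearGroup (Fin 2) F) := fun x _ => compsCT_le ho (fixedSubgroup x)

/-! ### `A_7` -/

section alt

open Equiv Equiv.Perm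

variable {α : Type} [Fintype α] [DecidableEq α] (s : Perm α)

/-- the moved points -/
abbrev Mv (s : Perm α) := {i : α // s i ≠ i}

/-- the fixed points -/
abbrev Fx (s : Perm α) := {i : α // s i = i}

/-- the even permutations commuting with `s` -/
def CA (s : Perm α) : Subgroup ↥(alternatingGroup α) :=
  (centralizer ({s} : Set (Perm α))).subgroupOf (alternatingGroup α)

theorem comm_apply {c : ↥(alternatingGroup α)} (hc : c ∈ CA s) (i : α) : s ((c : Perm α) i) = (c : Perm α) (s i) := by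
  have h1 := mem_centralizer_singleton_iff.1 (mem_subgroupOf.1 hc)
  exact (congrArg (fun x : Perm α => x i) h1).symm

theorem moved_iff {c : ↥(alternatingGroup α)} (hc : c ∈ CA s) (i : α) :
    s ((c : Perm α) i) ≠ (c : Perm α) i ↔ s i ≠ i := by
  rw [comm_apply s hc, ne_eq, EmbeddingLike.apply_eq_iff_eq]

/-- the action of the centralizer on the moved points -/
def rho : ↥(CA s) →* Perm (Mv s) where
  toFun c := ((c : ↥(alternatingGroup α)) : Perm α).subtypePerm (fun i => moved_iff s c.2 i)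
  map_one' := by ext i; rfl
  map_mul' a b := by ext i; rfl

/-- `s` on its moved points -/
def sm : Perm (Mv s) := s.subtypePerm (fun i => by simp)

theorem rho_comm (c : ↥(CA s)) : rho s c ∈ centralizer ({sm s} : Set (Perm (Mv s))) := by
  rw [mem_centralizer_singleton_iff]
  ext i
  exact (comm_apply s c.2 i).symm

/-- `A(fixed points)` in the centralizer -/
def phi : ↥(alternatingGroup (Fx s)) →* ↥(CA s) where
  toFun g := ⟨⟨ofSubtype (g : Perm (Fx s)), by
      rw [mem_alternatingGroup, sign_ofSubtype]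
      exact mem_alternatingGroup.1 g.2⟩, by
    refine mem_subgroupOf.2 (mem_centralizer_singleton_iff.2 ?_)
    ext i
    change (ofSubtype (g : Perm (Fx s))) (s i) = s ((ofSubtype (g : Perm (Fx s))) i)
    by_cases hi : s i = i
    · rw [hi, ofSubtype_apply_of_mem (g : Perm (Fx s)) (p := fun i => s i = i) hi]
      exact ((g : Perm (Fx s)) ⟨i, hi⟩).2.symm
    · have h2 : ¬ s (s i) = s i := fun h => hi (s.injective h)
      rw [ofSubtype_apply_of_not_mem (g : Perm (Fx s)) (p := fun i => s i = i) h2,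
        ofSubtype_apply_of_not_mem (g : Perm (Fx s)) (p := fun i => s i = i) hi]⟩
  map_one' := by
    apply Subtype.ext
    apply Subtype.ext
    exact map_one ofSubtype
  map_mul' a b := by
    apply Subtype.ext
    apply Subtype.ext
    exact map_mul ofSubtype _ _

theorem phi_injective : Function.Injective (phi s) := by
  intro a b h
  have h1 : ofSubtype (a : Perm (Fx s)) = ofSubtype (b : Perm (Fx s)) :=
    congrArg (fun c : ↥(CA s) => ((c : ↥(alternatingGroup α)) : Perm α)) h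
  exact Subtype.ext (ofSubtype_injective h1)

theorem ker_rho : (rho s).ker = (phi s).range := by
  ext c
  rw [MonoidHom.mem_ker, MonoidHom.mem_range]
  constructor
  · intro hc
    have h1 : ∀ i : α, s i ≠ i → ((c : ↥(alternatingGroup α)) : Perm α) i = i := by
      intro i hi
      have := congrArg (fun t : Perm (Mv s) => ((t ⟨i, hi⟩ : Mv s) : α)) hc
      exact this
    have h3 : ∀ i : α, s (((c : ↥(alternatingGroup α)) : Perm α) i) =
        ((c : ↥(alternatingGroup α)) : Perm α) i ↔ s i = i := by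
      intro i
      have := moved_iff s c.2 i
      tauto
    have h4 : ∀ i : α, ((c : ↥(alternatingGroup α)) : Perm α) i ≠ i → s i = i := by
      intro i hi
      by_contra h
      exact hi (h1 i h)
    refine ⟨⟨((c : ↥(alternatingGroup α)) : Perm α).subtypePerm h3, ?_⟩, ?_⟩
    · rw [mem_alternatingGroup, sign_subtypePerm _ h3 h4]
      exact mem_alternatingGroup.1 (c : ↥(alternatingGroup α)).2
    · apply Subtype.ext
      apply Subtype.ext
      exact ofSubtype_subtypePerm h3 h4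
  · rintro ⟨g, rfl⟩
    ext ⟨i, hi⟩
    exact ofSubtype_apply_of_not_mem (g : Perm (Fx s)) (p := fun i => s i = i) hi

/-- `N ≃* A(fixed points)` -/
noncomputable def kerEquiv : ↥(alternatingGroup (Fx s)) ≃* ↥(rho s).ker :=
  (MonoidHom.ofInjective (phi_injective s)).trans (MulEquiv.subgroupCongr (ker_rho s).symm)

theorem support_sm : (sm s).support = Finset.univ := by
  ext ⟨i, hi⟩
  simp only [mem_support, Finset.mem_univ, iff_true]
  intro h
  exact hi (congrArg Subtype.val h)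

theorem solvable_quot (hk : (sm s).cycleFactorsFinset.card ≤ 4) : Group.IsSolvable (↥(CA s) ⧸ (rho s).ker) := by
  have hsol := solvable_cent (sm s) (support_sm s) hk
  have hle : (rho s).range ≤ centralizer ({sm s} : Set (Perm (Mv s))) := by
    rintro _ ⟨c, rfl⟩
    exact rho_comm s c
  have h1 : Group.IsSolvable ↥(rho s).range :=
    Group.isSolvable_of_isSolvable_injective (f := Subgroup.inclusion hle) (Subgroup.inclusion_injective hle)
  exact Group.isSolvable_of_isSolvable_injective (f := (QuotientGroup.quotientKerEquivRange (rho s)).toMonoidHom)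
    (QuotientGroup.quotientKerEquivRange (rho s)).injective

/-- the number of moved points is `2 k`, `k` the number of cycles -/
theorem card_moved (hs : s * s = 1) : Fintype.card (Mv s) = (sm s).cycleFactorsFinset.card * 2 := by
  have : Fact (Nat.Prime 2) := ⟨Nat.prime_two⟩
  have h1 : sm s ^ 2 = 1 := by
    ext ⟨i, hi⟩
    have h2 : (s * s) i = i := by rw [hs]; rfl
    rw [pow_two]
    exact h2
  have h2 := cycleType_of_pow_prime_eq_one h1
  have h4 := sum_cycleType (sm s)
  rw [h2, Multiset.sum_replicate, smul_eq_mul, support_sm, Finset.card_univ] at h4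
  rw [← h4]
  congr 1
  rw [cycleType_def, Multiset.card_map]
  rfl

theorem card_split : Fintype.card (Mv s) + Fintype.card (Fx s) = Fintype.card α := by
  have h := Fintype.card_subtype_compl (fun i : α => s i = i)
  have h2 := Fintype.card_subtype_le (fun i : α => s i = i)
  have h3 : Fintype.card (Mv s) = Fintype.card α - Fintype.card (Fx s) := h
  have h4 : Fintype.card (Fx s) ≤ Fintype.card α := h2
  omega

end alt

theorem compsCT_CA {s : Equiv.Perm (Fin 7)} (hs : s * s = 1) (h1 : s ≠ 1) : CompsCT 2 ↥(CA s) := by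
  have hm := card_moved s hs
  have hsp := card_split s
  rw [Fintype.card_fin] at hsp
  have hpos : 0 < Fintype.card (Mv s) := by
    rw [Fintype.card_pos_iff]
    by_contra hne
    rw [not_nonempty_iff] at hne
    apply h1
    ext i
    by_contra hi
    exact hne.elim ⟨i, fun h => hi (by rw [h]; rfl)⟩
  have hq := solvable_quot s (by omega)
  by_cases h5 : Fintype.card (Fx s) = 5
  · have e : ↥(alternatingGroup (Fin 5)) ≃* ↥(rho s).ker :=
      (((Fintype.equivFinOfCardEq h5).symm).altCongrHom).trans (kerEquiv s)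
    exact CompsCT.of_normal Nat.prime_two (rho s).ker ((inCT_iff e 2).1 inCT_alt_five) hq
  · have hA := GenType.solvable_alt_four (β := Fx s) (by omega)
    have hN : Group.IsSolvable ↥(rho s).ker :=
      Group.isSolvable_of_surjective (f := (kerEquiv s).toMonoidHom) (kerEquiv s).surjective
    exact CompsCT.of_solvable (Group.isSolvable_of_ker_le_range (rho s).ker.subtype (QuotientGroup.mk' (rho s).ker)
      (by rw [QuotientGroup.ker_mk', Subgroup.range_subtype]))

/-- **The row `A_7`.** -/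
theorem ta7 : AutCT 2 ↥(alternatingGroup (Fin 7)) := by
  intro x hx
  obtain ⟨s, hs⟩ := StandardComponent.AltAut.exists_conj (m := 5) le_rfl x
  have hxx : x * x = 1 := by rw [← pow_two, ← hx, pow_orderOf_eq_one]
  -- an even permutation commuting with all even permutations is trivial
  have hz := center_alt (n := 7) (by norm_num)
  have hcz : ∀ t : Equiv.Perm (Fin 7), (∀ a : ↥(alternatingGroup (Fin 7)), t * (a : Equiv.Perm (Fin 7)) * t⁻¹ = a) →
      t = 1 := by
    intro t ht
    by_contra hne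
    obtain ⟨i, hi⟩ : ∃ i, t i ≠ i := by
      by_contra hcon
      push Not at hcon
      exact hne (Equiv.ext hcon)
    -- `t` commutes with a 3-cycle moving `i` and not `t i`
    obtain ⟨j, k, hj, hk, hjk, hj', hk'⟩ : ∃ j k : Fin 7, j ≠ i ∧ k ≠ i ∧ j ≠ k ∧ j ≠ t i ∧ k ≠ t i := by
      have : ∀ i y : Fin 7, ∃ j k : Fin 7, j ≠ i ∧ k ≠ i ∧ j ≠ k ∧ j ≠ y ∧ k ≠ y := by decide +kernel
      exact this i (t i)
    have hev : Equiv.swap i j * Equiv.swap i k ∈ alternatingGroup (Fin 7) := by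
      rw [Equiv.Perm.mem_alternatingGroup, Equiv.Perm.sign_mul, Equiv.Perm.sign_swap hj.symm,
        Equiv.Perm.sign_swap hk.symm]
      decide
    have h1 := ht ⟨_, hev⟩
    rw [mul_inv_eq_iff_eq_mul] at h1
    have h2 := congrArg (fun p : Equiv.Perm (Fin 7) => p i) h1
    change t (Equiv.swap i j (Equiv.swap i k i)) = Equiv.swap i j (Equiv.swap i k (t i)) at h2
    rw [Equiv.swap_apply_left, Equiv.swap_apply_of_ne_of_ne hk (Ne.symm hjk),
      Equiv.swap_apply_of_ne_of_ne hi (Ne.symm hk'), Equiv.swap_apply_of_ne_of_ne hi (Ne.symm hj')] at h2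
    exact hk (t.injective h2)
  have hss : s * s = 1 := by
    apply hcz
    intro a
    have h1 : (((x * x) a : ↥(alternatingGroup (Fin 7))) : Equiv.Perm (Fin 7)) = a := by rw [hxx]; rfl
    rw [MulAut.mul_apply, hs, hs] at h1
    refine Eq.trans ?_ h1
    group
  have hs1 : s ≠ 1 := by
    rintro rfl
    have h1 : x = 1 := by
      ext a
      rw [hs]
      simp
    rw [h1, orderOf_one] at hx
    omega
  have h := compsCT_CA hss hs1
  have he : fixedSubgroup x = CA s := by
    ext a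
    constructor
    · intro ha
      have ha' : x a = a := ha
      refine mem_subgroupOf.2 (mem_centralizer_singleton_iff.2 ?_)
      have h1 := hs a
      rw [ha', eq_mul_inv_iff_mul_eq] at h1
      exact h1
    · intro ha
      have ha' := mem_centralizer_singleton_iff.1 (mem_subgroupOf.1 ha)
      change x a = a
      apply Subtype.ext
      rw [hs, ← ha', mul_inv_cancel_right]
  rw [he]
  exact h

end Cfsg.Agent.CpAut.TwoT

end

-- merged: Cfsg.Agent.CpAut.TwoCT
section

/-!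
# S1814, `p = 2`: the rows of `TwoRows` of characteristic 2 type (helper31)

Lie type in characteristic 2, `L₂(q)` (`q ∈ FM9`), `L₃(3)`, `G₂(3)`, `U₄(3)`, `M₁₁`, `M₂₂`, `M₂₃`, `M₂₄`, `J₃`, `Th`.
-/

set_option autoImplicit false

namespace Cfsg.Agent.CpAut.TwoCT

open Subgroup Cfsg

universe u

theorem allCT {X : Type u} [Group X] (h : IsCharacteristicTwoType X) : AllCT X := fun _ hu =>
  EvenType.CharTwoCent.char2_centralizer h hu

theorem chev (X : Type) [Group X] [Finite X] [IsSimpleGroup X] (hna : ¬ IsMulCommutative X) (h : IsChevSimple 2 X) :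
    AllCT X := allCT (EvenType.ChevTwo.charTwo hna h)

theorem l2 (F : Type) [Field F] [Fintype F] (h : IsFM9 (Fintype.card F)) :
    AllCT (Matrix.ProjectiveSpecialLinearGroup (Fin 2) F) := by
  have : Finite (Matrix.ProjectiveSpecialLinearGroup (Fin 2) F) := Quotient.finite _
  refine allCT (OddHalf.Small.L2.psl2 (F := F) ?_ (MulEquiv.refl _))
  rcases h with ⟨hp, ⟨k, -, hk⟩ | ⟨k, hk⟩⟩ | h9
  · exact Or.inl ⟨hp, Or.inr ⟨k, hk⟩⟩
  · exact Or.inl ⟨hp, Or.inl ⟨k, hk⟩⟩
  · exact Or.inr h9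

theorem l33 (F : Type) [Field F] [Fintype F] (hF : Fintype.card F = 3) :
    AllCT (Matrix.ProjectiveSpecialLinearGroup (Fin 3) F) := allCT (OddHalf.Small.RowsAll.rows.l33 F hF)

theorem g23 (F : Type) [Field F] [Fintype F] (hF : Fintype.card F = 3) : AllCT ↥(Lie.chevG2.group F) :=
  allCT (OddHalf.Small.RowsAll.rows.g23 F hF)

theorem u43 (F : Type) [Field F] [Fintype F] (hF : Fintype.card F = 9) : AllCT (PSU 4 F 3) :=
  allCT (OddHalf.Small.RowsAll.rows.u43 F hF)

theorem m11 : AllCT Spor.M11 := allCT OddHalf.Small.M11.charTwo_M11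

theorem m22 : AllCT Spor.M22 := allCT OddHalf.Small.Mathieu.charTwo_M22

theorem m23 : AllCT Spor.M23 := allCT OddHalf.Small.Mathieu.charTwo_M23

theorem m24 : AllCT ↥Cfsg.M24 := allCT OddHalf.Small.M24Char.charTwo_M24

theorem j3 (X : Type) [Group X] [Finite X] [IsSimpleGroup X] (h : Spor.IsoJ3 X) : AllCT X :=
  allCT (OddHalf.Small.J3.j3 X h)

theorem th : AllCT Spor.Th := allCT SevenCases.SporTh.charTwo_Th

end Cfsg.Agent.CpAut.TwoCT

end

-- merged: Cfsg.Agent.CpAut.TwoCTSpor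
section

/-!
# S1814, `p = 2`: the rows `J₄`, `Co₂` of `TwoRows` (helper31)
-/

set_option autoImplicit false

namespace Cfsg.Agent.CpAut.TwoCT

open Subgroup Cfsg

theorem j4 : AllCT Spor.J4 := allCT (SevenCases.SporJ4.charTwo ⟨MulEquiv.refl _⟩)

theorem co2 : AllCT Spor.Co2 := allCT (SevenCases.SporCo2.charTwo ⟨MulEquiv.refl _⟩)

end Cfsg.Agent.CpAut.TwoCT

end

-- merged: Cfsg.Agent.CpAutTwo.MTwelve
section

/-!
# S1814, `p = 2`, row `M₁₂`: outer involutions (helper38)

`C(c) = ⟨y⟩ × A₅` for an outer involution `c`.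
-/

set_option autoImplicit false

namespace Cfsg.Agent.CpAutTwo.MTwelve

open Subgroup Cfsg
open Cfsg.Agent.LThree (Comps)
open Cfsg.Agent.CoThreeStd.MTwelve (H y)
open Cfsg.Agent.CoThreeStd.AutGamma (c c_y)
open Cfsg.Agent.CoThreeStd.AutMain (F0 c_fix c_F0 comm_y_F0)
open Cfsg.Agent.CoThreeStd.AutCent (exists_equiv_F0)

theorem F0_le : F0 ≤ fixedSubgroup c := fun _ hf => c_F0 hf

theorem y_sq : y * y = 1 := Cfsg.Agent.CoThreeStd.MTwelve.y_sq

theorem comm_y {f : H} (hf : f ∈ F0) : y * f = f * y := comm_y_F0 hf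

theorem sq_mem {h : H} (hh : h ∈ fixedSubgroup c) : h * h ∈ F0 := by
  rcases c_fix.1 hh with h1 | h1
  · exact mul_mem h1 h1
  · have h2 : h = h * y * y := by rw [mul_assoc, y_sq, mul_one]
    have h3 : y * (h * y) = (h * y) * y := comm_y h1
    have h4 : h * h = (h * y) * (h * y) := by
      calc h * h = h * (h * y * y) := by rw [← h2]
        _ = h * ((h * y) * y) := rfl
        _ = h * (y * (h * y)) := by rw [h3]
        _ = (h * y) * (h * y) := by group
    rw [h4]
    exact mul_mem h1 h1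

theorem conj_mem {h f : H} (hh : h ∈ fixedSubgroup c) (hf : f ∈ F0) : h * f * h⁻¹ ∈ F0 := by
  rcases c_fix.1 hh with h1 | h1
  · exact mul_mem (mul_mem h1 hf) (inv_mem h1)
  · have h2 : h * f * h⁻¹ = (h * y) * f * (h * y)⁻¹ := by
      calc h * f * h⁻¹ = h * (f * (y * y)) * h⁻¹ := by rw [y_sq, mul_one]
        _ = h * (f * y) * y * h⁻¹ := by group
        _ = h * (y * f) * y⁻¹ * h⁻¹ := by rw [comm_y hf, inv_eq_of_mul_eq_one_left y_sq]
        _ = (h * y) * f * (h * y)⁻¹ := by group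
    rw [h2]
    exact mul_mem (mul_mem h1 hf) (inv_mem h1)

/-- the fixed subgroup of the outer involution `c` -/
theorem comps_c : Comps 2 ↥(fixedSubgroup c) := by
  have hN : (F0.subgroupOf (fixedSubgroup c)).Normal := by
    refine ⟨fun f hf h => ?_⟩
    rw [mem_subgroupOf] at hf ⊢
    exact conj_mem h.2 hf
  obtain ⟨e⟩ := exists_equiv_F0
  have e1 : ↥(F0.subgroupOf (fixedSubgroup c)) ≃* ↥(alternatingGroup (Fin 5)) := (subgroupOfEquivOfLe F0_le).trans e
  have hs : IsSimpleGroup ↥(F0.subgroupOf (fixedSubgroup c)) := CTwoTab.simple_alt le_rfl e1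
  have hna := CTwoTab.na_alt le_rfl e1
  have hg := CTwoTab.JTwo.good_A5 e1
  have hz := CTwoTab.center_eq_bot_of_simple hna
  refine Comps.of_normal Nat.prime_two (F0.subgroupOf (fixedSubgroup c))
    ⟨CTwoTab.isQuasisimple_of_simple hna, ?_, hg.1, hg.2⟩ ?_
  · rw [hz]
    exact IsPGroup.of_bot
  · have h2 : ∀ q : ↥(fixedSubgroup c) ⧸ F0.subgroupOf (fixedSubgroup c), q * q = 1 := by
      intro q
      obtain ⟨h, rfl⟩ := QuotientGroup.mk_surjective q
      rw [← QuotientGroup.mk_mul, QuotientGroup.eq_one_iff, mem_subgroupOf]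
      exact sq_mem h.2
    have h3 : ∀ a b : ↥(fixedSubgroup c) ⧸ F0.subgroupOf (fixedSubgroup c), a * b = b * a := by
      intro a b
      have ha : ∀ q : ↥(fixedSubgroup c) ⧸ F0.subgroupOf (fixedSubgroup c), q⁻¹ = q := fun q =>
        (inv_eq_of_mul_eq_one_left (h2 q) :)
      calc a * b = (a * b)⁻¹ := (ha _).symm
        _ = b⁻¹ * a⁻¹ := mul_inv_rev a b
        _ = b * a := by rw [ha, ha]
    let _ : CommGroup (↥(fixedSubgroup c) ⧸ F0.subgroupOf (fixedSubgroup c)) :=
      { (inferInstance : Group (↥(fixedSubgroup c) ⧸ F0.subgroupOf (fixedSubgroup c))) with mul_comm := h3 }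
    infer_instance

/-- **Outer involutions of `M₁₂`.** -/
theorem outer : OuterC Spor.M12 := by
  intro x hx hout
  have h1 : x ∉ Cfsg.Agent.CoThreeStd.AutClass.Inn := fun ⟨g, hg⟩ => hout ⟨g, hg.symm⟩
  obtain ⟨m, hm⟩ := Cfsg.Agent.CoThreeStd.AutInv.outer_conj h1 (by rw [← pow_two, ← hx, pow_orderOf_eq_one])
  exact comps_conj m hm comps_c

end Cfsg.Agent.CpAutTwo.MTwelve

end

-- merged: Cfsg.Agent.CpAut.TwoMTwelve
section

/-!
# S1814, `p = 2`: the row `M₁₂` of `TwoRows` (helper31)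

`C(y) = 2 × S₅`, `|C(p r)| = 192`; the outer part is `CpAutTwo.MTwelve.outer` (helper38).
-/

set_option autoImplicit false

namespace Cfsg.Agent.CpAut.TwoMTwelve

open Subgroup Cfsg
open Cfsg.Agent.LThree (Comps)
open Cfsg.Agent.CoThreeStd.MTwelve
open Cfsg.Agent.AschSpor.MTwelve (N N_le eN conj_mem)

universe u

/-- inner and outer part -/
theorem autC_two' {X : Type u} [Group X] (hc : center X = ⊥)
    (hi : ∀ g : X, orderOf g = 2 → Comps 2 ↥(centralizer ({g} : Set X))) (ho : CpAutTwo.OuterC X) : AutC 2 X := by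
  intro x hx
  by_cases h : ∃ g : X, x = MulAut.conj g
  · obtain ⟨g, rfl⟩ := h
    rw [orderOf_conj hc] at hx
    rw [fixedSubgroup_conj]
    exact hi g hx
  · exact ho x hx h

/-- centralizers of conjugate elements -/
theorem comps_isConj {X : Type u} [Group X] {p : ℕ} {s t : X} (m : X) (h : m⁻¹ * s * m = t)
    (hs : Comps p ↥(centralizer ({s} : Set X))) : Comps p ↥(centralizer ({t} : Set X)) := by
  have e := centEquiv (MulAut.conj m⁻¹) s
  have h1 : (MulAut.conj m⁻¹) s = t := by rw [MulAut.conj_apply, inv_inv]; exact h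
  rw [h1] at e
  exact hs.congr e

theorem comps_y : Comps 2 ↥(centralizer ({y} : Set H)) := by
  have hN : (N.subgroupOf (centralizer ({y} : Set H))).Normal := by
    constructor
    intro n hn g
    rw [mem_subgroupOf] at hn ⊢
    exact conj_mem (mem_centralizer_singleton_iff.1 g.2) hn
  have e1 : ↥(N.subgroupOf (centralizer ({y} : Set H))) ≃* ↥(alternatingGroup (Fin 5)) :=
    (subgroupOfEquivOfLe N_le).trans eN.symm
  have hs : IsSimpleGroup ↥(alternatingGroup (Fin 5)) := alternatingGroup.isSimpleGroup (by simp)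
  have hna : ¬ IsMulCommutative ↥(alternatingGroup (Fin 5)) := by
    intro h
    have h1 : center (alternatingGroup (Fin 5)) = ⊤ := by
      rw [eq_top_iff]
      intro a _
      exact mem_center_iff.2 fun b => h.is_comm.comm b a
    rw [alternatingGroup.center_eq_bot (by rw [Nat.card_fin]; omega)] at h1
    exact bot_ne_top h1
  have hC : InC 2 ↥(alternatingGroup (Fin 5)) := CpAutTwo.inC_two hna
    (Or.inl (SevenCases.chevSimple_of_pslTwoEven (SevenCases.pslTwoEven_a5 (MulEquiv.refl _))))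
  refine CpAutTwo.comps_of_sq (N.subgroupOf (centralizer ({y} : Set H))) ((CpQuot.Congr.inC_iff e1 2).2 hC) ?_
  rintro ⟨g, hg⟩
  rw [mem_subgroupOf]
  have hev : ∀ σ : Equiv.Perm (Fin 5), w (σ * σ) ∈ N := fun σ =>
    ⟨σ * σ, by
      change σ * σ ∈ alternatingGroup (Fin 5)
      rw [Equiv.Perm.mem_alternatingGroup, map_mul, Int.units_mul_self], rfl⟩
  obtain ⟨σ, rfl | rfl⟩ := cent_y g (mem_centralizer_singleton_iff.1 hg)
  · change w σ * w σ ∈ N
    rw [← map_mul]
    exact hev σ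
  · change y * w σ * (y * w σ) ∈ N
    have h1 : y * w σ * (y * w σ) = w (σ * σ) := by
      rw [map_mul]
      calc y * w σ * (y * w σ) = y * (w σ * y) * w σ := by group
        _ = y * (y * w σ) * w σ := by rw [y_comm]
        _ = (y * y) * (w σ * w σ) := by group
        _ = w σ * w σ := by rw [y_sq, one_mul]
    rw [h1]
    exact hev σ

theorem comps_v : Comps 2 ↥(centralizer ({p * r} : Set H)) := by
  apply Comps.of_solvable
  exact S0144.result 2 3 6 1 Nat.prime_two Nat.prime_three (by rw [card_cent_v]; norm_num)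

theorem comps_inner (g : H) (hg : orderOf g = 2) : Comps 2 ↥(centralizer ({g} : Set H)) := by
  have h1 : g ≠ 1 := by
    rintro rfl
    rw [orderOf_one] at hg
    omega
  have h2 : g * g = 1 := by rw [← pow_two, ← hg, pow_orderOf_eq_one]
  rcases inv_class g h1 h2 with ⟨m, hm⟩ | ⟨m, hm⟩
  · exact comps_isConj m hm comps_y
  · exact comps_isConj m hm comps_v

theorem center_bot : center H = ⊥ := by
  rw [eq_bot_iff]
  intro z hz
  have hz' := mem_center_iff.1 hz
  obtain ⟨σ, hσ⟩ := cent_y z (hz' y).symm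
  -- `z` commutes with all the `w τ`
  have h1 : ∀ τ, w (σ * τ) = w (τ * σ) := by
    intro τ
    have h2 := hz' (w τ)
    rcases hσ with rfl | rfl
    · rw [map_mul, map_mul, h2]
    · rw [map_mul, map_mul]
      have h3 : y * (w τ * w σ) = y * (w σ * w τ) := by
        calc y * (w τ * w σ) = (y * w τ) * w σ := by group
          _ = (w τ * y) * w σ := by rw [y_comm]
          _ = w τ * (y * w σ) := by group
          _ = (y * w σ) * w τ := h2
          _ = y * (w σ * w τ) := by group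
      exact (mul_left_cancel h3).symm
  have h4 : σ = 1 := perm5_central σ fun τ => w_injective (h1 τ)
  subst h4
  rw [map_one, mul_one] at hσ
  rcases hσ with rfl | rfl
  · exact mem_bot.2 rfl
  · exfalso
    -- `y` is not central
    have h5 := card_cent_y
    have h6 : centralizer ({y} : Set H) = ⊤ := by
      rw [eq_top_iff]
      intro g _
      exact mem_centralizer_singleton_iff.2 (hz' g)
    rw [h6, card_top, card_H] at h5
    omega

/-- **The row `M₁₂`.** -/
theorem m12 : AutC 2 Spor.M12 := autC_two' center_bot comps_inner CpAutTwo.MTwelve.outer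

end Cfsg.Agent.CpAut.TwoMTwelve

end

-- merged: Cfsg.Agent.CpAut.TwoInnerRu
section

/-!
# S1814, `p = 2`: the row `Ru` (`Out = 1`) (helper31)
-/

set_option autoImplicit false

namespace Cfsg.Agent.CpAut.TwoInner

open Subgroup Cfsg

theorem ru : AutC 2 Spor.Ru := by
  have hR : Spor.IsoRu Spor.Ru := ⟨MulEquiv.refl _⟩
  have hcard := RuC.Trans.natCard_of_isoRu hR
  have : Finite Spor.Ru := Nat.finite_of_card_ne_zero (by rw [hcard]; norm_num)
  exact autC_of_all (center_eq_bot_of_card (RuC.Trans.isSimple_of_isoRu hR) (by rw [hcard]; norm_num))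
    (OddHalf.D4.Spor.RuIso.inn hR) (CTwoTab.Ru.compC2_of_iso hR)

end Cfsg.Agent.CpAut.TwoInner

end

-- merged: Cfsg.Agent.CpAut.TwoInnerFi
section

/-!
# S1814, `p = 2`: the row `Fi₂₃` (`Out = 1`) (helper31)
-/

set_option autoImplicit false

namespace Cfsg.Agent.CpAut.TwoInner

open Subgroup Cfsg

theorem fi23 : AutC 2 Spor.Fi23 := by
  have h0 : IsFi23 Spor.Fi23 := S1697.result
  have : Finite Spor.Fi23 := Nat.finite_of_card_ne_zero (by rw [h0.2]; norm_num)
  exact autC_of_all (center_eq_bot_of_card h0.1 (by rw [h0.2]; norm_num)) KFacts.FiTTh.Has.inn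
    CTwoTab.Fi23Fin.compC2

end Cfsg.Agent.CpAut.TwoInner

end

-- merged: Cfsg.Agent.CpAut.TwoInnerCo
section

/-!
# S1814, `p = 2`: the row `Co₁` (`Out = 1`) (helper31)
-/

set_option autoImplicit false

namespace Cfsg.Agent.CpAut.TwoInner

open Subgroup Cfsg

theorem co1 : AutC 2 Spor.Co1 := by
  have h0 : IsCo1 Spor.Co1 := S0399.result
  have : Finite Spor.Co1 := Nat.finite_of_card_ne_zero (by rw [h0.2]; norm_num)
  refine autC_of_all (center_eq_bot_of_card h0.1 (by rw [h0.2]; norm_num)) (fun α => ?_) CTwoTab.Co1.compC2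
  obtain ⟨s, hs⟩ := ConwayFacts.AutCo1.inner α
  exact ⟨s, MulEquiv.ext fun g => hs g⟩

end Cfsg.Agent.CpAut.TwoInner

end

-- merged: Cfsg.Agent.CpAut.TwoInnerM
section

/-!
# S1814, `p = 2`: the row `M` (`Out = 1`), from `CompC2` (helper31)
-/

set_option autoImplicit false

namespace Cfsg.Agent.CpAut.TwoInner

open Subgroup Cfsg
open Cfsg.Spor (Co1)
open Cfsg.Agent.MonsterX Cfsg.Agent.MonsterX.Model Cfsg.Agent.MonsterX.MainSimple Cfsg.Agent.MonsterX.MainBasic

theorem inner_m (α : MulAut Spor.Monster) : ∃ g, α = MulAut.conj g := by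
  obtain ⟨f⟩ := Cfsg.Agent.MonsterP.Equiv.equiv
  exact inner_congr f (KFacts.MonsterE.inner_model Instance.mGroup Instance.mRep Instance.mLat InstanceFinal.mOrbit
    Instance.mTrans) α

theorem m (h : CTwoTab.CompC2 Spor.Monster) : AutC 2 Spor.Monster := by
  have h0 : IsM Spor.Monster := S1705.result
  have : Finite Spor.Monster := Nat.finite_of_card_ne_zero (by rw [h0.2]; norm_num)
  exact autC_of_all (center_eq_bot_of_card h0.1 (by rw [h0.2]; norm_num)) inner_m h

end Cfsg.Agent.CpAut.TwoInner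

end

-- merged: Cfsg.Agent.CpAut.Fi22Check
section

/-!
# S1814, `p = 2`: the order check of the row `Fi₂₂` (helper31)
-/

set_option autoImplicit false

namespace Cfsg.Agent.CpAut.Fi22Check

open Subgroup Cfsg
open Cfsg.Agent.OrdDiv

/-- the names on the `C₂` list which occur -/
noncomputable def ok (g : Grp) : Bool :=
  CpAutTwo.goodTwo g || decide (g = .oplus 4 2) || decide (g = .fi22)

theorem chk : ((cands [(2, 17), (3, 9), (5, 2), (7, 1), (11, 1), (13, 1)] 64561751654400).filter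
    (fun g => (fun n => decide (2903040 ∣ n)) (ordN g))).all ok = true := by decide +kernel

/-- the hypothesis `Fi22Row.Check` -/
theorem check (T : OrderTable.{0}) (S : Type) [Group S] [Finite S] [IsSimpleGroup S] (hna : ¬ IsMulCommutative S)
    (hkn : IsKnownSimple' S) (hcp : ¬ IsCpSimple 2 S) (h1 : 2903040 ∣ Nat.card S)
    (h2 : Nat.card S ∣ 64561751654400) : False := by
  obtain ⟨g, hg, hr⟩ := exists_real_filter T hkn (fun h => hna ⟨⟨h⟩⟩)
    (l := [(2, 17), (3, 9), (5, 2), (7, 1), (11, 1), (13, 1)]) (by decide +kernel) h2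
    (fun n => decide (2903040 ∣ n)) (decide_eq_true h1)
  have h3 := List.all_eq_true.1 chk g hg
  simp only [ok, Bool.or_eq_true, decide_eq_true_eq] at h3
  apply hcp
  rcases h3 with (h3 | rfl) | rfl
  · exact CpAutTwo.cp_of_real h3 hr
  · obtain ⟨F, i1, i2, hc, e⟩ := hr
    have : CharP F 2 := CpAutTwo.char_two hc rfl
    exact Or.inl (Or.inl (Or.inr (Or.inr (Or.inr (Or.inr (Or.inl ⟨F, i1, i2, this, 4, by norm_num, e⟩))))))
  · exact Or.inr (Or.inr (Or.inl ⟨rfl, by
      simp only [IsCTwoListed]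
      have : Spor.IsoFi22 S := hr
      (clear * - this; simp only [this, true_or, or_true])⟩))

end Cfsg.Agent.CpAut.Fi22Check

end

-- merged: Cfsg.Agent.CpAutFi24.OutInv
section

/-!
# The involutions of `Fi24` outside `Fi24'`

`outer_cases` : an involution of `Fi24` outside `Fi24'` is a transposition or the product of three different commuting
transpositions.
-/

set_option autoImplicit false
set_option linter.unusedVariables false

namespace Cfsg.Agent.CpAutFi24.OutInv

open Cfsg Cfsg.Agent.R01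
open Cfsg.Agent.R08.TetBasic Cfsg.Agent.R08.TetTwo Cfsg.Agent.R08.TetThree Cfsg.Agent.R08.TetPair

section Gen

variable {F P : Type*} [Group F] [Group P] {L : Set F} {F0 : Subgroup F} {T : Set P}

/-- The automorphism of `P` induced by an involution `t` (normalising `F0`) which interchanges `a` and `b`. -/
theorem exists_theta (h : Pre L F0 T) {a b t : F} (ha : a ∈ L) (hb : b ∈ L) (hne : a ≠ b)
    (hab : Commute a b) (ht : ∀ x ∈ F0, t * x * t ∈ F0) (htt : t * t = 1) (hta : t * a * t = b) :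
    ∃ (π : F → P) (θ : P ≃* P), Pi L F0 T a b π ∧ (∀ p, θ (θ p) = p) ∧
      ∀ x, InQ F0 a b x → InQ F0 a b (t * x * t) ∧ θ (π x) = π (t * x * t) := by
  obtain ⟨π, hP⟩ := h.exists_pi ha hb hne hab
  have tt : ∀ c : F, t * (t * c * t) * t = c := by
    intro c
    calc t * (t * c * t) * t = (t * t) * c * (t * t) := by group
      _ = c := by rw [htt, one_mul, mul_one]
  have tm : ∀ c d : F, t * (c * d) * t = t * c * t * (t * d * t) := by
    intro c d
    calc t * (c * d) * t = t * c * 1 * d * t := by group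
      _ = t * c * (t * t) * d * t := by rw [htt]
      _ = t * c * t * (t * d * t) := by group
  have htb : t * b * t = a := by rw [← hta, tt]
  have tc : ∀ c d : F, Commute c d → Commute (t * c * t) (t * d * t) := by
    intro c d hcd
    show _ = _
    rw [← tm, ← tm, hcd.eq]
  have hq : ∀ x, InQ F0 a b x → InQ F0 a b (t * x * t) := by
    intro x hx
    refine ⟨ht x hx.f0, ?_, ?_⟩
    · have := tc x b hx.cb; rwa [htb] at this
    · have := tc x a hx.ca; rwa [hta] at this
  have tab : t * (a * b) * t = a * b := by rw [tm, hta, htb, hab.eq]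
  choose s hs1 hs2 using hP.surj
  have qab : InQ F0 a b (a * b) := h.inQ ha hb hab hab.symm (Commute.refl b)
  -- well defined
  have key : ∀ x, InQ F0 a b x → π (t * s (π x) * t) = π (t * x * t) := by
    intro x hx
    rcases hP.eq_or (hs1 (π x)) hx (hs2 (π x)) with h1 | h1
    · rw [h1]
    · rw [h1, tm, tab, hP.mul _ (hq x hx) _ qab, hP.ab, mul_one]
  have inv : ∀ p, π (t * s (π (t * s p * t)) * t) = p := by
    intro p
    rw [key _ (hq _ (hs1 p)), tt, hs2]
  refine ⟨π,
    { toFun := fun p => π (t * s p * t)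
      invFun := fun p => π (t * s p * t)
      left_inv := inv
      right_inv := inv
      map_mul' := fun p q => by
        have h1 : π (s p * s q) = p * q := by rw [hP.mul _ (hs1 p) _ (hs1 q), hs2, hs2]
        rw [← h1, key _ ((hs1 p).mul (hs1 q)), tm, hP.mul _ (hq _ (hs1 p)) _ (hq _ (hs1 q))] },
    hP, inv, ?_⟩
  intro x hx
  exact ⟨hq x hx, key x hx⟩

/-- An involution normalising `F0` commutes with some member of `L`. -/
theorem exists_commute (h : Pre L F0 T)
    (hFf : ∀ θ : P ≃* P, (∀ x, θ (θ x) = x) → ¬ ∀ d ∈ T, θ d ∈ T ∧ θ d ≠ d ∧ θ d * d = d * θ d)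
    {t : F} (ht : ∀ x ∈ F0, t * x * t ∈ F0) (htt : t * t = 1) : ∃ f ∈ L, Commute t f := by
  by_contra hcon
  push Not at hcon
  have hti : t⁻¹ = t := inv_eq_of_mul_eq_one_left htt
  have tt : ∀ c : F, t * (t * c * t) * t = c := by
    intro c
    calc t * (t * c * t) * t = (t * t) * c * (t * t) := by group
      _ = c := by rw [htt, one_mul, mul_one]
  have tm : ∀ c d : F, t * (c * d) * t = t * c * t * (t * d * t) := by
    intro c d
    calc t * (c * d) * t = t * c * 1 * d * t := by group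
      _ = t * c * (t * t) * d * t := by rw [htt]
      _ = t * c * t * (t * d * t) := by group
  have tL : ∀ c ∈ L, t * c * t ∈ L := by
    intro c hc
    have := h.conj t c hc
    rwa [hti] at this
  have fix : ∀ f ∈ L, t * f * t ≠ f := by
    intro f hf h1
    apply hcon f hf
    show t * f = f * t
    calc t * f = t * f * (t * t) := by rw [htt, mul_one]
      _ = t * f * t * t := by group
      _ = f * t := by rw [h1]
  have com : ∀ c ∈ L, Commute (t * c * t) c := by
    intro c hc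
    rcases h.three c hc (t * c * t) (tL c hc) with h1 | h1
    · exact h1.symm
    · exfalso
      have h2 : c * (t * c * t) * c ∈ L := by
        have := h.conj c (t * c * t) (tL c hc)
        rwa [inv_eq_of_mul_eq_one_left (h.sq c hc)] at this
      apply fix _ h2
      rw [tm, tm, tt]
      exact h1.symm
  obtain ⟨a, ha⟩ := h.ne
  obtain ⟨π, θ, hP, hθ, hθπ⟩ := exists_theta h ha (tL a ha) (fix a ha).symm (com a ha).symm ht htt rfl
  apply hFf θ hθ
  intro d hd
  obtain ⟨c, hc, n1, n2, c1, c2, rfl⟩ := hP.lift d hd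
  have q1 := h.inQ ha hc (com a ha).symm c1 c2
  have k1 : t * c * t ≠ a := by
    intro h1
    apply n2
    rw [← h1, tt]
  have k2 : t * c * t ≠ t * a * t := by
    intro h1
    apply n1
    exact mul_left_cancel (mul_right_cancel h1)
  have c3 : Commute (t * c * t) (t * a * t) := by
    show _ = _
    rw [← tm, ← tm, c1.eq]
  have c4 : Commute (t * c * t) a := by
    have : Commute (t * c * t) (t * (t * a * t) * t) := by
      show _ = _
      rw [← tm, ← tm, c2.eq]
    rwa [tt] at this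
  have q2 := h.inQ ha (tL c hc) (com a ha).symm c4 c3
  have q3 := h.inQ ha (tL a ha) (com a ha).symm (com a ha) (Commute.refl _)
  have e1 : θ (π (a * c)) = π (a * (t * c * t)) := by
    rw [(hθπ _ q1).2, tm]
    have e2 : t * a * t * (t * c * t) = a * (t * a * t) * (a * (t * c * t)) := by
      rw [mul_mul (h.sq a ha) (com a ha)]
    rw [e2, hP.mul _ q3 _ q2, hP.ab, one_mul]
  rw [e1]
  refine ⟨hP.map _ (tL c hc) k1 k2 c4 c3, ?_, ?_⟩
  · intro h1
    exact fix c hc (hP.inj _ (tL c hc) k1 k2 c4 c3 c hc n1 n2 c1 c2 h1)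
  · rw [← hP.mul _ q2 _ q1, ← hP.mul _ q1 _ q2, mul_mul (h.sq a ha) c4, mul_mul (h.sq a ha) c1,
      (com c hc).eq]

end Gen

open Cfsg.Agent.R08 Cfsg.Agent.R08.FiTwentyFour
open Cfsg.Spor (Fi24)
open Cfsg.Agent.KFacts.FiTF.Defs (z Dz)

/-- an involution of `Fi24` commutes with a transposition -/
theorem exists_comm {t : Fi24} (htt : t * t = 1) : ∃ f ∈ L, Commute t f := by
  refine exists_commute TetFi24B.pre (fun θ h2 hall =>
    NoFpf.fi22_no_fpf θ (fun t ht => (hall t ht).1) h2 (fun t ht => (hall t ht).2.1)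
      (fun t ht => (hall t ht).2.2)) (fun x hx => ?_) htt
  have h1 := (inferInstance : (commutator Fi24).Normal).conj_mem x hx t
  rwa [inv_eq_of_mul_eq_one_left htt] at h1

/-- a transposition commuting with `z` is a member of a tetrad of `z` -/
theorem exists_tet_z {f : Fi24} (hf : f ∈ L) (hfz : Commute f z) : ∃ b c d, IsTet L z f b c d := by
  obtain ⟨w, hw, hwf⟩ := KFacts.FiTF.FixZ.tran f ⟨hf, hfz.eq⟩
  have hwz : Commute w z := by
    have h1 : Subgroup.closure ({KFacts.FiTF.Defs.D 0 0, KFacts.FiTF.Defs.D 0 1, KFacts.FiTF.Defs.D 1 0,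
        KFacts.FiTF.Defs.D 2 0, KFacts.FiTF.Defs.D 3 0, KFacts.FiTF.Defs.D 4 0, KFacts.FiTF.Defs.D 5 0} : Set Fi24) ≤
        Subgroup.centralizer {z} := by
      rw [Subgroup.closure_le]
      intro x hx
      have h2 : ∀ t < 6, ∀ i < 4, KFacts.FiTF.Defs.D t i ∈ Subgroup.centralizer ({z} : Set Fi24) := by
        intro t ht i hi
        rw [Subgroup.mem_centralizer_singleton_iff]
        exact (KFacts.FiTF.Tet.z_D ht hi).symm
      simp only [Set.mem_insert_iff, Set.mem_singleton_iff] at hx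
      rcases hx with rfl | rfl | rfl | rfl | rfl | rfl | rfl <;> apply h2 <;> norm_num
    exact Subgroup.mem_centralizer_singleton_iff.1 (h1 hw)
  have h3 := KFacts.FiTF.Tet.isTet (t := 0) (by norm_num)
  have h4 := h3.conj TetFi24A.tr hwz
  rw [KFacts.FiTF.RQ.D00, hwf] at h4
  exact ⟨_, _, _, h4⟩

/-- a transposition commuting with the product of a tetrad is a member of a tetrad with the same product -/
theorem exists_tet {s a b c d f : Fi24} (h : IsTet L s a b c d) (hf : f ∈ L) (hfs : Commute f s) :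
    ∃ b' c' d', IsTet L s f b' c' d' := by
  have h3 := KFacts.FiTF.Tet.isTet (t := 0) (by norm_num)
  obtain ⟨g, hg, e1, e2, e3, e4⟩ := TetBig.quad TetBigInst.hyp h h3
  -- `g` conjugates `s` to `z`
  have hs : g * s * g⁻¹ = z := by
    rw [← h3.prod, ← h.prod, TetBig.conj_mul, TetBig.conj_mul, TetBig.conj_mul, e1, e2, e3, e4]
  have hfz : Commute (g * f * g⁻¹) z := by
    rw [← hs]
    show g * f * g⁻¹ * (g * s * g⁻¹) = g * s * g⁻¹ * (g * f * g⁻¹)
    calc g * f * g⁻¹ * (g * s * g⁻¹) = g * (f * s) * g⁻¹ := by group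
      _ = g * (s * f) * g⁻¹ := by rw [hfs.eq]
      _ = _ := by group
  obtain ⟨b1, c1, d1, k⟩ := exists_tet_z (FiTwentyFour.conj hf g) hfz
  have inj : ∀ x y : Fi24, g⁻¹ * x * g = g⁻¹ * y * g → x = y := fun x y e =>
    mul_left_cancel (mul_right_cancel e)
  have cm : ∀ x y : Fi24, Commute x y → Commute (g⁻¹ * x * g) (g⁻¹ * y * g) := by
    intro x y e
    show g⁻¹ * x * g * (g⁻¹ * y * g) = g⁻¹ * y * g * (g⁻¹ * x * g)
    calc g⁻¹ * x * g * (g⁻¹ * y * g) = g⁻¹ * (x * y) * g := by group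
      _ = g⁻¹ * (y * x) * g := by rw [e.eq]
      _ = _ := by group
  have mm : ∀ x ∈ L, g⁻¹ * x * g ∈ L := by
    intro x hx
    have := FiTwentyFour.conj hx g⁻¹
    rwa [inv_inv] at this
  have ef : g⁻¹ * (g * f * g⁻¹) * g = f := by group
  have es : g⁻¹ * z * g = s := by rw [← hs]; group
  refine ⟨g⁻¹ * b1 * g, g⁻¹ * c1 * g, g⁻¹ * d1 * g, ?_⟩
  have k1 := k
  obtain ⟨m1, m2, m3, m4, c12, c13, c14, c23, c24, c34, n12, n13, n14, n23, n24, n34, hp⟩ := k1
  refine ⟨hf, mm _ m2, mm _ m3, mm _ m4, ?_, ?_, ?_, cm _ _ c23, cm _ _ c24, cm _ _ c34, ?_, ?_, ?_,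
    fun e => n23 (inj _ _ e), fun e => n24 (inj _ _ e), fun e => n34 (inj _ _ e), ?_⟩
  · have := cm _ _ c12; rwa [ef] at this
  · have := cm _ _ c13; rwa [ef] at this
  · have := cm _ _ c14; rwa [ef] at this
  · intro e; apply n12; apply inj; rw [ef]; exact e
  · intro e; apply n13; apply inj; rw [ef]; exact e
  · intro e; apply n14; apply inj; rw [ef]; exact e
  · rw [← es, ← hp]; group

/-- three different commuting transpositions -/
structure Tri3 (a b c : Fi24) : Prop where
  ha : a ∈ L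
  hb : b ∈ L
  hc : c ∈ L
  ab : Commute a b
  ac : Commute a c
  bc : Commute b c
  nab : a ≠ b
  nac : a ≠ c
  nbc : b ≠ c

/-- **the involutions outside `Fi24'`** -/
theorem outer_cases {t : Fi24} (ht : t ∉ commutator Fi24) (htt : t * t = 1) :
    t ∈ L ∨ ∃ a b c, Tri3 a b c ∧ t = a * b * c := by
  obtain ⟨f, hf, hc⟩ := exists_comm htt
  have hT := TetFi24A.tr
  have h1 : t * f ∈ commutator Fi24 := by
    rw [Subgroup.mul_mem_iff_of_index_two index_commutator]
    exact ⟨fun h => absurd h ht, fun h => absurd h (FiTwentyFour.odd hf)⟩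
  have h2 : t * f * (t * f) = 1 := by
    calc t * f * (t * f) = t * (f * t) * f := by group
      _ = t * (t * f) * f := by rw [hc.eq]
      _ = (t * t) * (f * f) := by group
      _ = 1 := by rw [htt, hT.sq f hf, mul_one]
  by_cases h3 : t * f = 1
  · left
    have : t = f := by rw [eq_inv_of_mul_eq_one_left h3, hT.inv hf]
    rwa [this]
  have hcf : Commute f (t * f) := hc.symm.mul_right (Commute.refl f)
  have et : t = t * f * f := (hT.cancel' hf t).symm
  rcases OddHalf.D4.Spor.FiTF.facts.invol _ h1 h2 h3 with ⟨x, hx, y, hy, nxy, cxy, e⟩ | ⟨x, y, u, v, h4⟩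
  · rw [e] at hcf
    obtain ⟨fx, fy⟩ := comm_of_comm_mul hT hx hy hf cxy nxy hcf
    rw [e] at et
    by_cases n1 : x = f
    · subst n1
      left
      have : t = y := by rw [et, cxy.eq, hT.cancel' hx]
      rwa [this]
    by_cases n2 : y = f
    · subst n2
      left
      have : t = x := by rw [et, hT.cancel' hy]
      rwa [this]
    right
    exact ⟨x, y, f, ⟨hx, hy, hf, cxy, fx.symm, fy.symm, nxy, n1, n2⟩, et⟩
  · right
    obtain ⟨b, c, d, h5⟩ := exists_tet h4 hf hcf
    obtain ⟨m1, m2, m3, m4, c12, c13, c14, c23, c24, c34, n12, n13, n14, n23, n24, n34, hp⟩ := h5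
    refine ⟨b, c, d, ⟨m2, m3, m4, c23, c24, c34, n23, n24, n34⟩, ?_⟩
    rw [et, ← hp]
    have c5 : Commute f (b * c * d) := (c12.mul_right c13).mul_right c14
    calc f * b * c * d * f = f * (b * c * d) * f := by group
      _ = (b * c * d) * f * f := by rw [c5.eq]
      _ = b * c * d := hT.cancel' hf _

end Cfsg.Agent.CpAutFi24.OutInv

end

-- merged: Cfsg.Agent.CpAutFi24.Tri
section

/-!
# Elementary facts on classes of 3-transpositions without short relations

`comm_pair`, `no3`, `no4` (as in `KFacts.FiTF.FixAut`, for an abstract class `Tr L`), `not_comm_cj`, `comm_of_two`.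
-/

set_option autoImplicit false

namespace Cfsg.Agent.CpAutFi24.Tri

open Cfsg.Agent.R08.TetBasic

variable {F : Type*} [Group F] {L : Set F}

/-- An element centralising two pairs with a common member centralises the members. -/
theorem comm_pair (h : Tr L) {g s n n' : F} (hs : s ∈ L) (hn : n ∈ L) (hn' : n' ∈ L) (h1 : s ≠ n) (h2 : s ≠ n')
    (h3 : n ≠ n') (c1 : Commute s n) (c2 : Commute s n') (g1 : Commute g (s * n)) (g2 : Commute g (s * n')) :
    Commute g s ∧ Commute g n := by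
  have key : ∀ m, m ∈ L → s ≠ m → Commute s m → Commute g (s * m) →
      (g * s * g⁻¹ = s ∧ g * m * g⁻¹ = m) ∨ (g * s * g⁻¹ = m ∧ g * m * g⁻¹ = s) := by
    intro m hm hsm cm gm
    refine pair_unique h hs hm (h.conj g s hs) (h.conj g m hm) cm hsm ?_ ?_
    · show g * s * g⁻¹ * (g * m * g⁻¹) = g * m * g⁻¹ * (g * s * g⁻¹)
      calc g * s * g⁻¹ * (g * m * g⁻¹) = g * (s * m) * g⁻¹ := by group
        _ = g * (m * s) * g⁻¹ := by rw [cm.eq]
        _ = _ := by group
    · have : g * (s * m) = s * m * g := gm.eq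
      calc s * m = s * m * g * g⁻¹ := by group
        _ = g * (s * m) * g⁻¹ := by rw [this]
        _ = _ := by group
  have tr : ∀ m, g * m * g⁻¹ = m → Commute g m := by
    intro m hm
    show g * m = m * g
    calc g * m = g * m * g⁻¹ * g := by group
      _ = m * g := by rw [hm]
  rcases key n hn h1 c1 g1 with ⟨a1, a2⟩ | ⟨a1, -⟩
  · exact ⟨tr s a1, tr n a2⟩
  · exfalso
    rcases key n' hn' h2 c2 g2 with ⟨b1, -⟩ | ⟨b1, -⟩
    · exact h1 (b1.symm.trans a1)
    · exact h3 (a1.symm.trans b1)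

/-- an involution of a pair is fixed or interchanges the members -/
theorem fix_or_swap (h : Tr L) {a b g : F} (ha : a ∈ L) (hb : b ∈ L) (hab : Commute a b) (hne : a ≠ b)
    (hg : Commute g (a * b)) :
    (g * a * g⁻¹ = a ∧ g * b * g⁻¹ = b) ∨ (g * a * g⁻¹ = b ∧ g * b * g⁻¹ = a) := by
  refine pair_unique h ha hb (h.conj g a ha) (h.conj g b hb) hab hne ?_ ?_
  · show g * a * g⁻¹ * (g * b * g⁻¹) = g * b * g⁻¹ * (g * a * g⁻¹)
    calc g * a * g⁻¹ * (g * b * g⁻¹) = g * (a * b) * g⁻¹ := by group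
      _ = g * (b * a) * g⁻¹ := by rw [hab.eq]
      _ = _ := by group
  · have : g * (a * b) = a * b * g := hg.eq
    calc a * b = a * b * g * g⁻¹ := by group
      _ = g * (a * b) * g⁻¹ := by rw [this]
      _ = _ := by group

end Cfsg.Agent.CpAutFi24.Tri

end

-- merged: Cfsg.Agent.CpAutFi24.Unit
section

/-!
# `Fi24'`: the centralizer of three commuting transpositions

For three different commuting transpositions `a`, `b`, `c` the group `U a b c = C(a, b, c)` (in `Fi24'`) is a perfect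
central extension of `U6(2)` by a four-group; `inC : InC 2 ↥(U a b c)`.
-/

set_option autoImplicit false

namespace Cfsg.Agent.CpAutFi24.Unit

open Cfsg Cfsg.Spor Cfsg.Agent.R01 Cfsg.Agent.R08 Cfsg.Agent.R08.FiTwentyFour
open Cfsg.Agent.R08.TetBasic Cfsg.Agent.R08.TetFi24A
open Cfsg.Agent.CpAutFi24.OutInv
open Subgroup

/-- the centralizer of `a`, `b`, `c` in `Fi24'` -/
def U (a b c : Fi24) : Subgroup Fi24 where
  carrier := {x | x ∈ commutator Fi24 ∧ Commute x a ∧ Commute x b ∧ Commute x c}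
  mul_mem' := by
    rintro x y ⟨h0, h1, h2, h3⟩ ⟨k0, k1, k2, k3⟩
    exact ⟨mul_mem h0 k0, h1.mul_left k1, h2.mul_left k2, h3.mul_left k3⟩
  one_mem' := ⟨one_mem _, Commute.one_left a, Commute.one_left b, Commute.one_left c⟩
  inv_mem' := by
    rintro x ⟨h0, h1, h2, h3⟩
    exact ⟨inv_mem h0, h1.inv_left, h2.inv_left, h3.inv_left⟩

theorem mem_U {a b c x : Fi24} : x ∈ U a b c ↔ x ∈ _root_.commutator Fi24 ∧ Commute x a ∧ Commute x b ∧ Commute x c :=
  Iff.rfl

theorem U_perm (a b c : Fi24) : U a b c = U a c b := by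
  ext x
  rw [mem_U, mem_U]
  itauto

theorem U_perm' (a b c : Fi24) : U a b c = U c b a := by
  ext x
  rw [mem_U, mem_U]
  itauto

theorem mem_U_iff {a b c x : Fi24} : x ∈ U a b c ↔ x ∈ Cab a b ∧ Commute x c := by
  rw [mem_U, mem_Cab, mem_commutator_iff]
  constructor
  · rintro ⟨h0, h1, h2, h3⟩
    exact ⟨⟨h0, h1.eq, h2.eq⟩, h3⟩
  · rintro ⟨⟨h0, h1, h2⟩, h3⟩
    exact ⟨h0, h1, h2, h3⟩

theorem U_le (a b c : Fi24) : U a b c ≤ Cab a b := fun _ h => (mem_U_iff.1 h).1

section

variable {a b c : Fi24} (P : At a b) (H : Nb a b c)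
include P H

/-- the transposition of `Fi22` -/
noncomputable def tt : Fi22 := P.π (P.x H)

theorem tt_mem : tt P H ∈ Fi22Facts.T := P.π_mem H

theorem comm_iff (x : Cab a b) : P.π x * tt P H = tt P H * P.π x ↔ Commute (x : Fi24) c := by
  have hx := mem_Cab.1 x.2
  have xa : Commute (x : Fi24) a := hx.2.1
  constructor
  · intro h
    have h1 : P.π (x * P.x H * x⁻¹) = P.π (P.x H) := by
      rw [map_mul, map_mul, map_inv]
      show P.π x * tt P H * (P.π x)⁻¹ = tt P H
      rw [h]; group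
    have e0 : ((x * P.x H * x⁻¹ : Cab a b) : Fi24) = a * ((x : Fi24) * c * (x : Fi24)⁻¹) := by
      show (x : Fi24) * (a * c) * (x : Fi24)⁻¹ = _
      rw [← mul_assoc, xa.eq]; group
    rcases P.lift.ext.map_eq.1 h1 with h2 | h2
    · have h3 := congrArg Subtype.val h2
      rw [e0] at h3
      have h4 : a * ((x : Fi24) * c * (x : Fi24)⁻¹) = a * c := h3
      exact mul_inv_eq_iff_eq_mul.1 (mul_left_cancel h4)
    · exfalso
      have h3 := congrArg Subtype.val h2
      rw [e0] at h3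
      have h4 : a * ((x : Fi24) * c * (x : Fi24)⁻¹) = a * c * (a * b) := by
        rw [h3]
        show a * c * (P.z : Fi24) = _
        rw [P.hz]
      have h5 : a * c * (a * b) = c * b := by
        calc a * c * (a * b) = a * (c * a) * b := by group
          _ = a * (a * c) * b := by rw [H.ca.eq]
          _ = c * b := by rw [tr.cancel P.ha]
      rw [h5] at h4
      have nxc : a ≠ (x : Fi24) * c * (x : Fi24)⁻¹ := by
        intro e
        rw [eq_mul_inv_iff_mul_eq, ← xa.eq] at e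
        exact H.na (mul_left_cancel e).symm
      have cxc : Commute a ((x : Fi24) * c * (x : Fi24)⁻¹) :=
        (xa.symm.mul_right H.ca.symm).mul_right xa.symm.inv_right
      rcases pair_unique tr P.ha (FiTwentyFour.conj H.hc x) H.hc P.hb cxc nxc H.cb h4 with ⟨e, -⟩ | ⟨-, e⟩
      · exact H.na e
      · exact P.ne e.symm
  · intro h
    have h1 : x * P.x H = P.x H * x := by
      apply Subtype.ext
      show (x : Fi24) * (a * c) = a * c * x
      exact (xa.mul_right h).eq
    show P.π x * P.π (P.x H) = P.π (P.x H) * P.π x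
    rw [← map_mul, ← map_mul, h1]

/-- the restriction of `π` -/
noncomputable def rho : U a b c →* ↥(centralizer ({tt P H} : Set Fi22)) where
  toFun x := ⟨P.π ⟨x, U_le a b c x.2⟩, mem_centralizer_singleton_iff.2
    ((comm_iff P H ⟨x, U_le a b c x.2⟩).2 (mem_U_iff.1 x.2).2)⟩
  map_one' := Subtype.ext (map_one P.π)
  map_mul' x y := Subtype.ext (map_mul P.π ⟨x, U_le a b c x.2⟩ ⟨y, U_le a b c y.2⟩)

theorem coe_rho (x : U a b c) : (rho P H x : Fi22) = P.π ⟨x, U_le a b c x.2⟩ := rfl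

theorem rho_surj : Function.Surjective (rho P H) := by
  rintro ⟨y, hy⟩
  obtain ⟨x, rfl⟩ := P.lift.ext.surj y
  have h1 := (comm_iff P H x).1 (mem_centralizer_singleton_iff.1 hy)
  exact ⟨⟨x, mem_U_iff.2 ⟨x.2, h1⟩⟩, Subtype.ext rfl⟩

theorem rho_eq {x y : U a b c} (h : rho P H x = rho P H y) : (x : Fi24) = y ∨ (x : Fi24) * (a * b) = y := by
  have h1 : P.π ⟨x, U_le a b c x.2⟩ = P.π ⟨y, U_le a b c y.2⟩ := congrArg Subtype.val h
  rcases P.lift.ext.map_eq.1 h1.symm with h2 | h2
  · left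
    exact (congrArg Subtype.val h2).symm
  · right
    have h3 : (y : Fi24) = x * (P.z : Fi24) := congrArg Subtype.val h2
    rw [h3, P.hz]

theorem facts22 : ∃ (s : Fi22) (R : Subgroup Fi22), KFacts.FiTT.Facts Fi22 (tt P H) s R := by
  obtain ⟨u, v, ht⟩ := StdFi22.MainFi22.bas.exists_tri (tt_mem P H)
  obtain ⟨R, F⟩ := CTwoTab.Fi22.facts (tt_mem P H) ht.my ht.xy ht.cxy
  exact ⟨u, R, F⟩

theorem quasi22 : IsQuasisimple ↥(centralizer ({tt P H} : Set Fi22)) := by
  obtain ⟨s, R, F⟩ := facts22 P H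
  exact F.quasi

/-- modulo `⟨a b⟩` the group is perfect -/
theorem mem_or {x : Fi24} (hx : x ∈ U a b c) :
    x ∈ ⁅U a b c, U a b c⁆ ∨ x * (a * b) ∈ ⁅U a b c, U a b c⁆ := by
  have h1 : (commutator (U a b c)).map (rho P H) = ⊤ := by
    have h2 := Group.isPerfect_def.1 (quasi22 P H).1
    rw [← h2]
    show Subgroup.map (rho P H) ⁅(⊤ : Subgroup (U a b c)), (⊤ : Subgroup (U a b c))⁆ =
      ⁅(⊤ : Subgroup ↥(centralizer ({tt P H} : Set Fi22))), ⊤⁆
    rw [map_commutator, ← MonoidHom.range_eq_map, MonoidHom.range_eq_top.2 (rho_surj P H)]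
  have h2 : (_root_.commutator (U a b c)).map (U a b c).subtype = ⁅U a b c, U a b c⁆ := by
    show Subgroup.map (U a b c).subtype ⁅(⊤ : Subgroup (U a b c)), (⊤ : Subgroup (U a b c))⁆ = _
    rw [map_commutator, ← MonoidHom.range_eq_map, range_subtype]
  have h3 : rho P H ⟨x, hx⟩ ∈ (_root_.commutator (U a b c)).map (rho P H) := by rw [h1]; exact mem_top _
  obtain ⟨d, hd, he⟩ := h3
  have h4 : (d : Fi24) ∈ ⁅U a b c, U a b c⁆ := by
    rw [← h2]
    exact ⟨d, hd, rfl⟩
  rcases rho_eq P H he.symm with h5 | h5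
  · left
    show ((⟨x, hx⟩ : U a b c) : Fi24) ∈ _
    rw [h5]
    exact h4
  · right
    have h5' : x * (a * b) = d := h5
    rw [h5']
    exact h4

end

section

variable {a b c : Fi24}

theorem nb_of (h : Tri3 a b c) : Nb a b c := ⟨h.hc, h.ac.symm, h.bc.symm, h.nac.symm, h.nbc.symm⟩

theorem Tri3.swap23 (h : Tri3 a b c) : Tri3 a c b :=
  ⟨h.ha, h.hc, h.hb, h.ac, h.ab, h.bc.symm, h.nac, h.nab, h.nbc.symm⟩

theorem Tri3.swap13 (h : Tri3 a b c) : Tri3 c b a :=
  ⟨h.hc, h.hb, h.ha, h.bc.symm, h.ac.symm, h.ab.symm, h.nbc.symm, h.nac.symm, h.nab.symm⟩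

theorem mem_or' (h : Tri3 a b c) {x : Fi24} (hx : x ∈ U a b c) :
    x ∈ ⁅U a b c, U a b c⁆ ∨ x * (a * b) ∈ ⁅U a b c, U a b c⁆ := by
  obtain ⟨P⟩ := exists_at h.ha h.hb h.nab h.ab
  exact mem_or P (nb_of h) hx

theorem pair_mem (h : Tri3 a b c) : a * c ∈ U a b c :=
  ⟨FiTwentyFour.even h.ha h.hc, (Commute.refl a).mul_left h.ac.symm, h.ab.mul_left h.bc.symm,
    h.ac.mul_left (Commute.refl c)⟩

theorem perfect (h : Tri3 a b c) : ⁅U a b c, U a b c⁆ = U a b c := by
  apply le_antisymm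
  · rw [commutator_le]
    intro x hx y hy
    rw [commutatorElement_def]
    exact mul_mem (mul_mem (mul_mem hx hy) (inv_mem hx)) (inv_mem hy)
  · intro x hx
    rcases mem_or' h (pair_mem h) with k | k
    · rw [U_perm a b c] at hx k ⊢
      rcases mem_or' (Tri3.swap23 h) hx with m | m
      · exact m
      · have := mul_mem m (inv_mem k)
        rwa [mul_inv_cancel_right] at this
    · have e : a * c * (a * b) = c * b := by
        calc a * c * (a * b) = a * (c * a) * b := by group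
          _ = a * (a * c) * b := by rw [h.ac.eq]
          _ = c * b := by rw [tr.cancel h.ha]
      rw [e] at k
      rw [U_perm' a b c] at hx k ⊢
      rcases mem_or' (Tri3.swap13 h) hx with m | m
      · exact m
      · have := mul_mem m (inv_mem k)
        rwa [mul_inv_cancel_right] at this

theorem perfect' (h : Tri3 a b c) : _root_.commutator (U a b c) = ⊤ := by
  apply map_injective (U a b c).subtype_injective
  show Subgroup.map (U a b c).subtype ⁅(⊤ : Subgroup (U a b c)), (⊤ : Subgroup (U a b c))⁆ = _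
  rw [map_commutator, ← MonoidHom.range_eq_map, range_subtype, perfect h]

end

section

variable {a b c : Fi24} (P : At a b) (H : Nb a b c)
include P H

theorem simple_quo : IsSimpleGroup (↥(centralizer ({tt P H} : Set Fi22)) ⧸
    center ↥(centralizer ({tt P H} : Set Fi22))) := (quasi22 P H).2

theorem card_quo : Nat.card (↥(centralizer ({tt P H} : Set Fi22)) ⧸
    center ↥(centralizer ({tt P H} : Set Fi22))) = 9196830720 := by
  obtain ⟨s, R, F⟩ := facts22 P H
  exact CTwoTab.Fi22.card_quo F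

theorem center_quo : center (↥(centralizer ({tt P H} : Set Fi22)) ⧸
    center ↥(centralizer ({tt P H} : Set Fi22))) = ⊥ := by
  refine Fischer.Fi23Cover.center_eq_bot_of_simple (simple_quo P H) ?_
  rw [card_quo P H]
  norm_num

/-- the projection on the simple group -/
noncomputable def sig : U a b c →* (↥(centralizer ({tt P H} : Set Fi22)) ⧸
    center ↥(centralizer ({tt P H} : Set Fi22))) :=
  (QuotientGroup.mk' (center ↥(centralizer ({tt P H} : Set Fi22)))).comp (rho P H)

theorem sig_surj : Function.Surjective (sig P H) :=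
  (QuotientGroup.mk'_surjective _).comp (rho_surj P H)

/-- the elements of the kernel -/
theorem ker_cases {x : U a b c} (hx : x ∈ (sig P H).ker) :
    (x : Fi24) = 1 ∨ (x : Fi24) = a * b ∨ (x : Fi24) = a * c ∨ (x : Fi24) = a * c * (a * b) := by
  have h1 : rho P H x ∈ center ↥(centralizer ({tt P H} : Set Fi22)) := by
    have h2 : ((rho P H x : ↥(centralizer ({tt P H} : Set Fi22))) :
      ↥(centralizer ({tt P H} : Set Fi22)) ⧸ center ↥(centralizer ({tt P H} : Set Fi22))) = 1 := hx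
    exact (QuotientGroup.eq_one_iff _).1 h2
  obtain ⟨s, R, F⟩ := facts22 P H
  have h2 := F.cc (rho P H x : Fi22) (by
    intro y hy
    have h3 := mem_center_iff.1 h1 ⟨y, mem_centralizer_singleton_iff.2 hy⟩
    exact (congrArg Subtype.val h3).symm)
  rw [coe_rho] at h2
  rcases h2 with h2 | h2
  · rcases (P.lift.ext.ker _).1 h2 with h3 | h3
    · left
      exact congrArg Subtype.val h3
    · right; left
      have h4 : (x : Fi24) = (P.z : Fi24) := congrArg Subtype.val h3
      rw [h4, P.hz]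
  · right; right
    rcases P.lift.ext.map_eq.1 (show P.π ⟨x, U_le a b c x.2⟩ = P.π (P.x H) from h2) with h3 | h3
    · left
      exact congrArg Subtype.val h3
    · right
      have h4 : (x : Fi24) = a * c * (P.z : Fi24) := congrArg Subtype.val h3
      rw [h4, P.hz]

theorem ker_le : (sig P H).ker ≤ center (U a b c) := by
  intro x hx
  rw [mem_center_iff]
  intro g
  apply Subtype.ext
  obtain ⟨-, ga, gb, gc⟩ := mem_U.1 g.2
  have key : Commute (g : Fi24) (x : Fi24) := by
    rcases ker_cases P H hx with h | h | h | h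
    · rw [h]; exact Commute.one_right _
    · rw [h]; exact ga.mul_right gb
    · rw [h]; exact ga.mul_right gc
    · rw [h]; exact (ga.mul_right gc).mul_right (ga.mul_right gb)
  exact key.eq

end

section

variable {a b c : Fi24}

theorem quasi (h : Tri3 a b c) : IsQuasisimple ↥(U a b c) := by
  obtain ⟨P⟩ := exists_at h.ha h.hb h.nab h.ab
  have := simple_quo P (nb_of h)
  exact CTwoTab.quo_quasisimple (sig_surj P (nb_of h)) (center_quo P (nb_of h)) (ker_le P (nb_of h)) (perfect' h)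

theorem center_two (h : Tri3 a b c) : IsPGroup 2 ↥(center (U a b c)) := by
  obtain ⟨P⟩ := exists_at h.ha h.hb h.nab h.ab
  have hk := CTwoTab.ker_eq_center (sig_surj P (nb_of h)) (center_quo P (nb_of h)) (ker_le P (nb_of h))
  intro x
  refine ⟨1, ?_⟩
  have hx : (x : U a b c) ∈ (sig P (nb_of h)).ker := by rw [hk]; exact x.2
  have sq2 : ∀ u v : Fi24, u ∈ L → v ∈ L → Commute u v → u * v * (u * v) = 1 := by
    intro u v hu hv huv
    calc u * v * (u * v) = u * (v * u) * v := by group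
      _ = u * (u * v) * v := by rw [huv.eq]
      _ = (u * u) * (v * v) := by group
      _ = 1 := by rw [tr.sq u hu, tr.sq v hv, one_mul]
  apply Subtype.ext
  apply Subtype.ext
  rw [pow_one, pow_two]
  show ((x : U a b c) : Fi24) * ((x : U a b c) : Fi24) = 1
  rcases ker_cases P (nb_of h) hx with e | e | e | e
  · rw [e, one_mul]
  · rw [e]; exact sq2 a b h.ha h.hb h.ab
  · rw [e]; exact sq2 a c h.ha h.hc h.ac
  · rw [e]
    have e2 : a * c * (a * b) = c * b := by
      calc a * c * (a * b) = a * (c * a) * b := by group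
        _ = a * (a * c) * b := by rw [h.ac.eq]
        _ = c * b := by rw [tr.cancel h.ha]
    rw [e2]
    exact sq2 c b h.hc h.hb h.bc.symm

theorem card_U (h : Tri3 a b c) : Nat.card (U a b c) = 36787322880 := by
  obtain ⟨P⟩ := exists_at h.ha h.hb h.nab h.ab
  obtain ⟨s, R, F⟩ := facts22 P (nb_of h)
  have h1 := CTwoTab.Fi22.card_cent F
  have h2 : (centralizer ({tt P (nb_of h)} : Set Fi22)).index = 3510 := by
    have h3 := Subgroup.card_mul_index (centralizer ({tt P (nb_of h)} : Set Fi22))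
    rw [h1, F.card] at h3
    omega
  have h3 : (U a b c).subgroupOf (Cab a b) = (centralizer ({tt P (nb_of h)} : Set Fi22)).comap P.π := by
    ext x
    rw [mem_subgroupOf, mem_comap, mem_centralizer_singleton_iff, comm_iff P (nb_of h), mem_U_iff]
    exact ⟨fun k => k.2, fun k => ⟨x.2, k⟩⟩
  have h4 : ((U a b c).subgroupOf (Cab a b)).index = 3510 := by
    rw [h3, index_comap_of_surjective _ P.lift.ext.surj, h2]
  have h5 := Subgroup.card_mul_index ((U a b c).subgroupOf (Cab a b))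
  rw [h4, OddHalf.D4.Spor.FiTF.card_Cab P, Nat.card_congr (subgroupOfEquivOfLe (U_le a b c)).toEquiv] at h5
  omega

theorem inC (h : Tri3 a b c) : InC 2 ↥(U a b c) := by
  obtain ⟨P⟩ := exists_at h.ha h.hb h.nab h.ab
  obtain ⟨s, R, F⟩ := facts22 P (nb_of h)
  refine ⟨quasi h, center_two h, ?_, ?_⟩
  · exact CTwoTab.isCpSimple_two_congr (CTwoTab.quoCenterEquiv (sig_surj P (nb_of h)) (center_quo P (nb_of h))
      (ker_le P (nb_of h))).symm (CTwoTab.Fi22.good F).1
  · refine CTwoTab.not_exc_of_card (card_U h) 3325 (by norm_num) (by norm_num) (by norm_num) ?_ (by norm_num)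
      (by norm_num) (by norm_num)
    rw [Nat.card_congr (CTwoTab.quoCenterEquiv (sig_surj P (nb_of h)) (center_quo P (nb_of h))
      (ker_le P (nb_of h))).toEquiv, card_quo P (nb_of h)]
    norm_num

end

end Cfsg.Agent.CpAutFi24.Unit

end

-- merged: Cfsg.Agent.CpAutFi24.Row
section

/-!
# S1814, `p = 2`: the row `Fi24'`

`outer` : for every outer automorphism `x` of order 2 of `Fi24'` the components of `C(x) / O(C(x))` are `C_2`-groups;
`autC : AutC 2 Spor.Fi24'`.
-/

set_option autoImplicit false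

namespace Cfsg.Agent.CpAutFi24.Row

open Cfsg Cfsg.Spor Cfsg.Agent.R01 Cfsg.Agent.R08 Cfsg.Agent.R08.FiTwentyFour
open Cfsg.Agent.R08.TetBasic Cfsg.Agent.R08.TetFi24A
open Cfsg.Agent.CpAutFi24.OutInv Cfsg.Agent.CpAutFi24.Unit
open Cfsg.Agent.LThree (Comps)
open Subgroup

/-- an element of `Fi24` centralizing `Fi24'` is `1` -/
theorem eq_one_of_comm {g : Fi24} (h : ∀ x ∈ _root_.commutator Fi24, g * x = x * g) : g = 1 := by
  apply KFacts.FiTF.Pts.eq_one_of_comm_L
  intro d hd
  obtain ⟨b, hb, hbd, hc⟩ : ∃ b ∈ L, b ≠ d ∧ Commute b d := by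
    have h1 : {c | c ∈ L ∧ c ≠ d ∧ Commute c d}.Nonempty :=
      Set.nonempty_of_ncard_ne_zero (by rw [ncard_commuting hd]; norm_num)
    obtain ⟨b, h1, h2, h3⟩ := h1
    exact ⟨b, h1, h2, h3⟩
  obtain ⟨P⟩ := exists_at hd hb hbd.symm hc.symm
  obtain ⟨c, hc⟩ := OddHalf.D4.Spor.FiTF.exists_nb P
  exact (Tri.comm_pair tr hd hb hc.hc hbd.symm hc.na.symm hc.nb.symm P.ab hc.ca.symm
    (h _ (FiTwentyFour.even hd hb)) (h _ (FiTwentyFour.even hd hc.hc))).1.eq

/-- the elements permuting `a`, `b`, `c` -/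
theorem perm_of_comm {a b c k : Fi24} (h : Tri3 a b c) (hk : Commute k (a * b * c)) {d : Fi24}
    (hd : d = a ∨ d = b ∨ d = c) : k * d * k⁻¹ = a ∨ k * d * k⁻¹ = b ∨ k * d * k⁻¹ = c := by
  have hab : Commute (k * a * k⁻¹) (k * b * k⁻¹) := TetBig.conj_comm h.ab
  have hac : Commute (k * a * k⁻¹) (k * c * k⁻¹) := TetBig.conj_comm h.ac
  have hbc : Commute (k * b * k⁻¹) (k * c * k⁻¹) := TetBig.conj_comm h.bc
  have nab : k * a * k⁻¹ ≠ k * b * k⁻¹ := TetBig.conj_ne h.nab
  have nac : k * a * k⁻¹ ≠ k * c * k⁻¹ := TetBig.conj_ne h.nac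
  have nbc : k * b * k⁻¹ ≠ k * c * k⁻¹ := TetBig.conj_ne h.nbc
  have ma := FiTwentyFour.conj h.ha k
  have mb := FiTwentyFour.conj h.hb k
  have mc := FiTwentyFour.conj h.hc k
  have e : a * b * c = k * a * k⁻¹ * (k * b * k⁻¹) * (k * c * k⁻¹) := by
    have h1 : k * (a * b * c) = a * b * c * k := hk.eq
    calc a * b * c = a * b * c * k * k⁻¹ := by group
      _ = k * (a * b * c) * k⁻¹ := by rw [h1]
      _ = _ := by group
  have e2 : a * b * c = k * b * k⁻¹ * (k * a * k⁻¹) * (k * c * k⁻¹) := by rw [← hab.eq]; exact e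
  have e3 : a * b * c = k * c * k⁻¹ * (k * a * k⁻¹) * (k * b * k⁻¹) := by
    have h1 : Commute (k * a * k⁻¹ * (k * b * k⁻¹)) (k * c * k⁻¹) := hac.mul_left hbc
    exact e.trans (h1.eq.trans (mul_assoc _ _ _).symm)
  rcases hd with rfl | rfl | rfl
  · exact tri_mem tr h.ha h.hb h.hc ma mb mc h.ab h.ac h.bc h.nab h.nac h.nbc hab hac hbc nab nac nbc e
  · exact tri_mem tr h.ha h.hb h.hc mb ma mc h.ab h.ac h.bc h.nab h.nac h.nbc hab.symm hbc hac nab.symm nbc nac e2
  · exact tri_mem tr h.ha h.hb h.hc mc ma mb h.ab h.ac h.bc h.nab h.nac h.nbc hac.symm hbc.symm hab nac.symm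
      nbc.symm nab e3

/-- the action of `X` on `{a, b, c}` -/
noncomputable def act {a b c : Fi24} (h : Tri3 a b c) (X : Subgroup Spor.Fi24')
    (hX : ∀ k ∈ X, Commute (k : Fi24) (a * b * c)) : ↥X →* Equiv.Perm {d : Fi24 // d = a ∨ d = b ∨ d = c} where
  toFun k :=
    { toFun := fun d => ⟨((k : Spor.Fi24') : Fi24) * d * ((k : Spor.Fi24') : Fi24)⁻¹,
        perm_of_comm h (hX k k.2) d.2⟩
      invFun := fun d => ⟨((k⁻¹ : X) : Spor.Fi24') * d * (((k⁻¹ : X) : Spor.Fi24') : Fi24)⁻¹,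
        perm_of_comm h (hX _ (k⁻¹ : X).2) d.2⟩
      left_inv := by
        intro d
        apply Subtype.ext
        show ((k : Spor.Fi24') : Fi24)⁻¹ * (((k : Spor.Fi24') : Fi24) * d * ((k : Spor.Fi24') : Fi24)⁻¹) *
          (((k : Spor.Fi24') : Fi24)⁻¹)⁻¹ = d
        group
      right_inv := by
        intro d
        apply Subtype.ext
        show ((k : Spor.Fi24') : Fi24) * (((k : Spor.Fi24') : Fi24)⁻¹ * d * (((k : Spor.Fi24') : Fi24)⁻¹)⁻¹) *
          ((k : Spor.Fi24') : Fi24)⁻¹ = d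
        group }
  map_one' := by
    ext d
    show (1 : Fi24) * d * (1 : Fi24)⁻¹ = d
    group
  map_mul' k l := by
    ext d
    show ((k : Spor.Fi24') : Fi24) * ((l : Spor.Fi24') : Fi24) * d *
        (((k : Spor.Fi24') : Fi24) * ((l : Spor.Fi24') : Fi24))⁻¹ =
      ((k : Spor.Fi24') : Fi24) * (((l : Spor.Fi24') : Fi24) * d * ((l : Spor.Fi24') : Fi24)⁻¹) *
        ((k : Spor.Fi24') : Fi24)⁻¹
    group

/-- **three transpositions** -/
theorem comps_tri {a b c : Fi24} (h : Tri3 a b c) (X : Subgroup Spor.Fi24')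
    (hX : ∀ k : Spor.Fi24', k ∈ X ↔ Commute (k : Fi24) (a * b * c)) : Comps 2 ↥X := by
  have := finite_Fi24
  have hF : Finite Spor.Fi24' := inferInstance
  have hX' : ∀ k ∈ X, Commute (k : Fi24) (a * b * c) := fun k hk => (hX k).1 hk
  have hker : ∀ k : X, k ∈ (act h X hX').ker ↔ ((k : Spor.Fi24') : Fi24) ∈ U a b c := by
    intro k
    rw [MonoidHom.mem_ker]
    constructor
    · intro hk
      have h1 : ∀ d : {d : Fi24 // d = a ∨ d = b ∨ d = c}, Commute ((k : Spor.Fi24') : Fi24) d := by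
        intro d
        have h2 : ((k : Spor.Fi24') : Fi24) * d * ((k : Spor.Fi24') : Fi24)⁻¹ = d :=
          congrArg Subtype.val (DFunLike.congr_fun hk d)
        exact mul_inv_eq_iff_eq_mul.1 h2
      exact ⟨(k : Spor.Fi24').2, h1 ⟨a, Or.inl rfl⟩, h1 ⟨b, Or.inr (Or.inl rfl)⟩, h1 ⟨c, Or.inr (Or.inr rfl)⟩⟩
    · rintro ⟨-, h1, h2, h3⟩
      ext d
      show ((k : Spor.Fi24') : Fi24) * d * ((k : Spor.Fi24') : Fi24)⁻¹ = d
      obtain ⟨d, rfl | rfl | rfl⟩ := d
      · exact mul_inv_eq_iff_eq_mul.2 h1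
      · exact mul_inv_eq_iff_eq_mul.2 h2
      · exact mul_inv_eq_iff_eq_mul.2 h3
  let f : (act h X hX').ker →* U a b c :=
    { toFun := fun k => ⟨((k : X) : Spor.Fi24'), (hker k).1 k.2⟩
      map_one' := rfl
      map_mul' := fun _ _ => rfl }
  have hf : Function.Bijective f := by
    constructor
    · intro k l e
      apply Subtype.ext
      apply Subtype.ext
      apply Subtype.ext
      exact congrArg (fun u : U a b c => (u : Fi24)) e
    · intro u
      have h0 := u.2
      obtain ⟨h1, h2, h3, h4⟩ := mem_U.1 h0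
      have h5 : (⟨u, h1⟩ : Spor.Fi24') ∈ X := (hX _).2 ((h2.mul_right h3).mul_right h4)
      exact ⟨⟨⟨⟨u, h1⟩, h5⟩, (hker _).2 h0⟩, rfl⟩
  let e : (act h X hX').ker ≃* U a b c := MulEquiv.ofBijective f hf
  refine LThree.Comps.of_normal Nat.prime_two (act h X hX').ker ?_ ?_
  · exact (CpQuot.Congr.inC_iff e 2).2 (inC h)
  · have hs : Finite {d : Fi24 // d = a ∨ d = b ∨ d = c} := inferInstance
    have h4 : Nat.card {d : Fi24 // d = a ∨ d = b ∨ d = c} ≤ 4 := by
      have h5 : Nat.card {d : Fi24 // d = a ∨ d = b ∨ d = c} ≤ Nat.card (Fin 3) := by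
        refine Nat.card_le_card_of_surjective (fun i : Fin 3 => (![⟨a, Or.inl rfl⟩, ⟨b, Or.inr (Or.inl rfl)⟩,
          ⟨c, Or.inr (Or.inr rfl)⟩] : Fin 3 → {d : Fi24 // d = a ∨ d = b ∨ d = c}) i) ?_
        rintro ⟨d, rfl | rfl | rfl⟩
        · exact ⟨0, rfl⟩
        · exact ⟨1, rfl⟩
        · exact ⟨2, rfl⟩
      rw [Nat.card_fin] at h5
      omega
    have h6 := Cfsg.Agent.Schreier.Tools.isSolvable_perm_of_card_le_four _ h4
    exact Group.isSolvable_of_isSolvable_injective (QuotientGroup.kerLift_injective (act h X hX'))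

/-! ### Transpositions -/

theorem simple23 : IsSimpleGroup Fi23 := Cfsg.Agent.S1697.result.1

theorem card23 : Nat.card Fi23 = 4089470473293004800 := Cfsg.Agent.S1697.result.2

theorem finite23 : Finite Fi23 := Nat.finite_of_card_ne_zero (by rw [card23]; norm_num)

theorem not_comm_of_card {X : Type*} [Group X] [Finite X] [IsSimpleGroup X] (h : ¬ (Nat.card X).Prime) :
    ¬ IsMulCommutative X := by
  intro hc
  let _ : CommGroup X := { (inferInstance : Group X) with mul_comm := hc.is_comm.comm }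
  exact h (IsSimpleGroup.prime_card (α := X))

theorem inC23 : InC 2 Fi23 := by
  have := simple23
  have := finite23
  have hna : ¬ IsMulCommutative Fi23 := not_comm_of_card (by rw [card23]; norm_num)
  have hl : IsCpSimple 2 Fi23 := by
    refine Or.inr (Or.inr (Or.inl ⟨rfl, ?_⟩))
    have h1 : Spor.IsoFi23 Fi23 := ⟨MulEquiv.refl _⟩
    unfold IsCTwoListed
    simp only [h1, true_or, or_true]
  have hg := CTwoTab.good_of_simple hna hl
  have hz : IsPGroup 2 ↥(center Fi23) := by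
    rw [CTwoTab.center_eq_bot_of_simple hna]
    exact IsPGroup.of_bot
  exact ⟨CTwoTab.isQuasisimple_of_simple hna, hz, hg.1, hg.2⟩

theorem comps23 : Comps 2 Fi23 := by
  have := finite23
  refine LThree.Comps.of_normal Nat.prime_two (⊤ : Subgroup Fi23) ((CpQuot.Congr.inC_iff topEquiv 2).2 inC23) ?_
  have hs : Subsingleton (Fi23 ⧸ (⊤ : Subgroup Fi23)) := QuotientGroup.subsingleton_quotient_top
  infer_instance

/-- **a transposition** -/
theorem comps_one {a : Fi24} (ha : a ∈ L) (X : Subgroup Spor.Fi24')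
    (hX : ∀ k : Spor.Fi24', k ∈ X ↔ Commute (k : Fi24) a) : Comps 2 ↥X := by
  have F := FiTwentyFour.facts
  obtain ⟨h, rfl⟩ := isConj_iff.1 (show IsConj (Fischer.Fi24Class.gen .l) a from ha)
  let ψ : Fi23 →* Fi24 := (MulAut.conj h).toMonoidHom.comp F.phi
  have hψi : Function.Injective ψ := (MulAut.conj h).injective.comp F.phi_injective
  have hψ : ∀ g : Fi24, g ∈ _root_.commutator Fi24 → g * (h * Fischer.Fi24Class.gen .l * h⁻¹) =
      (h * Fischer.Fi24Class.gen .l * h⁻¹) * g → ∃ k, ψ k = g := by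
    intro g hg hgc
    obtain ⟨k, hk⟩ := (F.mem_range_iff (h⁻¹ * g * h)).2 ⟨by
      calc h⁻¹ * g * h * Fischer.Fi24Class.gen .l
          = h⁻¹ * (g * (h * Fischer.Fi24Class.gen .l * h⁻¹)) * h := by group
        _ = h⁻¹ * ((h * Fischer.Fi24Class.gen .l * h⁻¹) * g) * h := by rw [hgc]
        _ = _ := by group, by
      rw [← mem_commutator_iff]
      have := (inferInstance : (_root_.commutator Fi24).Normal).conj_mem g hg h⁻¹
      rwa [inv_inv] at this⟩
    refine ⟨k, ?_⟩
    show h * F.phi k * h⁻¹ = g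
    rw [hk]
    group
  have hψc : ∀ k, ψ k ∈ _root_.commutator Fi24 ∧ ψ k * (h * Fischer.Fi24Class.gen .l * h⁻¹) =
      (h * Fischer.Fi24Class.gen .l * h⁻¹) * ψ k := by
    intro k
    have e : ψ k = h * F.phi k * h⁻¹ := rfl
    have h1 : F.phi k ∈ _root_.commutator Fi24 := mem_commutator_iff.2 (F.sgn_phi k)
    refine ⟨?_, ?_⟩
    · rw [e]
      exact (inferInstance : (_root_.commutator Fi24).Normal).conj_mem _ h1 h
    · rw [e]
      calc h * F.phi k * h⁻¹ * (h * Fischer.Fi24Class.gen .l * h⁻¹)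
          = h * (F.phi k * Fischer.Fi24Class.gen .l) * h⁻¹ := by group
        _ = h * (Fischer.Fi24Class.gen .l * F.phi k) * h⁻¹ := by rw [F.phi_comm]
        _ = _ := by group
  let f : Fi23 →* X :=
    { toFun := fun k => ⟨⟨ψ k, (hψc k).1⟩, (hX _).2 (hψc k).2⟩
      map_one' := Subtype.ext (Subtype.ext (map_one ψ))
      map_mul' := fun k l => Subtype.ext (Subtype.ext (map_mul ψ k l)) }
  have hf : Function.Bijective f := by
    constructor
    · intro k l e
      apply hψi
      exact congrArg (fun y : X => ((y : Spor.Fi24') : Fi24)) e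
    · rintro ⟨g, hg⟩
      obtain ⟨k, hk⟩ := hψ g g.2 ((hX g).1 hg)
      exact ⟨k, Subtype.ext (Subtype.ext hk)⟩
  exact comps23.congr (MulEquiv.ofBijective f hf)

/-! ### The row -/

/-- **S1814-P2-Fi24p, outer involutions** -/
theorem outer (x : MulAut Spor.Fi24') (hx : orderOf x = 2) (hout : ¬ ∃ g, x = MulAut.conj g) :
    Comps 2 ↥(fixedSubgroup x) := by
  obtain ⟨g, hg⟩ := KFacts.FiTF.exists_conj x
  have hxx : x * x = 1 := by rw [← pow_two, ← hx, pow_orderOf_eq_one]
  have hgn : g ∉ _root_.commutator Fi24 := by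
    intro h
    apply hout
    refine ⟨⟨g, h⟩, ?_⟩
    ext k
    exact hg k
  have hgg : g * g = 1 := by
    apply eq_one_of_comm
    intro k hk
    have h1 : x (x ⟨k, hk⟩) = ⟨k, hk⟩ := DFunLike.congr_fun hxx ⟨k, hk⟩
    have h2 := congrArg Subtype.val h1
    rw [hg, hg] at h2
    have h3 : g * (g * k * g⁻¹) * g⁻¹ = k := h2
    calc g * g * k = g * (g * k * g⁻¹) * g⁻¹ * (g * g) := by group
      _ = k * (g * g) := by rw [h3]
  have hX : ∀ k : Spor.Fi24', k ∈ fixedSubgroup x ↔ Commute (k : Fi24) g := by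
    intro k
    constructor
    · intro hk
      have h1 : x k = k := hk
      have h2 : g * (k : Fi24) * g⁻¹ = k := by rw [← hg, h1]
      exact (mul_inv_eq_iff_eq_mul.1 h2).symm
    · intro hk
      show x k = k
      apply Subtype.ext
      rw [hg, mul_inv_eq_iff_eq_mul]
      exact hk.eq.symm
  rcases outer_cases hgn hgg with h | ⟨a, b, c, h, rfl⟩
  · exact comps_one h _ hX
  · exact comps_tri h _ hX

/-- **S1814, `p = 2`, the row `Fi24'`** -/
theorem autC : CpAut.AutC 2 Spor.Fi24' := by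
  have := finite_Fi24
  have hF : Finite Spor.Fi24' := inferInstance
  intro x hx
  by_cases hin : ∃ g, x = MulAut.conj g
  · obtain ⟨g, rfl⟩ := hin
    have hs : IsSimpleGroup Spor.Fi24' := FiTwentyFour.isFi24'.1
    have hz : center Spor.Fi24' = ⊥ := CTwoTab.center_eq_bot_of_simple (not_comm_of_card (by
      rw [card_commutator]; norm_num))
    rw [CpAut.orderOf_conj hz] at hx
    rw [CpAut.fixedSubgroup_conj]
    exact LThree.lpAll_iff.1 CTwoTab.FiTF.compC2.lpAll g hx
  · exact outer x hx hin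

end Cfsg.Agent.CpAutFi24.Row

end

-- merged: Cfsg.Agent.CpAutTwo.LFour.Row
section

/-!
# S1814, `p = 2`, **the row `L₄(3)`** (helper60)

`autC_of : Fintype.card F = 3 → AutC 2 (PSL (Fin 4) F)`: the components of the centralizers of the automorphisms of order 2
of `L₄(3)` (`L₂(9)` twice, `L₃(3)`, `PSp₄(3)`) are `C₂`-groups.
-/

set_option autoImplicit false

namespace Cfsg.Agent.CpAutTwo.LFour

open Matrix Subgroup Cfsg
open Cfsg.Agent.LThree (Comps)
open Cfsg.Agent.CpAut (AutC)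
open Cfsg.Agent.ClassicalGeometry.AutPSL.Auto Cfsg.Agent.ClassicalGeometry.AutPSL.Root

theorem compC2 : CTwoTab.CompC2 L4 := ResEven.LFour.compC2.of_equiv (GH.Cov.LieL4.pslEquiv (F := F3)).symm

theorem comps_inner {g : L4} (hg : orderOf g = 2) : Comps 2 ↥(centralizer ({g} : Set L4)) :=
  LThree.lpAll_iff.1 compC2.lpAll g hg

/-- `A` of determinant 1 as an element of `SL₄(3)` -/
def up (A : GL4) (h : A.1.det = 1) : SL4 := ⟨A.1, h⟩

theorem cj_eq_up {A : GL4} (h : A.1.det = 1) (x : SL4) : cj A x = up A h * x * (up A h)⁻¹ := by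
  rw [eq_mul_inv_iff_mul_eq]
  apply Subtype.ext
  rw [Matrix.SpecialLinearGroup.coe_mul, Matrix.SpecialLinearGroup.coe_mul]
  exact cj_mul A x

theorem lift_cj_conj {A : GL4} (h : A.1.det = 1) : lift (cj A) = MulAut.conj (pr (up A h)) := by
  apply MulEquiv.ext
  intro x
  obtain ⟨x, rfl⟩ := pr_surjective x
  rw [lift_pr, cj_eq_up h, map_mul, map_mul, map_inv]
  rfl

theorem comps_det_one {A : GL4} (h : A.1.det = 1) (hx : orderOf (lift (cj A)) = 2) :
    Comps 2 ↥(fixedSubgroup (lift (cj A))) := by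
  have hs : IsSimpleGroup L4 := S0249.result 4 (by norm_num)
  have hc : center L4 = ⊥ := by
    apply CpAut.center_eq_bot_of_simple
    intro hcomm
    have h1 := ResEven.LFour.card_L
    have h2 : Nat.card L4 = 6065280 := by
      rw [← h1]
      exact Nat.card_congr (GH.Cov.LieL4.pslEquiv (F := F3)).toEquiv
    refine SmallSimple.Embed.not_comm_of_card_not_prime ?_ hcomm
    rw [h2]
    norm_num
  rw [lift_cj_conj h] at hx ⊢
  rw [CpAut.orderOf_conj hc] at hx
  rw [CpAut.fixedSubgroup_conj]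
  exact comps_inner hx

theorem comps_of_basis (A : GL4) (b : Module.Basis K4 F3 (Fin 4 → F3)) (h1 : ∀ i, A.1 *ᵥ b (.inl i) = -b (.inl i))
    (h2 : ∀ j, A.1 *ᵥ b (.inr j) = b (.inr j)) : Comps 2 ↥(fixedSubgroup (lift (cj A))) := by
  apply comps_refl A (Tr.ofBasis b)
  have h3 : A.1 * (Tr.ofBasis b).P = (Tr.ofBasis b).P * DD := by
    ext r i
    have e1 : (A.1 * (Tr.ofBasis b).P) r i = (A.1 *ᵥ b i) r := by
      simp only [Matrix.mul_apply, Tr.ofBasis_P, mulVec, dotProduct]
    have e2 : DD = diagonal (Sum.elim (fun _ => (-1 : F3)) (fun _ => 1)) := by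
      rw [DD]
      ext i j
      rcases i with i | i <;> rcases j with j | j <;> simp [diagonal_apply, one_apply]
      split_ifs <;> simp
    rw [e1, e2, Matrix.mul_diagonal, Tr.ofBasis_P]
    rcases i with i | i
    · rw [h1, Sum.elim_inl, Pi.neg_apply, mul_neg, mul_one]
    · rw [h2, Sum.elim_inr, mul_one]
  calc A.1 = A.1 * ((Tr.ofBasis b).P * (Tr.ofBasis b).P') := by rw [(Tr.ofBasis b).pp, mul_one]
    _ = (Tr.ofBasis b).P * DD * (Tr.ofBasis b).P' := by rw [← Matrix.mul_assoc, h3]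

theorem cj_neg (A : GL4) : cj (-A) = cj A := by
  apply MulEquiv.ext
  intro g
  apply Subtype.ext
  rw [coe_cj, coe_cj, inv_neg]
  simp only [_root_.Units.val_neg, _root_.neg_mul, _root_.Matrix.coe_units_inv, _root_.mul_neg, _root_.neg_neg]

theorem no_sq : ∀ d : F3, d * d ≠ -1 := by decide

theorem comps_det_neg {A : GL4} (h : A.1.det = -1) (hx : lift (cj A) * lift (cj A) = 1) :
    Comps 2 ↥(fixedSubgroup (lift (cj A))) := by
  rw [← map_mul, ← map_mul] at hx
  obtain ⟨r, hr⟩ := scalar_of_lift hx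
  have h1 : A.1 * A.1 = r • 1 := by
    show (A * A).1 = _
    rw [← hr, scalar_apply, smul_one_eq_diagonal]
  have h2 : r ^ 4 = 1 := by
    have h3 := congrArg Matrix.det h1
    rw [det_mul, h, det_smul, det_one, mul_one, Fintype.card_fin] at h3
    rw [← h3]
    decide
  rcases pm_of_sq r (sq_of_pow_four r h2) with rfl | rfl
  · rw [one_smul] at h1
    obtain ⟨k, l, b, hb1, hb2⟩ := GH.Cov.LieL4.exists_basis (F := F3) (by decide) A.1 h1
    have hdet := GH.Cov.LieL4.det_of_basis A.1 b hb1 hb2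
    have hcard : k + l = 4 := by
      have h3 := Module.finrank_eq_card_basis b
      rw [Module.finrank_fintype_fun_eq_card] at h3
      simp only [Fintype.card_sum, Fintype.card_fin] at h3
      omega
    rw [h] at hdet
    have hk : k = 0 ∨ k = 1 ∨ k = 2 ∨ k = 3 ∨ k = 4 := by omega
    rcases hk with rfl | rfl | rfl | rfl | rfl
    · exact absurd hdet (by decide)
    · obtain rfl : l = 3 := by omega
      exact comps_of_basis A b hb1 hb2
    · exact absurd hdet (by decide)
    · obtain rfl : l = 1 := by omega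
      rw [← cj_neg]
      refine comps_of_basis (-A) (b.reindex (Equiv.sumComm (Fin 3) (Fin 1))) ?_ ?_
      · intro i
        rw [Module.Basis.reindex_apply]
        show (-A).1 *ᵥ b (Sum.inr i) = -b (Sum.inr i)
        rw [Units.val_neg, neg_mulVec, hb2]
      · intro i
        rw [Module.Basis.reindex_apply]
        show (-A).1 *ᵥ b (Sum.inl i) = b (Sum.inl i)
        rw [Units.val_neg, neg_mulVec, hb1, neg_neg]
    · exact absurd hdet (by decide)
  · exfalso
    have h3 : (1 + A.1) * (1 + A.1) = (-1 : F3) • A.1 := by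
      have h4 : (2 : F3) = -1 := by decide
      calc (1 + A.1) * (1 + A.1) = 1 + (A.1 + A.1) + A.1 * A.1 := by
            rw [add_mul, mul_add, mul_add, one_mul, one_mul, mul_one]; abel
        _ = 1 + (2 : F3) • A.1 + (-1 : F3) • 1 := by rw [h1, two_smul]
        _ = (2 : F3) • A.1 := by rw [neg_smul, one_smul]; abel
        _ = (-1 : F3) • A.1 := by rw [h4]
    have h4 := congrArg Matrix.det h3
    rw [det_mul, det_smul, h, Fintype.card_fin] at h4
    exact no_sq _ (h4.trans (by decide))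

theorem det_cases (A : GL4) : A.1.det = 1 ∨ A.1.det = -1 := by
  have h4 : A.1.det ≠ 0 := by
    intro h0
    have h5 := congrArg Matrix.det (gl_inv' A)
    rw [det_mul, h0, zero_mul, det_one] at h5
    exact zero_ne_one h5
  have h5 : ∀ d : F3, d ≠ 0 → d = 1 ∨ d = -1 := by decide
  exact h5 _ h4

theorem autC : AutC 2 L4 := by
  intro x hx
  have hx2 : x * x = 1 := by rw [← pow_two, ← hx, pow_orderOf_eq_one]
  rcases two_forms x with ⟨A, rfl⟩ | ⟨A, rfl⟩
  · rcases det_cases A with h | h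
    · exact comps_det_one h hx
    · exact comps_det_neg h hx2
  · rcases graph_sq hx2 with h | h
    · exact comps_symm A h
    · exact comps_alt A h

/-- **The row `L₄(3)`.** -/
theorem autC_of (F : Type*) [Field F] [Fintype F] (hF : Fintype.card F = 3) :
    AutC 2 (ProjectiveSpecialLinearGroup (Fin 4) F) :=
  autC.congr (LieClassical.FieldTransfer.pslCongr (FiniteField.ringEquivOfCardEq (K := F3) (K' := F)
    (by rw [hF, ZMod.card])))

end Cfsg.Agent.CpAutTwo.LFour

end

-- merged: Cfsg.Agent.CpAutTwo.HSz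
section

/-!
# S1814, `p = 2`, row `HS`: the outer involutions with centralizer `S₈` (helper38)

`H0 = 2.HS.2`; `outer_cases`: an outer involution of `Aut(HS)` is conjugate to `au gz` or to `au d`;
`comps_z` : `C(gz) = S₈`.
-/

set_option autoImplicit false

namespace Cfsg.Agent.CpAutTwo.HS

open Subgroup Cfsg
open Cfsg.Agent.LThree (Comps)
open Cfsg.Agent.HN Cfsg.Agent.HN.Pres Cfsg.Agent.HN.HS100 Cfsg.Agent.HN.P1408 Cfsg.Agent.HN.H0Basic
open Cfsg.Agent.HN.Local Cfsg.Agent.HN.Iota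

universe u

variable {L : Type u} [Group L] (D : Cfsg.Agent.KFacts.HS.Mod L)

theorem mem_fix {h k : H0} (hk : k ∈ K) :
    D.π ⟨k, hk⟩ ∈ fixedSubgroup (D.au h) ↔ h * k * h⁻¹ = k ∨ h * k * h⁻¹ = k * τ := by
  change D.au h (D.π ⟨k, hk⟩) = D.π ⟨k, hk⟩ ↔ _
  rw [D.au_π, D.eq_iff]

theorem gx_mem_K : gx ∈ K := by
  rw [← hw_x]
  exact mem_K_of_par rfl rfl

/-- **The outer involutions.** -/
theorem outer_cases (x : MulAut L) (hx : orderOf x = 2) (hout : ¬ ∃ g : L, x = MulAut.conj g) :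
    ∃ a : MulAut L, x = a * D.au gz * a⁻¹ ∨ x = a * D.au Syl.d * a⁻¹ := by
  obtain ⟨h, rfl⟩ := D.au_surj x
  have hK : h ∉ K := fun hk => hout ⟨D.π ⟨h, hk⟩, D.au_K ⟨h, hk⟩⟩
  have h2 : h ^ 2 = 1 ∨ h ^ 2 = τ := by
    rw [← D.au_ker, map_pow, ← hx, pow_orderOf_eq_one]
  have key : ∀ {g : H0}, IsConj g h → ∃ c : H0, h = c * g * c⁻¹ := by
    intro g hg
    obtain ⟨c, hc⟩ := isConj_iff.1 hg
    exact ⟨c, hc.symm⟩
  rcases Syl.sq_cases h2 with h1 | h1 | h1 | h1 | h1 | h1 | h1
  · exact absurd (h1 ▸ K.one_mem) hK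
  · exact absurd (h1 ▸ τ_mem_K) hK
  · exact absurd ((Classes.mem_K_of_isConj h1).1 KFacts.HS.DFour.aa_mem_K) hK
  · exact absurd ((Classes.mem_K_of_isConj h1).1 (K.mul_mem KFacts.HS.DFour.aa_mem_K τ_mem_K)) hK
  · exact absurd ((Classes.mem_K_of_isConj h1).1 gx_mem_K) hK
  · obtain ⟨c, hc⟩ := key h1
    exact ⟨D.au c, Or.inl (by rw [← map_inv, ← map_mul, ← map_mul, ← hc])⟩
  · obtain ⟨c, hc⟩ := key h1
    exact ⟨D.au c, Or.inr (by rw [← map_inv, ← map_mul, ← map_mul, ← hc])⟩

/-! ### `C(gz) = S₈` -/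

/-- the alternating group of degree eight -/
noncomputable def al : A8 →* L := D.π.comp (iota.codRestrict K iota_mem_K)

theorem al_apply (s : A8) : al D s = D.π ⟨iota s, iota_mem_K s⟩ := rfl

theorem al_inj : Function.Injective (al D) := by
  rw [injective_iff_map_eq_one]
  intro s hs
  rw [al_apply] at hs
  rcases (D.ker _).1 hs with h | h
  · exact iota_inj (h.trans (map_one iota).symm)
  · exact (IotaCent.cent.disj (k := τ) (Or.inr (Or.inl rfl)) h.symm).1

/-- elements commuting with `gz` -/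
theorem mem_al {k : H0} (hk : k ∈ K) (hc : gz * k * gz⁻¹ = k) : D.π ⟨k, hk⟩ ∈ (al D).range := by
  have hc1 : Commute k gz := by
    rw [mul_inv_eq_iff_eq_mul] at hc
    exact hc.symm
  obtain ⟨q, hq, s, hs⟩ := IotaCent.cent.cent k (τ_comm k) hc1
  have hqK : q ∈ K := by
    have : q = k * (iota s)⁻¹ := by rw [hs, mul_inv_cancel_right]
    rw [this]
    exact K.mul_mem hk (K.inv_mem (iota_mem_K s))
  refine ⟨s, ?_⟩
  rw [al_apply]
  rcases hq with rfl | rfl | rfl | rfl
  · congr 1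
    exact Subtype.ext (hs.trans (one_mul _)).symm
  · rw [D.eq_iff]
    right
    change iota s = k * τ
    rw [hs, τ_comm, ← mul_assoc, τ_mul_τ, one_mul]
  · exact absurd hqK z_not_mem_K
  · exact absurd ((K.mul_mem_cancel_left τ_mem_K).1 hqK) z_not_mem_K

theorem al_le : (al D).range ≤ fixedSubgroup (D.au gz) := by
  rintro _ ⟨s, rfl⟩
  rw [al_apply, mem_fix]
  left
  rw [(z_iota s).eq, mul_inv_cancel_right]

theorem cp_A8 {G : Type u} [Group G] (e : G ≃* alternatingGroup (Fin 8)) : IsCpSimple 2 G := by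
  have : Fact (Nat.Prime 2) := ⟨Nat.prime_two⟩
  obtain ⟨f⟩ := S0256.result (F := ZMod 2) (ZMod.card 2)
  exact Or.inl (Or.inl (Or.inl ⟨ZMod 2, inferInstance, inferInstance, inferInstance, 4, by norm_num,
    fun h => by omega, ⟨e.trans f.symm⟩⟩))

/-- **`C(gz)`.** -/
theorem comps_z : Comps 2 ↥(fixedSubgroup (D.au gz)) := by
  have hfin : Finite L := KFacts.HS.DFour.fin D
  have hc2 : ∀ {g : L}, g ∈ fixedSubgroup (D.au gz) → g * g ∈ (al D).range := by
    intro g hg
    obtain ⟨k, hk, rfl⟩ := KFacts.HS.DFour.surj' D g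
    rw [mem_fix] at hg
    have h1 : gz * (k * k) * gz⁻¹ = k * k := by
      have e : gz * (k * k) * gz⁻¹ = (gz * k * gz⁻¹) * (gz * k * gz⁻¹) := by group
      rw [e]
      rcases hg with h | h
      · rw [h]
      · rw [h]
        calc k * τ * (k * τ) = k * (τ * k) * τ := by group
          _ = k * (k * τ) * τ := by rw [← τ_comm k]
          _ = k * k * (τ * τ) := by group
          _ = k * k := by rw [τ_mul_τ, mul_one]
    rw [← map_mul]
    exact mem_al D (K.mul_mem hk hk) h1
  have hN : ((al D).range.subgroupOf (fixedSubgroup (D.au gz))).Normal := by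
    refine ⟨fun n hn g => ?_⟩
    rw [mem_subgroupOf] at hn ⊢
    obtain ⟨s, hs⟩ := hn
    obtain ⟨k, hk, hgk⟩ := KFacts.HS.DFour.surj' D (g : L)
    have hg : D.π ⟨k, hk⟩ ∈ fixedSubgroup (D.au gz) := hgk ▸ g.2
    rw [mem_fix] at hg
    have hk' : k * iota s * k⁻¹ ∈ K := K.mul_mem (K.mul_mem hk (iota_mem_K s)) (K.inv_mem hk)
    have h1 : gz * (k * iota s * k⁻¹) * gz⁻¹ = k * iota s * k⁻¹ := by
      have e : gz * (k * iota s * k⁻¹) * gz⁻¹ = (gz * k * gz⁻¹) * (gz * iota s * gz⁻¹) * (gz * k * gz⁻¹)⁻¹ := by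
        group
      have hz : gz * iota s * gz⁻¹ = iota s := by rw [(z_iota s).eq, mul_inv_cancel_right]
      rw [e, hz]
      rcases hg with h | h
      · rw [h]
      · rw [h, mul_inv_rev]
        calc k * τ * iota s * (τ⁻¹ * k⁻¹) = k * (τ * iota s * τ⁻¹) * k⁻¹ := by group
          _ = k * iota s * k⁻¹ := by rw [← τ_comm, mul_inv_cancel_right]
    have h2 := mem_al D hk' h1
    have h3 : ((g * n * g⁻¹ : ↥(fixedSubgroup (D.au gz))) : L) = D.π ⟨k * iota s * k⁻¹, hk'⟩ := by
      change (g : L) * (n : L) * (g : L)⁻¹ = _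
      rw [hgk, show (n : L) = D.π ⟨iota s, iota_mem_K s⟩ from hs.symm, ← map_mul, ← map_inv, ← map_mul]
      rfl
    rw [h3]
    exact h2
  have e : ↥((al D).range.subgroupOf (fixedSubgroup (D.au gz))) ≃* A8 :=
    (subgroupOfEquivOfLe (al_le D)).trans (MonoidHom.ofInjective (al_inj D)).symm
  have hs : IsSimpleGroup ↥((al D).range.subgroupOf (fixedSubgroup (D.au gz))) :=
    CTwoTab.simple_alt (by norm_num) e
  refine comps_of_sq _ (inC_two (CTwoTab.na_alt (by norm_num) e) (cp_A8 e)) fun g => ?_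
  rw [mem_subgroupOf]
  exact hc2 g.2

end Cfsg.Agent.CpAutTwo.HS

end

-- merged: Cfsg.Agent.CpAutTwo.HSd
section

/-!
# S1814, `p = 2`, row `HS`: the outer involutions with centralizer `2^4.S₅` (helper38)

`X = C(d)` has a subgroup `X0` of index 2 with `40 ∣ |X0| ≤ 960`; the components of `X / O(X)` are simple
(`NoCover`) of order dividing `|X0|`.
-/

set_option autoImplicit false

namespace Cfsg.Agent.CpAutTwo.HS

open Subgroup Cfsg
open Cfsg.Agent.LThree (Comps)
open Cfsg.Agent.CpAut Cfsg.Agent.CpAut.TwoAbs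
open Cfsg.Agent.HN Cfsg.Agent.HN.Pres Cfsg.Agent.HN.HS100 Cfsg.Agent.HN.P1408 Cfsg.Agent.HN.H0Basic
open Cfsg.Agent.KFacts.HS Cfsg.Agent.KFacts.HS.DFour

universe u

variable {L : Type u} [Group L] (D : Cfsg.Agent.KFacts.HS.Mod L)

/-! ### The involutions of `HS` -/

theorem ct_zA [Finite L] : IsOfCharacteristicTwo ↥(centralizer ({zA D} : Set L)) := by
  have hle : RL D ≤ centralizer ({zA D} : Set L) := by
    intro r hr
    rw [mem_centralizer_singleton_iff]
    exact CTwoTab.HS.RL_comm_zA D hr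
  have hn : ((RL D).subgroupOf (centralizer ({zA D} : Set L))).Normal := by
    refine ⟨fun r hr c => ?_⟩
    rw [mem_subgroupOf] at hr ⊢
    exact RL_norm D (mem_centralizer_singleton_iff.1 c.2) hr
  refine ct_of hn ((RL_pGroup D).comap_subtype) ?_
  rintro ⟨b, hb⟩ hc ho
  rw [Subgroup.orderOf_mk] at ho
  apply Subtype.ext
  change b = 1
  have h4 : b ^ 4 = 1 := by
    rcases cent_RL D (mem_centralizer_singleton_iff.1 hb) (fun r hr => by
      have := mem_centralizer_iff.1 hc ⟨r, hle hr⟩ (mem_subgroupOf.2 hr)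
      exact (congrArg Subtype.val this).symm) with h | h | h
    · rw [h, one_pow]
    · rw [h, show 4 = 2 * 2 by norm_num, pow_mul, pow_two (zA D), zA_sq, one_pow]
    · rw [show 4 = 2 * 2 by norm_num, pow_mul, pow_two b, h, pow_two, zA_sq]
  have h5 : orderOf b ∣ 4 := orderOf_dvd_of_pow_eq_one h4
  have h6 : orderOf b = 1 := by
    have h7 : Nat.Coprime (orderOf b) (2 ^ 2) := Nat.Coprime.pow_right 2 ho.coprime_two_right
    exact Nat.eq_one_of_dvd_coprimes h7 dvd_rfl h5
  exact orderOf_eq_one_iff.1 h6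

include D in
theorem ok [Finite L] (v : L) (hv : orderOf v = 2) : Ok v := by
  have hvv : v * v = 1 := by rw [← pow_two, ← hv, pow_orderOf_eq_one]
  have hv1 : v ≠ 1 := by
    rintro rfl
    rw [orderOf_one] at hv
    omega
  rcases inv_cases D v hvv hv1 with ⟨c, rfl⟩ | ⟨c, rfl⟩
  · exact Ok.conj (Or.inl (ct_zA D)) c
  · refine Ok.conj ?_ c
    exact ok_of_alt_six (LA D) (CTwoTab.simple_alt (by norm_num) (CTwoTab.HS.equivLA D)) (card_LA D)
      (CTwoTab.HS.perfect_le_LA D)

/-! ### `C(d)` in `H0` -/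

/-- the even part of `C(d)` -/
def Cd : Subgroup H0 := centralizer ({Syl.d} : Set H0) ⊓ K

theorem mem_Cd {k : H0} : k ∈ Cd ↔ k * Syl.d = Syl.d * k ∧ k ∈ K := by
  rw [Cd, mem_inf, mem_centralizer_singleton_iff]

theorem τ_mem_Cd : τ ∈ Cd := mem_Cd.2 ⟨(τ_comm _).symm, τ_mem_K⟩

theorem fin_H0 : Finite H0 := HN.H0Basic.finite_H0

theorem card_Cd : Nat.card ↥Cd ≤ 1920 := by
  have := fin_H0
  have h1 : 2 * Nat.card ↥Cd ≤ Nat.card ↥(centralizer ({Syl.d} : Set H0)) :=
    KFacts.HS.TwoB.two_mul_card_le_of (x := Syl.d) inf_le_left (mem_centralizer_singleton_iff.2 rfl)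
      (fun h => Classes.d_notMem_K (mem_Cd.1 h).2)
  have h2 := CentUp.card_centralizer_d_le
  omega

/-- the word of `d` -/
def dW : List ℕ := [1, 3, 1, 2, 1, 4, 3, 4, 2, 4]

def v1 : List ℕ := [0, 4, 3, 0, 4, 2]
def v2 : List ℕ := [0, 3, 0, 4, 2, 4]
def v3 : List ℕ := [0, 2, 0, 3, 4, 3, 0, 4, 2, 4, 2, 1, 3, 4]
def fW : List ℕ := [0, 0, 4, 2, 0, 3, 3, 4, 2, 2]
def tW : List ℕ := [0, 0]

theorem tW_eq : hw tW = τ := hw_τ

/-- membership of words -/
def inCd (w : List ℕ) : Bool := okw w && (!par w) && eqw (w ++ dW) (dW ++ w)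

theorem mem_of_inCd {w : List ℕ} (h : inCd w = true) : hw w ∈ Cd := by
  unfold inCd at h
  rw [Bool.and_eq_true, Bool.and_eq_true, Bool.not_eq_true'] at h
  refine mem_Cd.2 ⟨HypFacts.comm_of h.2, mem_K_of_par h.1.1 h.1.2⟩

theorem chk_v : inCd tW && inCd v1 && inCd v2 && inCd v3 && inCd fW = true := by decide +kernel

theorem chk_sq : eqw (tW ++ tW) [] && eqw (v1 ++ v1) [] && eqw (v2 ++ v2) [] && eqw (v3 ++ v3) [] &&
    eqw (tW ++ v1) (v1 ++ tW) && eqw (tW ++ v2) (v2 ++ tW) && eqw (tW ++ v3) (v3 ++ tW) &&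
    eqw (v1 ++ v2) (v2 ++ v1) && eqw (v1 ++ v3) (v3 ++ v1) && eqw (v2 ++ v3) (v3 ++ v2) = true := by
  decide +kernel

theorem chk_f : eqw (fW ++ (fW ++ (fW ++ (fW ++ fW)))) [] && !eqw fW [] = true := by decide +kernel

/-- the word of `F` -/
def FW (v : Inv4.V) : List ℕ :=
  (bif v.1 then tW else []) ++ (bif v.2.1 then v1 else []) ++ ((bif v.2.2.1 then v2 else []) ++
    (bif v.2.2.2 then v3 else []))

theorem chk_F : ∀ v : Inv4.V, v = (false, false, false, false) ∨ (okw (FW v) = true ∧ eqw (FW v) [] = false) := by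
  decide +kernel

theorem I : Inv4.I4 (hw tW) (hw v1) (hw v2) (hw v3) := by
  have h := chk_sq
  simp only [Bool.and_eq_true] at h
  obtain ⟨⟨⟨⟨⟨⟨⟨⟨⟨h1, h2⟩, h3⟩, h4⟩, h5⟩, h6⟩, h7⟩, h8⟩, h9⟩, h10⟩ := h
  exact ⟨HypFacts.two_of h1, HypFacts.two_of h2, HypFacts.two_of h3, HypFacts.two_of h4, HypFacts.comm_of h5,
    HypFacts.comm_of h6, HypFacts.comm_of h7, HypFacts.comm_of h8, HypFacts.comm_of h9, HypFacts.comm_of h10⟩

theorem hw_FW (v : Inv4.V) : hw (FW v) = Inv4.F (hw tW) (hw v1) (hw v2) (hw v3) v := by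
  obtain ⟨a, b, c, e⟩ := v
  cases a <;> cases b <;> cases c <;> cases e <;>
    simp [FW, Inv4.F, Inv4.bp, hw_append, hw_nil, mul_assoc]

theorem add_zero : ∀ v w : Inv4.V, Inv4.add v w = (false, false, false, false) → v = w := by decide +kernel

theorem card_S : Nat.card ↥(Inv4.S I) = 16 := by
  have hinj : Function.Injective (Inv4.F (hw tW) (hw v1) (hw v2) (hw v3)) := by
    intro v w hvw
    have h1 : Inv4.F (hw tW) (hw v1) (hw v2) (hw v3) (Inv4.add v w) = 1 := by
      rw [← Inv4.F_mul I, hvw, Inv4.F_sq I]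
    rw [← hw_FW, ← hw_nil] at h1
    rcases chk_F (Inv4.add v w) with h2 | ⟨h2, h3⟩
    · exact add_zero v w h2
    · rw [eqw_of_hw_eq h2 rfl h1] at h3
      exact absurd h3 (by decide)
  have h1 : Nat.card ↥(Inv4.S I) = Nat.card Inv4.V :=
    (Nat.card_congr (Equiv.ofInjective _ hinj)).symm
  rw [h1, Nat.card_eq_fintype_card]
  rfl

theorem S_le : Inv4.S I ≤ Cd := by
  have h := chk_v
  simp only [Bool.and_eq_true] at h
  obtain ⟨⟨⟨⟨h1, h2⟩, h3⟩, h4⟩, h5⟩ := h
  have key : ∀ (b : Bool) {w : List ℕ}, inCd w = true → Inv4.bp b (hw w) ∈ Cd := by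
    intro b w hw'
    cases b
    · exact one_mem _
    · exact mem_of_inCd hw'
  rintro _ ⟨v, rfl⟩
  exact mul_mem (mul_mem (key _ h1) (key _ h2)) (mul_mem (key _ h3) (key _ h4))

theorem dvd_Cd : 80 ∣ Nat.card ↥Cd := by
  have := fin_H0
  have h16 : 16 ∣ Nat.card ↥Cd := by
    rw [← card_S]
    exact card_dvd_of_le S_le
  have h5 : 5 ∣ Nat.card ↥Cd := by
    have hf : hw fW ∈ Cd := mem_of_inCd (by decide +kernel)
    have h := chk_f
    rw [Bool.and_eq_true, Bool.not_eq_true'] at h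
    have h1 : hw fW ^ 5 = 1 := by
      have := hw_eq h.1
      rw [hw_append, hw_append, hw_append, hw_append, hw_nil] at this
      rw [← this, pow_succ, pow_succ, pow_succ, pow_succ, pow_one, mul_assoc, mul_assoc, mul_assoc]
    have h2 : hw fW ≠ 1 := by
      intro h3
      have h4 := eqw_of_hw_eq (a := fW) (b := []) (by decide) rfl (by rw [h3, hw_nil])
      rw [h4] at h
      exact absurd h.2 (by decide)
    have : Fact (Nat.Prime 5) := ⟨by norm_num⟩
    have h3 : orderOf (hw fW) = 5 := orderOf_eq_prime h1 h2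
    have h4 : orderOf (⟨hw fW, hf⟩ : ↥Cd) = 5 := by rw [Subgroup.orderOf_mk, h3]
    rw [← h4]
    exact _root_.orderOf_dvd_natCard _
  exact Nat.Coprime.mul_dvd_of_dvd_of_dvd (by norm_num) h16 h5

/-! ### `X = C(d)` -/

theorem im_le : D.im Cd ≤ fixedSubgroup (D.au Syl.d) := by
  intro l hl
  obtain ⟨k, hk, hkC, rfl⟩ := D.mem_im.1 hl
  rw [mem_fix]
  left
  rw [← (mem_Cd.1 hkC).1, mul_inv_cancel_right]

theorem sq_mem {g : L} (hg : g ∈ fixedSubgroup (D.au Syl.d)) : g * g ∈ D.im Cd := by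
  obtain ⟨k, hk, rfl⟩ := KFacts.HS.DFour.surj' D g
  rw [mem_fix] at hg
  rw [← map_mul]
  refine D.mem_im.2 ⟨k * k, K.mul_mem hk hk, mem_Cd.2 ⟨?_, K.mul_mem hk hk⟩, rfl⟩
  have h1 : Syl.d * (k * k) * Syl.d⁻¹ = k * k := by
    have e : Syl.d * (k * k) * Syl.d⁻¹ = (Syl.d * k * Syl.d⁻¹) * (Syl.d * k * Syl.d⁻¹) := by group
    rw [e]
    rcases hg with h | h
    · rw [h]
    · rw [h]
      calc k * τ * (k * τ) = k * (τ * k) * τ := by group
        _ = k * (k * τ) * τ := by rw [← τ_comm k]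
        _ = k * k * (τ * τ) := by group
        _ = k * k := by rw [τ_mul_τ, mul_one]
  rw [mul_inv_eq_iff_eq_mul] at h1
  exact h1.symm

/-- **`C(d)`.** -/
theorem comps_d : Comps 2 ↥(fixedSubgroup (D.au Syl.d)) := by
  have hfin : Finite L := KFacts.HS.DFour.fin D
  have hO : (pPrimeCore 2 ↥(fixedSubgroup (D.au Syl.d))).Normal := Lib.Cores.pPrimeCore_normal 2
  have hx : D.au Syl.d * D.au Syl.d = 1 := by rw [← map_mul, Syl.d_sq, map_one]
  have hcd : 2 * Nat.card ↥(D.im Cd) = Nat.card ↥Cd := D.card_im τ_mem_Cd inf_le_right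
  have hle := card_Cd
  have hdv := dvd_Cd
  refine comps_of_simple fun L1 hL1 => ?_
  have hs := simple_comp hx (fun v hv _ => ok D v hv) L1 hL1
  refine ⟨hs, ?_⟩
  have hna := SignalizersComponents.Components.quasisimple_not_isMulCommutative hL1.2
  -- the image of `X0`
  let N : Subgroup (↥(fixedSubgroup (D.au Syl.d)) ⧸ pPrimeCore 2 ↥(fixedSubgroup (D.au Syl.d))) :=
    ((D.im Cd).subgroupOf (fixedSubgroup (D.au Syl.d))).map (QuotientGroup.mk' _)
  have h1 : L1 ≤ N := by
    refine CTwoTab.perfect_le_of_sq (C := ⊤) (N := N) ?_ L1 le_top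
      (SignalizersComponents.Components.component_commutator_self hL1)
    intro q _
    obtain ⟨g, rfl⟩ := QuotientGroup.mk_surjective q
    exact ⟨g * g, mem_subgroupOf.2 (sq_mem D g.2), rfl⟩
  have h2 : Nat.card ↥L1 ∣ Nat.card ↥(D.im Cd) := by
    refine (card_dvd_of_le h1).trans ((Subgroup.card_map_dvd _ _).trans ?_)
    rw [Nat.card_congr (subgroupOfEquivOfLe (im_le D)).toEquiv]
  obtain ⟨a, ha⟩ := hdv
  obtain ⟨b, hb⟩ := h2
  have hpos : 0 < Nat.card ↥(D.im Cd) := Nat.card_pos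
  have hLle : Nat.card ↥L1 ≤ 960 := by
    have := Nat.le_of_dvd hpos ⟨b, hb⟩
    omega
  refine cp_small hna (by omega) ?_ ?_ (by omega)
  · intro h3
    rw [h3] at hb
    omega
  · intro h3
    rw [h3] at hb
    omega

include D in
/-- **Outer involutions of `HS`.** -/
theorem outer_of_mod : OuterC L := by
  intro x hx hout
  obtain ⟨a, h | h⟩ := outer_cases D x hx hout
  · exact comps_conj_aut a h (comps_z D)
  · exact comps_conj_aut a h (comps_d D)

theorem outer_of_iso {X : Type u} [Group X] (h : Spor.IsoHS X) : OuterC X := by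
  obtain ⟨D⟩ := exists_mod h
  exact outer_of_mod D

theorem outer : OuterC Spor.HS := outer_of_iso ⟨MulEquiv.refl _⟩

end Cfsg.Agent.CpAutTwo.HS

end

-- merged: Cfsg.Agent.CpAut.TwoAll
section

/-!
# S1814, `p = 2`: all the rows (helper31)

`twoRows` : the structure `TwoRows`. Hypotheses: `AllKnown` (`S0000`), `Walter.Main.Step` (`Walter.StepAll.step`),
`GenRows`, `BRows`, `OrdDiv.OrderTable` (`OrdDiv.table`).
-/

set_option autoImplicit false

namespace Cfsg.Agent.CpAut.TwoAll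

open Subgroup Cfsg Cfsg.Agent.SevenCases

theorem hs : AutC 2 Spor.HS := by
  have hcard := CTwoTab.HN.card_HS
  have : Finite Spor.HS := Nat.finite_of_card_ne_zero (by rw [hcard]; norm_num)
  exact CpAutTwo.autC_two (TwoInner.center_eq_bot_of_card CTwoTab.HN.simple_HS (by rw [hcard]; norm_num))
    (CTwoTab.HS.compC2_of_iso ⟨MulEquiv.refl _⟩) CpAutTwo.HS.outer

theorem twoRows (hS : AllKnown.{0}) (hstep : Walter.Main.Step.{0}) (hG : GenRows.{0}) (hB : BRows.{0})
    (T : OrdDiv.OrderTable.{0}) : TwoRows :=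
  have hT := TwoTab.table hstep hG hB
  { chev := TwoCT.chev
    l2 := TwoCT.l2
    l33 := TwoCT.l33
    g23 := TwoCT.g23
    u43 := TwoCT.u43
    m11 := TwoCT.m11
    m22 := TwoCT.m22
    m23 := TwoCT.m23
    m24 := TwoCT.m24
    j3 := TwoCT.j3
    j4 := TwoCT.j4
    co2 := TwoCT.co2
    th := TwoCT.th
    l43 := fun F _ _ hF => CpAutTwo.LFour.autC_of F hF
    m12 := TwoMTwelve.m12
    j2 := TwoOuter.j2 hS T
    hs := hs
    suz := TwoOuter.suz hS T
    ru := TwoInner.ru
    co1 := TwoInner.co1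
    fi22 := Fi22Row.autC_of hS hT (Fi22Check.check T)
    fi23 := TwoInner.fi23
    fi24 := CpAutFi24.Row.autC
    b := TwoInner.b (CTwoTab.B.compC2 hS hT)
    m := TwoInner.m (CTwoTab.Monster.compC2 ⟨MulEquiv.refl _⟩)
    table := hT
    tl2 := TwoT.tl2
    ta7 := TwoT.ta7 }

end Cfsg.Agent.CpAut.TwoAll

end
end

private theorem dce_e9615469967c : _root_.True := by
  try have : _root_.True := by simp only [_root_.Cfsg.Agent.CpAutTwo.HS.FW.eq_1]
  try have : _root_.True := by simp only [_root_.Cfsg.Agent.CpAut.Fi22Check.ok.eq_1]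
  try have : _root_.True := by simp only [_root_.Cfsg.Agent.CpAutTwo.LFour.DD.eq_1]
  try have : _root_.True := by simp only [_root_.Cfsg.Agent.CpAutTwo.LFour.quad.eq_1]
  try have : _root_.True := by simp only [_root_.Cfsg.Agent.CpAutFi24.Unit.tt.congr_simp]
  try have : _root_.True := by simp only [_root_.Cfsg.Agent.CpAutTwo.HS.Cd.eq_1]
  exact _root_.True.intro
end

-- part: H287/OutFi24
section
set_option linter.all false
open scoped Cfsg.Agent.FastGrp

/-!
# `Fi24'`: the components of the centralizers of the outer involutions (helper287)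

`outCard` : `Fi23` or `2².U₆(2)`.
-/

set_option autoImplicit false

namespace Cfsg.Agent.H287.OutFi24

open Cfsg Cfsg.Spor Cfsg.Agent.R01 Cfsg.Agent.R08 Cfsg.Agent.R08.FiTwentyFour
open Cfsg.Agent.R08.TetBasic Cfsg.Agent.R08.TetFi24A
open Cfsg.Agent.CpAutFi24.OutInv Cfsg.Agent.CpAutFi24.Unit Cfsg.Agent.CpAutFi24.Row
open Subgroup

universe u

/-- **three transpositions** -/
theorem hcard_tri {a b c : Fi24} (h : Tri3 a b c) (X : Subgroup Spor.Fi24')
    (hX : ∀ k : Spor.Fi24', k ∈ X ↔ Commute (k : Fi24) (a * b * c)) :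
    HCard (fun n m => n = 36787322880 ∧ m = 9196830720) ↥X := by
  have := finite_Fi24
  have hF : Finite Spor.Fi24' := inferInstance
  have hX' : ∀ k ∈ X, Commute (k : Fi24) (a * b * c) := fun k hk => (hX k).1 hk
  have hker : ∀ k : X, k ∈ (act h X hX').ker ↔ ((k : Spor.Fi24') : Fi24) ∈ U a b c := by
    intro k
    rw [MonoidHom.mem_ker]
    constructor
    · intro hk
      have h1 : ∀ d : {d : Fi24 // d = a ∨ d = b ∨ d = c}, Commute ((k : Spor.Fi24') : Fi24) d := by
        intro d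
        have h2 : ((k : Spor.Fi24') : Fi24) * d * ((k : Spor.Fi24') : Fi24)⁻¹ = d :=
          congrArg Subtype.val (DFunLike.congr_fun hk d)
        exact mul_inv_eq_iff_eq_mul.1 h2
      exact ⟨(k : Spor.Fi24').2, h1 ⟨a, Or.inl rfl⟩, h1 ⟨b, Or.inr (Or.inl rfl)⟩, h1 ⟨c, Or.inr (Or.inr rfl)⟩⟩
    · rintro ⟨-, h1, h2, h3⟩
      ext d
      show ((k : Spor.Fi24') : Fi24) * d * ((k : Spor.Fi24') : Fi24)⁻¹ = d
      obtain ⟨d, rfl | rfl | rfl⟩ := d
      · exact mul_inv_eq_iff_eq_mul.2 h1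
      · exact mul_inv_eq_iff_eq_mul.2 h2
      · exact mul_inv_eq_iff_eq_mul.2 h3
  let f : (act h X hX').ker →* U a b c :=
    { toFun := fun k => ⟨((k : X) : Spor.Fi24'), (hker k).1 k.2⟩
      map_one' := rfl
      map_mul' := fun _ _ => rfl }
  have hf : Function.Bijective f := by
    constructor
    · intro k l e
      apply Subtype.ext
      apply Subtype.ext
      apply Subtype.ext
      exact congrArg (fun u : U a b c => (u : Fi24)) e
    · intro u
      have h0 := u.2
      obtain ⟨h1, h2, h3, h4⟩ := mem_U.1 h0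
      have h5 : (⟨u, h1⟩ : Spor.Fi24') ∈ X := (hX _).2 ((h2.mul_right h3).mul_right h4)
      exact ⟨⟨⟨⟨u, h1⟩, h5⟩, (hker _).2 h0⟩, rfl⟩
  let e : (act h X hX').ker ≃* U a b c := MulEquiv.ofBijective f hf
  refine HCard.of_normal (act h X hX').ker ?_ ?_
  rotate_left
  · refine HCard.congr e.symm (HCard.of_quasisimple (quasi h) ⟨card_U h, ?_⟩)
    obtain ⟨P⟩ := exists_at h.ha h.hb h.nab h.ab
    rw [Nat.card_congr (CTwoTab.quoCenterEquiv (sig_surj P (nb_of h)) (center_quo P (nb_of h))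
      (ker_le P (nb_of h))).toEquiv, card_quo P (nb_of h)]
  · have hs : Finite {d : Fi24 // d = a ∨ d = b ∨ d = c} := inferInstance
    have h4 : Nat.card {d : Fi24 // d = a ∨ d = b ∨ d = c} ≤ 4 := by
      have h5 : Nat.card {d : Fi24 // d = a ∨ d = b ∨ d = c} ≤ Nat.card (Fin 3) := by
        refine Nat.card_le_card_of_surjective (fun i : Fin 3 => (![⟨a, Or.inl rfl⟩, ⟨b, Or.inr (Or.inl rfl)⟩,
          ⟨c, Or.inr (Or.inr rfl)⟩] : Fin 3 → {d : Fi24 // d = a ∨ d = b ∨ d = c}) i) ?_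
        rintro ⟨d, rfl | rfl | rfl⟩
        · exact ⟨0, rfl⟩
        · exact ⟨1, rfl⟩
        · exact ⟨2, rfl⟩
      rw [Nat.card_fin] at h5
      omega
    have h6 := Cfsg.Agent.Schreier.Tools.isSolvable_perm_of_card_le_four _ h4
    exact Group.isSolvable_of_isSolvable_injective (QuotientGroup.kerLift_injective (act h X hX'))

/-- **a transposition** -/
theorem hcard_one {a : Fi24} (ha : a ∈ L) (X : Subgroup Spor.Fi24')
    (hX : ∀ k : Spor.Fi24', k ∈ X ↔ Commute (k : Fi24) a) :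
    HCard (fun n m => n = 4089470473293004800 ∧ m = 4089470473293004800) ↥X := by
  have F := FiTwentyFour.facts
  obtain ⟨h, rfl⟩ := isConj_iff.1 (show IsConj (Fischer.Fi24Class.gen .l) a from ha)
  let ψ : Fi23 →* Fi24 := (MulAut.conj h).toMonoidHom.comp F.phi
  have hψi : Function.Injective ψ := (MulAut.conj h).injective.comp F.phi_injective
  have hψ : ∀ g : Fi24, g ∈ commutator Fi24 → g * (h * Fischer.Fi24Class.gen .l * h⁻¹) =
      (h * Fischer.Fi24Class.gen .l * h⁻¹) * g → ∃ k, ψ k = g := by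
    intro g hg hgc
    obtain ⟨k, hk⟩ := (F.mem_range_iff (h⁻¹ * g * h)).2 ⟨by
      calc h⁻¹ * g * h * Fischer.Fi24Class.gen .l
          = h⁻¹ * (g * (h * Fischer.Fi24Class.gen .l * h⁻¹)) * h := by group
        _ = h⁻¹ * ((h * Fischer.Fi24Class.gen .l * h⁻¹) * g) * h := by rw [hgc]
        _ = _ := by group, by
      rw [← mem_commutator_iff]
      have := (inferInstance : (commutator Fi24).Normal).conj_mem g hg h⁻¹
      rwa [inv_inv] at this⟩
    refine ⟨k, ?_⟩
    show h * F.phi k * h⁻¹ = g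
    rw [hk]
    group
  have hψc : ∀ k, ψ k ∈ commutator Fi24 ∧ ψ k * (h * Fischer.Fi24Class.gen .l * h⁻¹) =
      (h * Fischer.Fi24Class.gen .l * h⁻¹) * ψ k := by
    intro k
    have e : ψ k = h * F.phi k * h⁻¹ := rfl
    have h1 : F.phi k ∈ commutator Fi24 := mem_commutator_iff.2 (F.sgn_phi k)
    refine ⟨?_, ?_⟩
    · rw [e]
      exact (inferInstance : (commutator Fi24).Normal).conj_mem _ h1 h
    · rw [e]
      calc h * F.phi k * h⁻¹ * (h * Fischer.Fi24Class.gen .l * h⁻¹)
          = h * (F.phi k * Fischer.Fi24Class.gen .l) * h⁻¹ := by group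
        _ = h * (Fischer.Fi24Class.gen .l * F.phi k) * h⁻¹ := by rw [F.phi_comm]
        _ = _ := by group
  let f : Fi23 →* X :=
    { toFun := fun k => ⟨⟨ψ k, (hψc k).1⟩, (hX _).2 (hψc k).2⟩
      map_one' := Subtype.ext (Subtype.ext (map_one ψ))
      map_mul' := fun k l => Subtype.ext (Subtype.ext (map_mul ψ k l)) }
  have hf : Function.Bijective f := by
    constructor
    · intro k l e
      apply hψi
      exact congrArg (fun y : X => ((y : Spor.Fi24') : Fi24)) e
    · rintro ⟨g, hg⟩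
      obtain ⟨k, hk⟩ := hψ g g.2 ((hX g).1 hg)
      exact ⟨k, Subtype.ext (Subtype.ext hk)⟩
  have := simple23
  have := finite23
  exact HCard.congr (MulEquiv.ofBijective f hf) (HCard.of_simple
    (not_comm_of_card (by rw [card23]; norm_num)) ⟨card23, card23⟩)

/-- **S1814-P2-Fi24p, outer involutions** -/
theorem outCard_model : OutCard (fun n m => (n = 4089470473293004800 ∧ m = 4089470473293004800) ∨
    (n = 36787322880 ∧ m = 9196830720)) Spor.Fi24' := by
  intro x hx hout
  obtain ⟨g, hg⟩ := KFacts.FiTF.exists_conj x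
  have hxx : x * x = 1 := by rw [← pow_two, ← hx, pow_orderOf_eq_one]
  have hgn : g ∉ commutator Fi24 := by
    intro h
    apply hout
    refine ⟨⟨g, h⟩, ?_⟩
    ext k
    exact hg k
  have hgg : g * g = 1 := by
    apply eq_one_of_comm
    intro k hk
    have h1 : x (x ⟨k, hk⟩) = ⟨k, hk⟩ := DFunLike.congr_fun hxx ⟨k, hk⟩
    have h2 := congrArg Subtype.val h1
    rw [hg, hg] at h2
    have h3 : g * (g * k * g⁻¹) * g⁻¹ = k := h2
    calc g * g * k = g * (g * k * g⁻¹) * g⁻¹ * (g * g) := by group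
      _ = k * (g * g) := by rw [h3]
  have hX : ∀ k : Spor.Fi24', k ∈ fixedSubgroup x ↔ Commute (k : Fi24) g := by
    intro k
    constructor
    · intro hk
      have h1 : x k = k := hk
      have h2 : g * (k : Fi24) * g⁻¹ = k := by rw [← hg, h1]
      exact (mul_inv_eq_iff_eq_mul.1 h2).symm
    · intro hk
      show x k = k
      apply Subtype.ext
      rw [hg, mul_inv_eq_iff_eq_mul]
      exact hk.eq.symm
  rcases outer_cases hgn hgg with h | ⟨a, b, c, h, rfl⟩
  · exact (hcard_one h _ hX).mono fun _ _ => Or.inl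
  · exact (hcard_tri h _ hX).mono fun _ _ => Or.inr


/-- **the row `Fi24'`, outer part** -/
theorem outCard {X : Type u} [Group X] (h : Spor.IsoFi24' X) :
    OutCard (fun n m => (n = 4089470473293004800 ∧ m = 4089470473293004800) ∨
      (n = 36787322880 ∧ m = 9196830720)) X := by
  obtain ⟨f⟩ := h
  exact OutCard.of_equiv f.symm outCard_model

end Cfsg.Agent.H287.OutFi24
end

-- part: H318/OutFi24
section
set_option linter.all false
open scoped Cfsg.Agent.FastGrp

/-!
# Components of the fixed points of the outer involutions of `Fi₂₄'` (helper318)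

`outCard_fi24` : a component has order `36787322880 = 2².|U₆(2)|` or `4089470473293004800 = |Fi₂₃|`.
-/

set_option autoImplicit false

namespace Cfsg.Agent.H318.OutFi24

open Cfsg Cfsg.Spor Cfsg.Agent.R01 Cfsg.Agent.R08 Cfsg.Agent.R08.FiTwentyFour
open Cfsg.Agent.R08.TetBasic Cfsg.Agent.R08.TetFi24A
open Cfsg.Agent.CpAutFi24.OutInv Cfsg.Agent.CpAutFi24.Unit Cfsg.Agent.CpAutFi24.Row
open Cfsg.Agent.H287
open Subgroup

universe u

/-- the orders of the components -/
def Sf (n _m : ℕ) : Prop := n = 36787322880 ∨ n = 4089470473293004800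

/-- **three transpositions** -/
theorem hcard_tri {a b c : Fi24} (h : Tri3 a b c) (X : Subgroup Spor.Fi24')
    (hX : ∀ k : Spor.Fi24', k ∈ X ↔ Commute (k : Fi24) (a * b * c)) : HCard Sf ↥X := by
  have := finite_Fi24
  have hF : Finite Spor.Fi24' := inferInstance
  have hX' : ∀ k ∈ X, Commute (k : Fi24) (a * b * c) := fun k hk => (hX k).1 hk
  have hker : ∀ k : X, k ∈ (act h X hX').ker ↔ ((k : Spor.Fi24') : Fi24) ∈ U a b c := by
    intro k
    rw [MonoidHom.mem_ker]
    constructor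
    · intro hk
      have h1 : ∀ d : {d : Fi24 // d = a ∨ d = b ∨ d = c}, Commute ((k : Spor.Fi24') : Fi24) d := by
        intro d
        have h2 : ((k : Spor.Fi24') : Fi24) * d * ((k : Spor.Fi24') : Fi24)⁻¹ = d :=
          congrArg Subtype.val (DFunLike.congr_fun hk d)
        exact mul_inv_eq_iff_eq_mul.1 h2
      exact ⟨(k : Spor.Fi24').2, h1 ⟨a, Or.inl rfl⟩, h1 ⟨b, Or.inr (Or.inl rfl)⟩, h1 ⟨c, Or.inr (Or.inr rfl)⟩⟩
    · rintro ⟨-, h1, h2, h3⟩
      ext d
      show ((k : Spor.Fi24') : Fi24) * d * ((k : Spor.Fi24') : Fi24)⁻¹ = d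
      obtain ⟨d, rfl | rfl | rfl⟩ := d
      · exact mul_inv_eq_iff_eq_mul.2 h1
      · exact mul_inv_eq_iff_eq_mul.2 h2
      · exact mul_inv_eq_iff_eq_mul.2 h3
  let f : (act h X hX').ker →* U a b c :=
    { toFun := fun k => ⟨((k : X) : Spor.Fi24'), (hker k).1 k.2⟩
      map_one' := rfl
      map_mul' := fun _ _ => rfl }
  have hf : Function.Bijective f := by
    constructor
    · intro k l e
      apply Subtype.ext
      apply Subtype.ext
      apply Subtype.ext
      exact congrArg (fun u : U a b c => (u : Fi24)) e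
    · intro u
      have h0 := u.2
      obtain ⟨h1, h2, h3, h4⟩ := mem_U.1 h0
      have h5 : (⟨u, h1⟩ : Spor.Fi24') ∈ X := (hX _).2 ((h2.mul_right h3).mul_right h4)
      exact ⟨⟨⟨⟨u, h1⟩, h5⟩, (hker _).2 h0⟩, rfl⟩
  let e : (act h X hX').ker ≃* U a b c := MulEquiv.ofBijective f hf
  refine HCard.of_normal (act h X hX').ker ?_ ?_
  · have hs : Finite {d : Fi24 // d = a ∨ d = b ∨ d = c} := inferInstance
    have h4 : Nat.card {d : Fi24 // d = a ∨ d = b ∨ d = c} ≤ 4 := by
      have h5 : Nat.card {d : Fi24 // d = a ∨ d = b ∨ d = c} ≤ Nat.card (Fin 3) := by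
        refine Nat.card_le_card_of_surjective (fun i : Fin 3 => (![⟨a, Or.inl rfl⟩, ⟨b, Or.inr (Or.inl rfl)⟩,
          ⟨c, Or.inr (Or.inr rfl)⟩] : Fin 3 → {d : Fi24 // d = a ∨ d = b ∨ d = c}) i) ?_
        rintro ⟨d, rfl | rfl | rfl⟩
        · exact ⟨0, rfl⟩
        · exact ⟨1, rfl⟩
        · exact ⟨2, rfl⟩
      rw [Nat.card_fin] at h5
      omega
    have h6 := Cfsg.Agent.Schreier.Tools.isSolvable_perm_of_card_le_four _ h4
    exact Group.isSolvable_of_isSolvable_injective (QuotientGroup.kerLift_injective (act h X hX'))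
  · refine HCard.of_quasisimple (Cfsg.Agent.SignalizersComponents.QsBasic.isQuasisimple_of_mulEquiv e.symm (quasi h)) ?_
    left
    rw [Nat.card_congr e.toEquiv, card_U h]

/-- **a transposition** -/
theorem hcard_one {a : Fi24} (ha : a ∈ L) (X : Subgroup Spor.Fi24')
    (hX : ∀ k : Spor.Fi24', k ∈ X ↔ Commute (k : Fi24) a) : HCard Sf ↥X := by
  have F := FiTwentyFour.facts
  obtain ⟨h, rfl⟩ := isConj_iff.1 (show IsConj (Fischer.Fi24Class.gen .l) a from ha)
  let ψ : Fi23 →* Fi24 := (MulAut.conj h).toMonoidHom.comp F.phi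
  have hψi : Function.Injective ψ := (MulAut.conj h).injective.comp F.phi_injective
  have hψ : ∀ g : Fi24, g ∈ commutator Fi24 → g * (h * Fischer.Fi24Class.gen .l * h⁻¹) =
      (h * Fischer.Fi24Class.gen .l * h⁻¹) * g → ∃ k, ψ k = g := by
    intro g hg hgc
    obtain ⟨k, hk⟩ := (F.mem_range_iff (h⁻¹ * g * h)).2 ⟨by
      calc h⁻¹ * g * h * Fischer.Fi24Class.gen .l
          = h⁻¹ * (g * (h * Fischer.Fi24Class.gen .l * h⁻¹)) * h := by group
        _ = h⁻¹ * ((h * Fischer.Fi24Class.gen .l * h⁻¹) * g) * h := by rw [hgc]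
        _ = _ := by group, by
      rw [← mem_commutator_iff]
      have := (inferInstance : (commutator Fi24).Normal).conj_mem g hg h⁻¹
      rwa [inv_inv] at this⟩
    refine ⟨k, ?_⟩
    show h * F.phi k * h⁻¹ = g
    rw [hk]
    group
  have hψc : ∀ k, ψ k ∈ commutator Fi24 ∧ ψ k * (h * Fischer.Fi24Class.gen .l * h⁻¹) =
      (h * Fischer.Fi24Class.gen .l * h⁻¹) * ψ k := by
    intro k
    have e : ψ k = h * F.phi k * h⁻¹ := rfl
    have h1 : F.phi k ∈ commutator Fi24 := mem_commutator_iff.2 (F.sgn_phi k)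
    refine ⟨?_, ?_⟩
    · rw [e]
      exact (inferInstance : (commutator Fi24).Normal).conj_mem _ h1 h
    · rw [e]
      calc h * F.phi k * h⁻¹ * (h * Fischer.Fi24Class.gen .l * h⁻¹)
          = h * (F.phi k * Fischer.Fi24Class.gen .l) * h⁻¹ := by group
        _ = h * (Fischer.Fi24Class.gen .l * F.phi k) * h⁻¹ := by rw [F.phi_comm]
        _ = _ := by group
  let f : Fi23 →* X :=
    { toFun := fun k => ⟨⟨ψ k, (hψc k).1⟩, (hX _).2 (hψc k).2⟩
      map_one' := Subtype.ext (Subtype.ext (map_one ψ))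
      map_mul' := fun k l => Subtype.ext (Subtype.ext (map_mul ψ k l)) }
  have hf : Function.Bijective f := by
    constructor
    · intro k l e
      apply hψi
      exact congrArg (fun y : X => ((y : Spor.Fi24') : Fi24)) e
    · rintro ⟨g, hg⟩
      obtain ⟨k, hk⟩ := hψ g g.2 ((hX g).1 hg)
      exact ⟨k, Subtype.ext (Subtype.ext hk)⟩
  have h23 : HCard Sf Fi23 := by
    have := simple23
    have := finite23
    exact HCard.of_simple (not_comm_of_card (by rw [card23]; norm_num)) (Or.inr card23)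
  exact h23.congr (MulEquiv.ofBijective f hf)

/-- the outer involutions of the model -/
theorem model : OutCard Sf Spor.Fi24' := by
  intro x hx hout
  obtain ⟨g, hg⟩ := KFacts.FiTF.exists_conj x
  have hxx : x * x = 1 := by rw [← pow_two, ← hx, pow_orderOf_eq_one]
  have hgn : g ∉ commutator Fi24 := by
    intro h
    apply hout
    refine ⟨⟨g, h⟩, ?_⟩
    ext k
    exact hg k
  have hgg : g * g = 1 := by
    apply eq_one_of_comm
    intro k hk
    have h1 : x (x ⟨k, hk⟩) = ⟨k, hk⟩ := DFunLike.congr_fun hxx ⟨k, hk⟩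
    have h2 := congrArg Subtype.val h1
    rw [hg, hg] at h2
    have h3 : g * (g * k * g⁻¹) * g⁻¹ = k := h2
    calc g * g * k = g * (g * k * g⁻¹) * g⁻¹ * (g * g) := by group
      _ = k * (g * g) := by rw [h3]
  have hX : ∀ k : Spor.Fi24', k ∈ fixedSubgroup x ↔ Commute (k : Fi24) g := by
    intro k
    constructor
    · intro hk
      have h1 : x k = k := hk
      have h2 : g * (k : Fi24) * g⁻¹ = k := by rw [← hg, h1]
      exact (mul_inv_eq_iff_eq_mul.1 h2).symm
    · intro hk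
      show x k = k
      apply Subtype.ext
      rw [hg, mul_inv_eq_iff_eq_mul]
      exact hk.eq.symm
  rcases outer_cases hgn hgg with h | ⟨a, b, c, h, rfl⟩
  · exact hcard_one h _ hX
  · exact hcard_tri h _ hX

/-- **The outer involutions of `Fi₂₄'`.** -/
theorem outCard_fi24 {X : Type u} [Group X] (h : Spor.IsoFi24' X) : OutCard Sf X := by
  obtain ⟨e⟩ := h
  exact OutCard.of_equiv e.symm model

end Cfsg.Agent.H318.OutFi24
end
end
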