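import Cfsg.Agent.H287.FixCard
import Cfsg.Agent.CpAut.TwoAbs
import Cfsg.Agent.CpQuot.Quo
import Cfsg.Agent.H287.InnON_m3
import Cfsg.Agent.CpAut.Fi22Row
import Cfsg.Agent.Prune
set_option linter.all false
prune_inst 0x7f00000000000000000000000000000000000000000000000000000000000000000000000000000000000000000000000000000000000000000000000000000000000000000000000000000000000000003fffffffffffffffffffffffffffbeffbdffffffff
open scoped Cfsg.Agent.FastGrp

-- part: H287/FrameComp
section
/-!
# Components and the centralizers of involutions (helper287)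

`frame_comp` : if the centralizers of the involutions of `H` have no odd core and their components `K` satisfy
`S |K| |K / Z(K)|`, then for a component `A` of `H` either `S n |A / Z(A)|` for a divisor `n` of `|A|`, or `A / Z(A)` is
simple and has the same property: `CompCard S (A / Z(A))`.
-/

set_option autoImplicit false

namespace Cfsg.Agent.H287

open Subgroup Cfsg
open Cfsg.Agent.CTwoTab
open Cfsg.Agent.CpAut
open Cfsg.Agent.SignalizersComponents.Components

universe u v

/-- the image of a component not contained in the normal subgroup -/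
theorem comp_map {H : Type u} {Q : Type v} [Group H] [Group Q] {f : H →* Q} (hf : Function.Surjective f) {A : Subgroup H}
    (hA : IsComponent A) (hne : A.map f ≠ ⊥) :
    IsComponent (A.map f) ∧ Nonempty (↥A ⧸ center ↥A ≃* ↥(A.map f) ⧸ center ↥(A.map f)) := by
  have : Nontrivial ↥(A.map f) := (nontrivial_iff_ne_bot _).2 hne
  have h1 : Function.Surjective (f.subgroupMap A) := f.subgroupMap_surjective A
  exact ⟨⟨hA.1.map hf, CpQuot.Quo.quasisimple hA.2 (f.subgroupMap A) h1⟩,
    CpQuot.Quo.nonempty_equiv hA.2 (f.subgroupMap A) h1⟩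

/-- the centralizer of an element of a subgroup -/
def centInf {G : Type u} [Group G] {L : Subgroup G} (v : ↥L) :
    ↥(L.subgroupOf (centralizer ({(v : G)} : Set G))) ≃* ↥(centralizer ({v} : Set ↥L)) where
  toFun m := ⟨⟨m.1.1, m.2⟩, by
    rw [mem_centralizer_singleton_iff]
    exact Subtype.ext (mem_centralizer_singleton_iff.1 m.1.2)⟩
  invFun c := ⟨⟨c.1.1, by
    rw [mem_centralizer_singleton_iff]
    exact congrArg Subtype.val (mem_centralizer_singleton_iff.1 c.2)⟩, c.1.2⟩
  left_inv _ := rfl
  right_inv _ := rfl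
  map_mul' _ _ := rfl

/-- components of a normal subgroup -/
theorem HCard.normal_sub {S : ℕ → ℕ → Prop} {G : Type u} [Group G] (h : HCard S G) (N : Subgroup G) [N.Normal] :
    HCard S ↥N := by
  intro K hK
  have hN : N.IsSubnormal := Subgroup.Normal.isSubnormal inferInstance
  have h1 := h _ (isComponent_map_subtype hN hK)
  have e : ↥K ≃* ↥(K.map N.subtype) := K.equivMapOfInjective N.subtype N.subtype_injective
  rwa [← Nat.card_congr e.toEquiv, ← Nat.card_congr (quoEquiv e).toEquiv] at h1

theorem frame_comp {S : ℕ → ℕ → Prop} {H : Type u} [Group H] [Finite H]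
    (hcore : ∀ u : H, orderOf u = 2 → pPrimeCore 2 ↥(centralizer ({u} : Set H)) = ⊥)
    (hloc : ∀ u : H, orderOf u = 2 → HCard S ↥(centralizer ({u} : Set H)))
    {A : Subgroup H} (hA : IsComponent A) (h2 : 2 ∣ Nat.card ↥A) :
    (∃ n, n ∣ Nat.card ↥A ∧ S n (Nat.card (↥A ⧸ center ↥A))) ∨
      (IsSimpleGroup (↥A ⧸ center ↥A) ∧ CompCard S (↥A ⧸ center ↥A)) := by
  have hOn : (pPrimeCore 2 H).Normal := Lib.Cores.pPrimeCore_normal 2
  have hne : A.map (QuotientGroup.mk' (pPrimeCore 2 H)) ≠ ⊥ := by
    intro h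
    rw [Subgroup.map_eq_bot_iff, QuotientGroup.ker_mk'] at h
    have h3 := h2.trans (card_dvd_of_le h)
    have h4 : Odd (Nat.card ↥(pPrimeCore 2 H)) := TwoAbs.odd_core
    exact (Nat.not_even_iff_odd.2 h4) (even_iff_two_dvd.2 h3)
  obtain ⟨hL, ⟨e0⟩⟩ := comp_map (QuotientGroup.mk'_surjective (pPrimeCore 2 H)) hA hne
  set L := A.map (QuotientGroup.mk' (pPrimeCore 2 H)) with hLdef
  rcases TwoAbs.frame hcore L hL with ⟨u, K, hu, hK, ⟨e⟩⟩ | ⟨hs, hLn, -, hinv⟩
  · left
    refine ⟨Nat.card ↥K, ?_, ?_⟩
    · rw [Nat.card_congr e.toEquiv, hLdef]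
      exact card_map_dvd A _
    · have h1 := (hloc u hu).comp hK
      rwa [Nat.card_congr (quoEquiv e).toEquiv, ← Nat.card_congr e0.toEquiv] at h1
  · right
    have hna : ¬ IsMulCommutative ↥L := quasisimple_not_isMulCommutative hL.2
    have e1 : ↥A ⧸ center ↥A ≃* ↥L :=
      (e0.trans (QuotientGroup.quotientMulEquivOfEq (CTwoTab.center_eq_bot_of_simple hna))).trans
        QuotientGroup.quotientBot
    refine ⟨e1.isSimpleGroup, CompCard.of_equiv e1.symm ?_⟩
    intro v hv K hK
    obtain ⟨u, e, hu, -, -⟩ := hinv v v.2 (by rw [Subgroup.orderOf_coe, hv])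
    have h3 : HCard S ↥(centralizer ({(v : H ⧸ pPrimeCore 2 H)} : Set (H ⧸ pPrimeCore 2 H))) := (hloc u hu).congr e
    exact ((h3.normal_sub (L.subgroupOf _)).congr (centInf v)).comp hK

end Cfsg.Agent.H287
end

-- part: H287/OutFi22
section
/-!
# `Fi₂₂`: the components of the centralizers of the outer involutions (helper287)

`HComp T S H` : a component `A` of even order of `H` satisfies `T |A| |A / Z(A)|`, or `A / Z(A)` is simple and satisfies
`CompCard S` (the components of the centralizers of its involutions satisfy `S`).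

`hcomp_outer` : `|A / Z(A)| = |Sp₆(2)|` or the components `K` of the involution centralizers of `A / Z(A)` satisfy
`|K / Z(K)| = |Sp₆(2)|`.
-/

set_option autoImplicit false

namespace Cfsg.Agent.H287

open Subgroup Cfsg
open Cfsg.Agent.CTwoTab
open Cfsg.Agent.CpAut
open Cfsg.Agent.SignalizersComponents.Components

universe u v

/-- see the head of the file -/
def HComp (T S : ℕ → ℕ → Prop) (H : Type*) [Group H] : Prop :=
  ∀ A : Subgroup H, IsComponent A → 2 ∣ Nat.card ↥A →
    T (Nat.card ↥A) (Nat.card (↥A ⧸ center ↥A)) ∨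
      (IsSimpleGroup (↥A ⧸ center ↥A) ∧ CompCard S (↥A ⧸ center ↥A))

theorem HComp.congr {T S : ℕ → ℕ → Prop} {H : Type u} {H' : Type v} [Group H] [Group H'] (e : H ≃* H')
    (h : HComp T S H) : HComp T S H' := by
  intro K hK h2
  have h3 := h _ (isComponent_map_equiv e.symm hK)
    (by rwa [Nat.card_congr (subMap e.symm K).toEquiv] at h2)
  have e1 : (↥(K.map e.symm.toMonoidHom) ⧸ center ↥(K.map e.symm.toMonoidHom)) ≃* (↥K ⧸ center ↥K) :=
    (quoEquiv (subMap e.symm K)).symm
  rcases h3 with h3 | ⟨h3, h4⟩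
  · left
    rwa [Nat.card_congr (subMap e.symm K).toEquiv, ← Nat.card_congr e1.toEquiv]
  · right
    exact ⟨e1.symm.isSimpleGroup, h4.of_equiv e1⟩

theorem HComp.of_frame {T S : ℕ → ℕ → Prop} {H : Type u} [Group H] [Finite H]
    (hcore : ∀ u : H, orderOf u = 2 → pPrimeCore 2 ↥(centralizer ({u} : Set H)) = ⊥)
    (hloc : ∀ u : H, orderOf u = 2 → HCard S ↥(centralizer ({u} : Set H))) (hT : ∀ n k m, S n m → T k m) :
    HComp T S H := by
  intro A hA h2
  rcases frame_comp hcore hloc hA h2 with ⟨n, -, h⟩ | h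
  · exact Or.inl (hT _ _ _ h)
  · exact Or.inr h

theorem not_comm_of_card {X : Type u} [Group X] [IsSimpleGroup X] (h : ¬ (Nat.card X).Prime) :
    ¬ IsMulCommutative X := by
  intro hc
  let _ : CommGroup X := { (inferInstance : Group X) with mul_comm := hc.is_comm.comm }
  exact h (IsSimpleGroup.prime_card (α := X))

namespace OutFi22

open Cfsg.Agent.R01.FiFusion Cfsg.Agent.R01.FiFacts Cfsg.Agent.StdFi22.TLev
open Cfsg.Agent.OddHalf.D8.Fi22
open Cfsg.Agent.CpAut.Fi22Row
open Cfsg.Agent.CpAut.UnitFix (Sp6)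

/-- the order of `Sp₆(2)` -/
abbrev P : ℕ → ℕ → Prop := fun _ m => m = 1451520

theorem hcomp {x : MulAut Spor.Fi22} (hx : orderOf x = 2) (hout : ¬ ∃ g, x = MulAut.conj g) :
    HComp P P ↥(fixedSubgroup x) := by
  have hfin : Finite Spor.Fi22 := R01.Fi22Facts.finite
  have hxx : x * x = 1 := by rw [← pow_two, ← hx, pow_orderOf_eq_one]
  have hsq : ∀ (u : ↥(fixedSubgroup x)) (hu : orderOf u = 2),
      (⟨u, mem_centralizer_singleton_iff.2 rfl⟩ : ↥(centralizer ({u} : Set ↥(fixedSubgroup x)))) *
        ⟨u, mem_centralizer_singleton_iff.2 rfl⟩ = 1 ∧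
      (⟨u, mem_centralizer_singleton_iff.2 rfl⟩ : ↥(centralizer ({u} : Set ↥(fixedSubgroup x)))) ≠ 1 := by
    intro u hu
    constructor
    · apply Subtype.ext
      change u * u = 1
      rw [← pow_two, ← hu, pow_orderOf_eq_one]
    · intro h
      have h1 : u = 1 := congrArg Subtype.val h
      rw [h1, orderOf_one] at hu
      omega
  refine HComp.of_frame (fun u hu => ?_) (fun u hu => ?_) fun _ _ _ h => h
  · obtain ⟨h1, h2⟩ := hsq u hu
    rcases cases hxx hout u hu with h | ⟨θ, hθ, hk⟩
    · exact TwoAbs.core_of_ct h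
    · exact SpCover.core hθ h1 h2 hk
  · rcases cases hxx hout u hu with h | ⟨θ, hθ, hk⟩
    · exact HCard.of_ct h
    · have hs := UnitFix.simple_sp6
      have hZ : θ.ker ≤ center ↥(centralizer ({u} : Set ↥(fixedSubgroup x))) := by
        intro c hc
        rcases (hk c).1 hc with rfl | rfl
        · exact one_mem _
        · rw [mem_center_iff]
          intro g
          apply Subtype.ext
          exact mem_centralizer_singleton_iff.1 g.2
      have e := QuotientGroup.quotientKerEquivOfSurjective θ hθ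
      have hsq : IsSimpleGroup (↥(centralizer ({u} : Set ↥(fixedSubgroup x))) ⧸ θ.ker) := e.isSimpleGroup
      have hcard : Nat.card (↥(centralizer ({u} : Set ↥(fixedSubgroup x))) ⧸ θ.ker) = 1451520 := by
        rw [Nat.card_congr e.toEquiv, UnitFix.card_sp6]
      have hna : ¬ IsMulCommutative (↥(centralizer ({u} : Set ↥(fixedSubgroup x))) ⧸ θ.ker) :=
        not_comm_of_card (by rw [hcard]; norm_num)
      exact (HCard.of_central hZ hna).mono fun n m h => h.1.trans hcard

end OutFi22

end Cfsg.Agent.H287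
end
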