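import Cfsg.Agent.H287.FixCard
import Cfsg.Agent.SignalizersComponents.CompBasic
import Cfsg.Agent.FastGrp
import Cfsg.Agent.Prune
set_option linter.all false
prune_inst 0x7f00000000000000000000000000000000000000000000000000000000000000000000000000000000000000000000000000000000000000000000000000000000000000000000000000000000000000003fffffffffffffffffffffffffffbeffbdffffffff
open scoped Cfsg.Agent.FastGrp

/-!
# Sylow 2-subgroups of the centralizer of an involutory automorphism (helper287)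

`exists_inv_sylow` : a `φ`-invariant 2-subgroup is contained in a `φ`-invariant Sylow 2-subgroup.

`exists_conj` : given a Sylow 2-subgroup `S` of `X` there is a conjugate `ψ` of `φ` leaving `S` invariant such that
`S ⊓ C_X(ψ)` is a Sylow 2-subgroup of `C_X(ψ)`.
-/

set_option autoImplicit false

namespace Cfsg.Agent.H287

open Subgroup Cfsg

universe u

/-- restriction of an involutory automorphism to an invariant subgroup -/
def resAut {X : Type u} [Group X] {φ : MulAut X} (hφ : φ * φ = 1) (N : Subgroup X) (hN : ∀ x ∈ N, φ x ∈ N) :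
    MulAut ↥N where
  toFun x := ⟨φ x, hN x x.2⟩
  invFun x := ⟨φ x, hN x x.2⟩
  left_inv x := Subtype.ext (congrArg (fun f : MulAut X => f (x : X)) hφ)
  right_inv x := Subtype.ext (congrArg (fun f : MulAut X => f (x : X)) hφ)
  map_mul' x y := Subtype.ext (map_mul φ (x : X) (y : X))

theorem resAut_sq {X : Type u} [Group X] {φ : MulAut X} (hφ : φ * φ = 1) (N : Subgroup X) (hN : ∀ x ∈ N, φ x ∈ N) :
    resAut hφ N hN * resAut hφ N hN = 1 := by
  ext x
  exact congrArg (fun f : MulAut X => f (x : X)) hφ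

/-- a `φ`-invariant 2-subgroup is contained in a `φ`-invariant Sylow 2-subgroup -/
theorem exists_inv_sylow {X : Type u} [Group X] [Finite X] {φ : MulAut X} (hφ : φ * φ = 1) {P : Subgroup X}
    (hP : IsPGroup 2 ↥P) (hinv : ∀ x ∈ P, φ x ∈ P) :
    ∃ S : Sylow 2 X, P ≤ S ∧ ∀ x ∈ S, φ x ∈ S := by
  have : Fact (Nat.Prime 2) := ⟨Nat.prime_two⟩
  have hfin : {Q : Subgroup X | IsPGroup 2 ↥Q ∧ P ≤ Q ∧ ∀ x ∈ Q, φ x ∈ Q}.Finite := Set.toFinite _
  obtain ⟨Q, hPQ, hQ⟩ := hfin.exists_le_maximal (a := P) ⟨hP, le_rfl, hinv⟩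
  obtain ⟨⟨hQp, -, hQi⟩, hmax⟩ := hQ
  have hφφ : ∀ x, φ (φ x) = x := fun x => congrArg (fun f : MulAut X => f x) hφ
  have hNi : ∀ x ∈ normalizer (Q : Set X), φ x ∈ normalizer (Q : Set X) := by
    intro x hx
    rw [mem_normalizer_iff] at hx ⊢
    intro y
    have h1 : φ (x * φ y * x⁻¹) = φ x * y * (φ x)⁻¹ := by rw [map_mul, map_mul, hφφ, map_inv]
    constructor
    · intro hy
      rw [← h1]
      exact hQi _ ((hx _).1 (hQi _ hy))
    · intro hy
      rw [← h1] at hy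
      have h2 := hQi _ hy
      rw [hφφ] at h2
      have h3 := hQi _ ((hx _).2 h2)
      rwa [hφφ] at h3
  obtain ⟨T, hT⟩ := SignalizersComponents.CompBasic.exists_invariant_sylow (X := ↥(normalizer (Q : Set X))) 2
    (resAut hφ _ hNi) (k := 1) (by rw [pow_one, pow_two, resAut_sq])
  have hQN : Q ≤ normalizer (Q : Set X) := le_normalizer
  have hn : (Q.subgroupOf (normalizer (Q : Set X))).Normal := normal_in_normalizer
  have hQT : Q.subgroupOf (normalizer (Q : Set X)) ≤ T :=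
    @IsPGroup.le_sylow_of_normal 2 _ _ _ hn (hQp.comap_subtype (K := normalizer (Q : Set X))) T
  have hTQ : (T : Subgroup ↥(normalizer (Q : Set X))).map (Subgroup.subtype _) ≤ Q := by
    apply hmax
    · refine ⟨T.isPGroup'.map _, ?_, ?_⟩
      · intro x hx
        exact ⟨⟨x, hQN (hPQ hx)⟩, hQT (mem_subgroupOf.2 (hPQ hx)), rfl⟩
      · rintro _ ⟨x, hx, rfl⟩
        exact ⟨resAut hφ _ hNi x, (hT x).2 hx, rfl⟩
    · intro x hx
      exact ⟨⟨x, hQN hx⟩, hQT (mem_subgroupOf.2 hx), rfl⟩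
  obtain ⟨S, hS⟩ := hQp.exists_le_sylow
  refine ⟨S, hPQ.trans hS, ?_⟩
  have hSQ : (S : Subgroup X) ≤ Q := by
    by_contra hne
    have hnil : Group.IsNilpotent ↥(S : Subgroup X) := S.isPGroup'.isNilpotent
    have h1 : Q.subgroupOf (S : Subgroup X) < ⊤ := by
      rw [lt_top_iff_ne_top]
      intro h
      exact hne (subgroupOf_eq_top.1 h)
    have h2 := Group.normalizerCondition_of_isNilpotent (G := ↥(S : Subgroup X)) _ h1
    obtain ⟨x, hx, hxn⟩ := SetLike.exists_of_lt h2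
    apply hxn
    rw [mem_subgroupOf]
    have h3 : (x : X) ∈ normalizer (Q : Set X) := by
      rw [mem_normalizer_iff] at hx ⊢
      have hfw : ∀ y ∈ Q, (x : X) * y * (x : X)⁻¹ ∈ Q := by
        intro y hy
        have h4 := (hx ⟨y, hS hy⟩).1 (mem_subgroupOf.2 hy)
        exact mem_subgroupOf.1 h4
      intro y
      refine ⟨hfw y, fun hy => ?_⟩
      have h5 : (x : X)⁻¹ * ((x : X) * y * (x : X)⁻¹) * (x : X) = y := by group
      have hyS : y ∈ (S : Subgroup X) := by
        rw [← h5]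
        exact mul_mem (mul_mem (inv_mem x.2) (hS hy)) x.2
      exact mem_subgroupOf.1 ((hx ⟨y, hyS⟩).2 (mem_subgroupOf.2 hy))
    have h6 : IsPGroup 2 ↥(((S : Subgroup X) ⊓ normalizer (Q : Set X)).subgroupOf (normalizer (Q : Set X))) :=
      (S.isPGroup'.to_le inf_le_left).comap_subtype
    have h7 : Q.subgroupOf (normalizer (Q : Set X)) = T := by
      apply le_antisymm hQT
      intro y hy
      exact mem_subgroupOf.2 (hTQ ⟨y, hy, rfl⟩)
    have h8 : (T : Subgroup ↥(normalizer (Q : Set X))) ≤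
        ((S : Subgroup X) ⊓ normalizer (Q : Set X)).subgroupOf (normalizer (Q : Set X)) := by
      rw [← h7]
      intro y hy
      rw [mem_subgroupOf] at hy ⊢
      exact ⟨hS hy, y.2⟩
    have h9 := T.is_maximal' h6 h8
    have h10 : (⟨(x : X), h3⟩ : ↥(normalizer (Q : Set X))) ∈
        ((S : Subgroup X) ⊓ normalizer (Q : Set X)).subgroupOf (normalizer (Q : Set X)) :=
      mem_subgroupOf.2 ⟨x.2, h3⟩
    rw [h9] at h10
    exact hTQ ⟨_, h10, rfl⟩
  have hEq : (S : Subgroup X) = Q := le_antisymm hSQ hS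
  intro x hx
  change φ x ∈ (S : Subgroup X)
  have hx' : x ∈ (S : Subgroup X) := hx
  rw [hEq] at hx' ⊢
  exact hQi x hx'

/-- **a conjugate of `φ` leaves `S` invariant and `S ⊓ C_X(ψ)` is a Sylow 2-subgroup of `C_X(ψ)`** -/
theorem exists_conj {X : Type u} [Group X] [Finite X] {φ : MulAut X} (hφ : φ * φ = 1) (S : Sylow 2 X) :
    ∃ g : X, (∀ s ∈ S, (MulAut.conj g * φ * (MulAut.conj g)⁻¹) s ∈ S) ∧
      ∀ k : ℕ, 2 ^ k ∣ Nat.card ↥(fixedSubgroup φ) →
        2 ^ k ∣ Nat.card ↥((S : Subgroup X) ⊓ fixedSubgroup (MulAut.conj g * φ * (MulAut.conj g)⁻¹)) := by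
  have : Fact (Nat.Prime 2) := ⟨Nat.prime_two⟩
  obtain ⟨R⟩ : Nonempty (Sylow 2 ↥(fixedSubgroup φ)) := inferInstance
  set P : Subgroup X := (R : Subgroup ↥(fixedSubgroup φ)).map (Subgroup.subtype _) with hP
  have hPp : IsPGroup 2 ↥P := R.isPGroup'.map _
  have hfix : ∀ x ∈ P, φ x = x := by
    rintro _ ⟨x, -, rfl⟩
    exact x.2
  obtain ⟨S', hPS, hS'⟩ := exists_inv_sylow hφ hPp fun x hx => by rwa [hfix x hx]
  obtain ⟨g, hg⟩ := MulAction.exists_smul_eq X S' S
  have hmem : ∀ x, x ∈ S' → g * x * g⁻¹ ∈ S := by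
    intro x hx
    rw [← hg]
    exact ⟨x, hx, rfl⟩
  have hmem2 : ∀ x, x ∈ S → g⁻¹ * x * g ∈ S' := by
    intro x hx
    rw [← hg] at hx
    obtain ⟨y, hy, rfl⟩ := hx
    have h1 : g⁻¹ * (g * y * g⁻¹) * g = y := by group
    change g⁻¹ * (g * y * g⁻¹) * g ∈ S'
    rw [h1]
    exact hy
  refine ⟨g, fun s hs => ?_, fun k hk => ?_⟩
  · have h1 := hmem _ (hS' _ (hmem2 s hs))
    have h2 : (MulAut.conj g * φ * (MulAut.conj g)⁻¹) s = g * φ (g⁻¹ * s * g) * g⁻¹ := by
      rw [← map_inv]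
      change g * φ (g⁻¹ * s * g⁻¹⁻¹) * g⁻¹ = _
      rw [inv_inv]
    rw [h2]
    exact h1
  · have h1 : 2 ^ k ∣ Nat.card ↥(R : Subgroup ↥(fixedSubgroup φ)) := R.pow_dvd_card_of_pow_dvd_card hk
    have h2 : Nat.card ↥(R : Subgroup ↥(fixedSubgroup φ)) = Nat.card ↥P :=
      Nat.card_congr ((R : Subgroup ↥(fixedSubgroup φ)).equivMapOfInjective _ (subtype_injective _)).toEquiv
    have h3 : Nat.card ↥P = Nat.card ↥(P.map (MulAut.conj g).toMonoidHom) :=
      Nat.card_congr (P.equivMapOfInjective _ (MulAut.conj g).injective).toEquiv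
    rw [h2, h3] at h1
    refine h1.trans (card_dvd_of_le ?_)
    rintro _ ⟨x, hx, rfl⟩
    refine ⟨hmem x (hPS hx), ?_⟩
    change (MulAut.conj g * φ * (MulAut.conj g)⁻¹) (MulAut.conj g x) = MulAut.conj g x
    rw [MulAut.mul_apply, MulAut.inv_apply_self, MulAut.mul_apply, hfix x hx]

end Cfsg.Agent.H287
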