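import Cfsg.Agent.UGT.C.BalONInv
import Cfsg.Agent.H287.SylFix
import Cfsg.Agent.UGT.C.BalON
import Cfsg.Agent.KFacts.ON.Words_m3
import Cfsg.Agent.H603.SporElim
import Cfsg.Agent.FastGrp
import Cfsg.Agent.Prune
set_option linter.all false
open scoped Cfsg.Agent.FastGrp

-- part: H287/OutONTab
section
/-!
# O'Nan group: the centralizer of an outer involution has order not divisible by 16 (helper287)

Kernel check on the table of a Sylow 2-subgroup `T` of order 512 : for each of the 64 elements `u ∈ T` such that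
`conj u * β` is an involution (`β` = the outer automorphism leaving `T` invariant), it centralizes 8 elements of `T`.
-/

set_option autoImplicit false
set_option maxRecDepth 100000
set_option Elab.async false

namespace Cfsg.Agent.H287.OutON

open Subgroup Cfsg
open Cfsg.Agent.UGT.C.PcTab Cfsg.Agent.UGT.C.BalONTab

/-- the values of `be`, packed -/
noncomputable def beN : ℕ := nat_lit 0xd6eb35faed46a755abd2e934fa6d068745a3c964f2191cb65f2995cd66f3199cf67f399dc6e331f8ec4627158bc2e130f86c06070583d8ec367b2daed36fb6dcee377badeef37fbee0f0387c2e2f138fc6e4f2397cae6f339fcefeff3fffefc7e7f5fbfafd3eff6f87c7e5f3f178fc1e1f379fc9e5f57afd1e9f77bfd9edeef73bfdeec767b5dbeaf53afd6e8747a5d38743e190d85c2a13088341e090581c0a0300994ce61319b4de69359d4ee71399f4fe793d96cb25f2e944a6552b92c924f269048645238944e21118b45e29158d46e31198f47e391db158ec161b359ec965b55aed169b75bed96daed72bf5eac566b55baad52af56a8546a553a150e8141a351e8945a552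e9149a753e994dbf5fef97dbddeaf378bb5dee975b9dcae370793cde0f17b3dde8f57d3edf0f97f3fdf8fd65b2992c867b399acc61b0982c063b198ac468b41a6d26ab51aed66cb61b6da6eb71bede75ba9d2e877bb9daec71b89c2e073b99cae448a4126924aa512e964ca61369a4ea713e9e55aa952a857ab95aac51a8942a053a994aa458ac166b25aad16eb65cae176ba5eaf17ebe44225148b462351c8f402050483422150c873a1d4ec77389c0e6723e1f4fc7f3c9e0f67a269309e4e24124944b229108e462010484432b958aa542914ca0512f978ba5c2d16cb059369b0de6e341a4d46b32990ce6630184c4630b8582a140904c20110f8783a1c0d06c3019168b05e2e140a4542b128904e261008444231b8d86a34190cc60311f8f87a3c1d0ec70390703c180d0582812080301c0805018080200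

/-- the values of `be` -/
noncomputable def bp (x : ℕ) : ℕ := Nat.land (Nat.shiftRight beN (Nat.mul 9 x)) 511

private noncomputable def _root_.Cfsg.Agent.KO2b0d0a4.k0 : ((x0 : Prop) → ((@Decidable @x0) → @Bool)) := @(fun (x0 : Prop) (x1 : @Decidable @x0) => @Decidable.rec.{1} @x0 @(fun (x2 : @Decidable @x0) => @Bool) @(fun (x2 : @Not @x0) => @Bool.false) @(fun (x2 : x0) => @Bool.true) @x1)
private theorem _root_.Cfsg.Agent.KO2b0d0a4.e0 : @Decidable.decide = @_root_.Cfsg.Agent.KO2b0d0a4.k0 := by delta _root_.Cfsg.Agent.KO2b0d0a4.k0; rfl'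
private noncomputable def _root_.Cfsg.Agent.KO2b0d0a4.oEq.{ku} (α : Sort ku) (a b : Nat) (f t : α) : α := @Decidable.rec (a = b) (fun _ => α) (fun _ => f) (fun _ => t) (Nat.decEq a b)
private noncomputable def _root_.Cfsg.Agent.KO2b0d0a4.k1.{ku} (α : Sort ku) (a b : Nat) (f t : α) : α := @Bool.rec (fun _ => α) f t (Nat.beq a b)
private theorem _root_.Cfsg.Agent.KO2b0d0a4.e1.{ku} : @_root_.Cfsg.Agent.KO2b0d0a4.oEq.{ku} = @_root_.Cfsg.Agent.KO2b0d0a4.k1.{ku} := funext fun α => funext fun a => funext fun b => funext fun f => funext fun t => by delta _root_.Cfsg.Agent.KO2b0d0a4.oEq _root_.Cfsg.Agent.KO2b0d0a4.k1; cases h : Nat.beq a b <;> cases Nat.decEq a b <;> rename_i g <;> first | rfl | exact absurd g (Nat.ne_of_beq_eq_false h) | exact absurd (Nat.eq_of_beq_eq_true h) g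
private theorem _root_.Cfsg.Agent.KO2b0d0a4.e2.{ku} {M : Nat → Sort ku} (φ : ∀ n, M n) {z : M Nat.zero} {s : ∀ n, M n → M (Nat.succ n)} (h0 : φ Nat.zero = z) (hs : ∀ n, φ (Nat.succ n) = s n (φ n)) (n : Nat) : φ n = @Nat.rec M z s n := Nat.rec h0 (fun n ih => (hs n).trans (congrArg (s n) ih)) n
private noncomputable def _root_.Cfsg.Agent.KO2b0d0a4.k3 : (by first | exact type_of% @Cfsg.Agent.UGT.C.PcTab.mulk | exact Unit : Sort _) := by first | (refine @Subtype.val _ (fun g => @Cfsg.Agent.UGT.C.PcTab.mulk = @g) (@Subtype.mk _ _ (@(fun (x0 : (@Nat → (@Nat → @Nat))) (x1 : @Nat) (x2 : @Nat) (x3 : @Nat) => @Nat.rec.{1} @(fun (x4 : @Nat) => @Nat) @x1 @(fun (x4 : @Nat) (x5 : @Nat) => @Bool.rec.{1} @(fun (x6 : @Bool) => @Nat) @x5 (@x0 @x5 @x4) (@Bool.rec.{1} @(fun (x6 : @Bool) => @Bool) @Bool.true @Bool.false (@Cfsg.Agent.KO2b0d0a4.k1.{1} @Bool (@Nat.land (nat_lit 1) (@Nat.shiftRight @x2 @x4)) (nat_lit 0) @Bool.false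 @Bool.true))) @x3)) ?_); rewrite [← Cfsg.Agent.KO2b0d0a4.e1.{1}]; funext a0 a1 a2 a3; refine (_root_.Cfsg.Agent.KO2b0d0a4.e2 (fun a3 => @Cfsg.Agent.UGT.C.PcTab.mulk a0 a1 a2 a3) ?_ (fun c0 => ?_) a3 :) <;> (rfl')) | exact @Cfsg.Agent.UGT.C.PcTab.mulk | exact ()
private theorem _root_.Cfsg.Agent.KO2b0d0a4.e3 : (by first | exact @Cfsg.Agent.UGT.C.PcTab.mulk = @_root_.Cfsg.Agent.KO2b0d0a4.k3 | exact True : Prop) := by first | (delta _root_.Cfsg.Agent.KO2b0d0a4.k3; exact @Subtype.property _ (fun g => @Cfsg.Agent.UGT.C.PcTab.mulk = @g) _) | rfl | trivial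
private noncomputable def _root_.Cfsg.Agent.KO2b0d0a4.k4 : (by first | exact type_of% @Cfsg.Agent.UGT.C.PcTab.hk | exact Unit : Sort _) := by first | (refine @Subtype.val _ (fun g => @Cfsg.Agent.UGT.C.PcTab.hk = @g) (@Subtype.mk _ _ (@(fun (x0 : (@Nat → (@Nat → @Nat))) (x1 : @Nat) (x2 : (@Nat → @Nat)) (x3 : @Nat) (x4 : @Nat) => @Nat.rec.{1} @(fun (x5 : @Nat) => @Nat) (nat_lit 0) @(fun (x5 : @Nat) (x6 : @Nat) => @Bool.rec.{1} @(fun (x7 : @Bool) => @Nat) @x6 (@Cfsg.Agent.KO2b0d0a4.k3 @x0 @x6 (@x2 @x5) @x1) (@Bool.rec.{1} @(fun (x7 : @Bool) => @Bool) @Bool.true @Bool.false (@Cfsg.Agent.KO2b0d0a4.k1.{1} @Bool (@Nat.land (nat_lit 1) (@Nat.shiftRight @x3 @x5)) (nat_lit 0) @Bool.false @Bool.true))) @x4)) ?_); rewrite [← Cfsg.Agent.KO2b0d0a4.e3, ← Cfsg.Agent.KO2b0d0a4.e1.{1}]; funext a0 a1 a2 a3 a4; refine (_root_.Cfsg.Agent.KO2b0d0a4.e2 (fun a4 => @Cfsg.Agent.UGT.C.PcTab.hk a0 a1 a2 a3 a4) ?_ (fun c0 => ?_) a4 :)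 <;> ((try delta Cfsg.Agent.UGT.C.PcTab.hk Cfsg.Agent.UGT.C.PcTab.hk._f); (try generalize @Cfsg.Agent.UGT.C.PcTab.mulk = g0); rfl')) | exact @Cfsg.Agent.UGT.C.PcTab.hk | exact ()
private theorem _root_.Cfsg.Agent.KO2b0d0a4.e4 : (by first | exact @Cfsg.Agent.UGT.C.PcTab.hk = @_root_.Cfsg.Agent.KO2b0d0a4.k4 | exact True : Prop) := by first | (delta _root_.Cfsg.Agent.KO2b0d0a4.k4; exact @Subtype.property _ (fun g => @Cfsg.Agent.UGT.C.PcTab.hk = @g) _) | rfl | trivial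
private noncomputable def _root_.Cfsg.Agent.KO2b0d0a4.k5 : (by first | exact type_of% @Cfsg.Agent.UGT.C.BalONTab.R | exact Unit : Sort _) := by first | (refine @Subtype.val _ (fun g => @Cfsg.Agent.UGT.C.BalONTab.R = @g) (@Subtype.mk _ _ (@(fun (x0 : @Nat) (x1 : @Nat) => @Nat.land (@Nat.shiftRight @Cfsg.Agent.UGT.C.BalONTab.tabN (@Nat.mul (nat_lit 9) (@Nat.add (@Nat.mul (nat_lit 9) @x0) @x1))) (nat_lit 511))) ?_); (try delta Cfsg.Agent.UGT.C.BalONTab.R); (try generalize @Cfsg.Agent.UGT.C.BalONTab.tabN = g0); rfl') | exact @Cfsg.Agent.UGT.C.BalONTab.R | exact ()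
private theorem _root_.Cfsg.Agent.KO2b0d0a4.e5 : (by first | exact @Cfsg.Agent.UGT.C.BalONTab.R = @_root_.Cfsg.Agent.KO2b0d0a4.k5 | exact True : Prop) := by first | (delta _root_.Cfsg.Agent.KO2b0d0a4.k5; exact @Subtype.property _ (fun g => @Cfsg.Agent.UGT.C.BalONTab.R = @g) _) | rfl | trivial
private theorem _root_.Cfsg.Agent.KO2b0d0a4.e6.{ku, kv} {α : Type kv} {M : List α → Sort ku} (φ : ∀ l, M l) {z : M List.nil} {s : ∀ a l, M l → M (List.cons a l)} (h0 : φ List.nil = z) (hs : ∀ a l, φ (List.cons a l) = s a l (φ l)) (l : List α) : φ l = @List.rec α M z s l := List.rec h0 (fun a l ih => (hs a l).trans (congrArg (s a l) ih)) l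
private noncomputable def _root_.Cfsg.Agent.KO2b0d0a4.k8.{ku0} : ((x0 : Sort (ku0+1)) → ((@List.{ku0} @x0) → (@Nat → @Option.{ku0} @x0))) := @(fun (x0 : Sort (ku0+1)) (x1 : @List.{ku0} @x0) (x2 : @Nat) => @List.rec.{(ku0+1), ku0} @x0 @(fun (x3 : @List.{ku0} @x0) => (@Nat → @Option.{ku0} @x0)) @(fun (x3 : @Nat) => @Option.none.{ku0} @x0) @(fun (x3 : x0) (x4 : @List.{ku0} @x0) (x5 : (@Nat → @Option.{ku0} @x0)) (x6 : @Nat) => @Nat.rec.{(ku0+1)} @(fun (x7 : @Nat) => @Option.{ku0} @x0) (@Option.some.{ku0} @x0 @x3) @(fun (x7 : @Nat) (x8 : @Option.{ku0} @x0) => @x5 @x7) @x6) @x1 @x2)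
private theorem _root_.Cfsg.Agent.KO2b0d0a4.e8.{ku0} : @List.get?Internal.{ku0} = @_root_.Cfsg.Agent.KO2b0d0a4.k8.{ku0} := by delta _root_.Cfsg.Agent.KO2b0d0a4.k8; funext a0 a1 a2; refine (congrFun (_root_.Cfsg.Agent.KO2b0d0a4.e6 (fun a1 a2 => @List.get?Internal.{ku0} a0 a1 a2) ?_ (fun c0 c1 => ?_) a1) a2 :) <;> [(funext b0; (rfl')); (funext b0; (cases b0 with | @zero  => (rfl') | @succ b0_0 => (rfl')))]
private noncomputable def _root_.Cfsg.Agent.KO2b0d0a4.k9 : (by first | exact type_of% @Cfsg.Agent.UGT.C.BalONTab.BG | exact Unit : Sort _) := by first | (refine @Subtype.val _ (fun g => @Cfsg.Agent.UGT.C.BalONTab.BG = @g) (@Subtype.mk _ _ (@(fun (x0 : @Nat) => @Option.rec.{1, 0} @Nat @(fun (x1 : @Option.{0} @Nat) => @Nat) (nat_lit 0) @(fun (x1 : @Nat) => x1) (@Cfsg.Agent.KO2b0d0a4.k8.{0} @Nat (@List.cons.{0} @Nat (nat_lit 1) (@List.cons.{0} @Nat (nat_lit 2) (@List.cons.{0} @Nat (nat_lit 5) (@List.cons.{0}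 @Nat (nat_lit 8) (@List.cons.{0} @Nat (nat_lit 57) (@List.cons.{0} @Nat (nat_lit 35) (@List.cons.{0} @Nat (nat_lit 99) (@List.cons.{0} @Nat (nat_lit 135) (@List.cons.{0} @Nat (nat_lit 368) (@List.nil.{0} @Nat)))))))))) @x0))) ?_); rewrite [← Cfsg.Agent.KO2b0d0a4.e8.{0}]; rfl') | exact @Cfsg.Agent.UGT.C.BalONTab.BG | exact ()
private theorem _root_.Cfsg.Agent.KO2b0d0a4.e9 : (by first | exact @Cfsg.Agent.UGT.C.BalONTab.BG = @_root_.Cfsg.Agent.KO2b0d0a4.k9 | exact True : Prop) := by first | (delta _root_.Cfsg.Agent.KO2b0d0a4.k9; exact @Subtype.property _ (fun g => @Cfsg.Agent.UGT.C.BalONTab.BG = @g) _) | rfl | trivial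
private noncomputable def _root_.Cfsg.Agent.KO2b0d0a4.k10 : (by first | exact type_of% @Cfsg.Agent.UGT.C.BalONTab.be | exact Unit : Sort _) := by first | (refine @Subtype.val _ (fun g => @Cfsg.Agent.UGT.C.BalONTab.be = @g) (@Subtype.mk _ _ (@(fun (x0 : @Nat) => @Cfsg.Agent.KO2b0d0a4.k4 @Cfsg.Agent.KO2b0d0a4.k5 (nat_lit 9) @Cfsg.Agent.KO2b0d0a4.k9 @x0 (nat_lit 9))) ?_); rewrite [← Cfsg.Agent.KO2b0d0a4.e4, ← Cfsg.Agent.KO2b0d0a4.e5, ← Cfsg.Agent.KO2b0d0a4.e9]; (try delta Cfsg.Agent.UGT.C.BalONTab.be); (try generalize @Cfsg.Agent.UGT.C.PcTab.hk = g0); (try generalize @Cfsg.Agent.UGT.C.BalONTab.R = g1); (try generalize @Cfsg.Agent.UGT.C.BalONTab.BG = g2); rfl') | exact @Cfsg.Agent.UGT.C.BalONTab.be | exact ()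
private theorem _root_.Cfsg.Agent.KO2b0d0a4.e10 : (by first | exact @Cfsg.Agent.UGT.C.BalONTab.be = @_root_.Cfsg.Agent.KO2b0d0a4.k10 | exact True : Prop) := by first | (delta _root_.Cfsg.Agent.KO2b0d0a4.k10; exact @Subtype.property _ (fun g => @Cfsg.Agent.UGT.C.BalONTab.be = @g) _) | rfl | trivial
private noncomputable def _root_.Cfsg.Agent.KO2b0d0a4.k11 : (by first | exact type_of% @Cfsg.Agent.H287.OutON.bp | exact Unit : Sort _) := by first | (refine @Subtype.val _ (fun g => @Cfsg.Agent.H287.OutON.bp = @g) (@Subtype.mk _ _ (@(fun (x0 : @Nat) => @Nat.land (@Nat.shiftRight @Cfsg.Agent.H287.OutON.beN (@Nat.mul (nat_lit 9) @x0)) (nat_lit 511))) ?_); (try delta Cfsg.Agent.H287.OutON.bp); (try generalize @Cfsg.Agent.H287.OutON.beN = g0); rfl') | exact @Cfsg.Agent.H287.OutON.bp | exact ()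
private theorem _root_.Cfsg.Agent.KO2b0d0a4.e11 : (by first | exact @Cfsg.Agent.H287.OutON.bp = @_root_.Cfsg.Agent.KO2b0d0a4.k11 | exact True : Prop) := by first | (delta _root_.Cfsg.Agent.KO2b0d0a4.k11; exact @Subtype.property _ (fun g => @Cfsg.Agent.H287.OutON.bp = @g) _) | rfl | trivial
private noncomputable def _root_.Cfsg.Agent.KO2b0d0a4.k12l (n : Nat) (P : ∀ k, k < n → Prop) (H : ∀ k h, Decidable (P k h)) (m : Nat) : m ≤ n → Bool := @Nat.rec (fun m => m ≤ n → Bool) (fun _ => true) (fun k ih h => @Decidable.rec (P k h) (fun _ => Bool) (fun _ => false) (fun _ => ih (Nat.le_of_succ_le h)) (H k h)) m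
private theorem _root_.Cfsg.Agent.KO2b0d0a4.k12ls (n : Nat) (P : ∀ k, k < n → Prop) (H : ∀ k h, Decidable (P k h)) (m : Nat) : ∀ h : m ≤ n, _root_.Cfsg.Agent.KO2b0d0a4.k12l n P H m h = true ↔ ∀ k (g : k < m), P k (Nat.lt_of_lt_of_le g h) := by induction m with | zero => exact fun _ => ⟨fun _ _ g => absurd g (Nat.not_lt_zero _), fun _ => rfl⟩ | succ m ih => intro h; show @Decidable.rec (P m h) (fun _ => Bool) (fun _ => false) (fun _ => _root_.Cfsg.Agent.KO2b0d0a4.k12l n P H m (Nat.le_of_succ_le h)) (H m h) = true ↔ _; cases H m h with | isFalse q => exact ⟨fun g => absurd g Bool.false_ne_true, fun g => absurd (g m (Nat.lt_succ_self m)) q⟩ | isTrue q => exact ⟨fun g k hk => (Nat.lt_succ_iff_lt_or_eq.1 hk).elim ((ih _).1 g k) fun e => by subst e; exact q, fun g => (ih _).2 fun k hk => g k (Nat.lt_succ_of_lt hk)⟩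
private noncomputable def _root_.Cfsg.Agent.KO2b0d0a4.k12 (n : Nat) (P : ∀ k, k < n → Prop) (H : ∀ k h, Decidable (P k h)) : Decidable (∀ k h, P k h) := @Bool.rec (fun b => _root_.Cfsg.Agent.KO2b0d0a4.k12l n P H n (Nat.le_refl n) = b → Decidable (∀ k h, P k h)) (fun g => isFalse fun q => Bool.false_ne_true (g.symm.trans ((_root_.Cfsg.Agent.KO2b0d0a4.k12ls n P H n _).2 fun k h => q k h))) (fun g => isTrue fun k h => (_root_.Cfsg.Agent.KO2b0d0a4.k12ls n P H n _).1 g k h) (_root_.Cfsg.Agent.KO2b0d0a4.k12l n P H n (Nat.le_refl n)) rfl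
private theorem _root_.Cfsg.Agent.KO2b0d0a4.e12 : @Nat.decidableBallLT = @_root_.Cfsg.Agent.KO2b0d0a4.k12 := funext fun _ => funext fun _ => funext fun _ => Subsingleton.elim _ _
private noncomputable def _root_.Cfsg.Agent.KO2b0d0a4.k13 : ((x0 : @Nat) → ((x1 : @Nat) → @Decidable (@Eq.{1} @Nat @x0 @x1))) := @(fun (x0 : @Nat) (x1 : @Nat) => @Bool.rec.{1} @(fun (x2 : @Bool) => ((@Eq.{1} @Bool (@Nat.beq @x0 @x1) @x2) → @Decidable (@Eq.{1} @Nat @x0 @x1))) @(fun (x2 : @Eq.{1} @Bool (@Nat.beq @x0 @x1) @Bool.false) => @Decidable.isFalse (@Eq.{1} @Nat @x0 @x1) (@Nat.ne_of_beq_eq_false @x0 @x1 @x2)) @(fun (x2 : @Eq.{1} @Bool (@Nat.beq @x0 @x1) @Bool.true) => @Decidable.isTrue (@Eq.{1} @Nat @x0 @x1) (@Nat.eq_of_beq_eq_true @x0 @x1 @x2)) (@Nat.beq @x0 @x1) (@Eq.refl.{1} @Bool (@Nat.beq @x0 @x1)))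
private theorem _root_.Cfsg.Agent.KO2b0d0a4.e13 : @Nat.decEq = @_root_.Cfsg.Agent.KO2b0d0a4.k13 := by delta _root_.Cfsg.Agent.KO2b0d0a4.k13; rfl'
private noncomputable def _root_.Cfsg.Agent.KO2b0d0a4.k14 : @DecidableEq.{1} @Nat := @Cfsg.Agent.KO2b0d0a4.k13
private theorem _root_.Cfsg.Agent.KO2b0d0a4.e14 : @instDecidableEqNat = @_root_.Cfsg.Agent.KO2b0d0a4.k14 := by delta _root_.Cfsg.Agent.KO2b0d0a4.k14; rewrite [← Cfsg.Agent.KO2b0d0a4.e13]; rfl'

theorem bp_ok : ∀ x < 512, be x = bp x := by (first | (refine of_decide_eq_true ?_; rewrite [Cfsg.Agent.KO2b0d0a4.e0, Cfsg.Agent.KO2b0d0a4.e10, Cfsg.Agent.KO2b0d0a4.e11, Cfsg.Agent.KO2b0d0a4.e12, Cfsg.Agent.KO2b0d0a4.e14]; decide +kernel) | decide +kernel)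

/-- the involutory `conj u * β` -/
def us : List ℕ := [0, 1, 2, 3, 4, 5, 6, 7, 8, 9, 10, 11, 12, 13, 14, 15, 32, 33, 34, 35, 36, 37, 38, 39, 40, 41, 42, 43, 44, 45, 46, 47, 80, 81, 82, 83, 84, 85, 86, 87, 88, 89, 90, 91, 92, 93, 94, 95, 112, 113, 114, 115, 116, 117, 118, 119, 120, 121, 122, 123, 124, 125, 126, 127]

private noncomputable def _root_.Cfsg.Agent.KO2b0d0a4.k15 : (by first | exact type_of% @Cfsg.Agent.UGT.C.BalONTab.mu | exact Unit : Sort _) := by first | (refine @Subtype.val _ (fun g => @Cfsg.Agent.UGT.C.BalONTab.mu = @g) (@Subtype.mk _ _ (@(fun (x0 : @Nat) (x1 : @Nat) => @Cfsg.Agent.KO2b0d0a4.k3 @Cfsg.Agent.KO2b0d0a4.k5 @x0 @x1 (nat_lit 9))) ?_); rewrite [← Cfsg.Agent.KO2b0d0a4.e3, ← Cfsg.Agent.KO2b0d0a4.e5]; (try delta Cfsg.Agent.UGT.C.BalONTab.mu); (try generalize @Cfsg.Agent.UGT.C.PcTab.mulk = g0); (try generalize @Cfsg.Agent.UGT.C.BalONTab.R = g1); rfl') | exact @Cfsg.Agent.UGT.C.BalONTab.mu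 | exact ()
private theorem _root_.Cfsg.Agent.KO2b0d0a4.e15 : (by first | exact @Cfsg.Agent.UGT.C.BalONTab.mu = @_root_.Cfsg.Agent.KO2b0d0a4.k15 | exact True : Prop) := by first | (delta _root_.Cfsg.Agent.KO2b0d0a4.k15; exact @Subtype.property _ (fun g => @Cfsg.Agent.UGT.C.BalONTab.mu = @g) _) | rfl | trivial
private noncomputable def _root_.Cfsg.Agent.KO2b0d0a4.k16.{ku0} : ((x0 : Sort (ku0+1)) → ((@BEq.{ku0} @x0) → (x0 → ((@List.{ku0} @x0) → @Bool)))) := @(fun (x0 : Sort (ku0+1)) (x1 : @BEq.{ku0} @x0) (x2 : x0) (x3 : @List.{ku0} @x0) => @List.rec.{1, ku0} @x0 @(fun (x4 : @List.{ku0} @x0) => @Bool) @Bool.false @(fun (x4 : x0) (x5 : @List.{ku0} @x0) (x6 : @Bool) => @Bool.rec.{1} @(fun (x7 : @Bool) => @Bool) @x6 @Bool.true (@BEq.beq.{ku0} @x0 @x1 @x2 @x4)) @x3)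
private theorem _root_.Cfsg.Agent.KO2b0d0a4.e16.{ku0} : @List.elem.{ku0} = @_root_.Cfsg.Agent.KO2b0d0a4.k16.{ku0} := by delta _root_.Cfsg.Agent.KO2b0d0a4.k16; funext a0 a1 a2 a3; refine (_root_.Cfsg.Agent.KO2b0d0a4.e6 (fun a3 => @List.elem.{ku0} a0 a1 a2 a3) ?_ (fun c0 c1 => ?_) a3 :) <;> (rfl')
private noncomputable def _root_.Cfsg.Agent.KO2b0d0a4.k17.{ku0} : ((x0 : Sort (ku0+1)) → ((@BEq.{ku0} @x0) → ((@List.{ku0} @x0) → (x0 → @Bool)))) := @(fun (x0 : Sort (ku0+1)) (x1 : @BEq.{ku0} @x0) (x2 : @List.{ku0} @x0) (x3 : x0) => @Cfsg.Agent.KO2b0d0a4.k16.{ku0} @x0 @x1 @x3 @x2)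
private theorem _root_.Cfsg.Agent.KO2b0d0a4.e17.{ku0} : @List.contains.{ku0} = @_root_.Cfsg.Agent.KO2b0d0a4.k17.{ku0} := by delta _root_.Cfsg.Agent.KO2b0d0a4.k17; rewrite [← Cfsg.Agent.KO2b0d0a4.e16.{ku0}]; rfl'
private noncomputable def _root_.Cfsg.Agent.KO2b0d0a4.k18 : ((x0 : Prop) → ((x1 : (x0 → Prop)) → ((@Decidable @x0) → (((x3 : x0) → @Decidable (@x1 @x3)) → @Decidable ((x4 : x0) → @x1 @x4))))) := @(fun (x0 : Prop) (x1 : (x0 → Prop)) (x2 : @Decidable @x0) (x3 : ((x3 : x0) → @Decidable (@x1 @x3))) => @Decidable.rec.{1} @x0 @(fun (x4 : @Decidable @x0) => @Decidable ((x5 : x0) → @x1 @x5)) @(fun (x4 : @Not @x0) => @Decidable.isTrue ((x5 : x0) → @x1 @x5) (@forall_prop_decidable._proof_2 @x0 @x1 @x4)) @(fun (x4 : x0) => @Decidable.rec.{1} (@x1 @x4) @(fun (x5 : @Decidable (@x1 @x4)) => @Decidable ((x6 : x0) → @x1 @x6)) @(fun (x5 : @Not (@x1 @x4)) => @Decidable.isFalse ((x6 : x0) → @x1 @x6) (@decidable_of_decidable_of_iff._proof_1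 (@x1 @x4) ((x6 : x0) → @x1 @x6) (@forall_prop_decidable._proof_1 @x0 @x1 @x4) @x5)) @(fun (x5 : @x1 @x4) => @Decidable.isTrue ((x6 : x0) → @x1 @x6) (@Iff.mp (@x1 @x4) ((x6 : x0) → @x1 @x6) (@forall_prop_decidable._proof_1 @x0 @x1 @x4) @x5)) (@x3 @x4)) @x2)
private theorem _root_.Cfsg.Agent.KO2b0d0a4.e18 : @forall_prop_decidable = @_root_.Cfsg.Agent.KO2b0d0a4.k18 := by delta _root_.Cfsg.Agent.KO2b0d0a4.k18; rfl'
private noncomputable def _root_.Cfsg.Agent.KO2b0d0a4.k19.{ku0} : ((x0 : Sort ku0) → ((x1 : @Bool) → ((x2 : @Bool) → ((@Eq.{1} @Bool @x1 @x2) → @Bool.noConfusionType.{ku0} @x0 @x1 @x2)))) := @(fun (x0 : Sort ku0) (x1 : @Bool) (x2 : @Bool) (x3 : @Eq.{1} @Bool @x1 @x2) => @Eq.rec.{ku0, 1} @Bool @x1 @(fun (x4 : @Bool) (x5 : @Eq.{1} @Bool @x1 @x4) => @Bool.noConfusionType.{ku0} @x0 @x1 @x4) (@Bool.rec.{ku0} @(fun (x4 : @Bool) => @Bool.noConfusionType.{ku0} @x0 @x4 @x4) @(fun (x4 : x0) => x4) @(fun (x4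 : x0) => x4) @x1) @x2 @x3)
private theorem _root_.Cfsg.Agent.KO2b0d0a4.e19.{ku0} : @Bool.noConfusion.{ku0} = @_root_.Cfsg.Agent.KO2b0d0a4.k19.{ku0} := by delta _root_.Cfsg.Agent.KO2b0d0a4.k19; rfl'
private noncomputable def _root_.Cfsg.Agent.KO2b0d0a4.k20 : ((x0 : @Bool) → ((x1 : @Bool) → @Decidable (@Eq.{1} @Bool @x0 @x1))) := @(fun (x0 : @Bool) (x1 : @Bool) => @Bool.rec.{1} @(fun (x2 : @Bool) => @Decidable (@Eq.{1} @Bool @x2 @x1)) (@Bool.rec.{1} @(fun (x2 : @Bool) => @Decidable (@Eq.{1} @Bool @Bool.false @x2)) (@Decidable.isTrue (@Eq.{1} @Bool @Bool.false @Bool.false) (@rfl.{1} @Bool @Bool.false)) (@Decidable.isFalse (@Eq.{1} @Bool @Bool.false @Bool.true) @(fun (x2 : @Eq.{1} @Bool @Bool.false @Bool.true) => @Cfsg.Agent.KO2b0d0a4.k19.{0} @False @Bool.false @Bool.true @x2)) @x1) (@Bool.rec.{1} @(fun (x2 : @Bool) => @Decidable (@Eq.{1} @Bool @Bool.true @x2)) (@Decidable.isFalse (@Eq.{1} @Bool @Bool.true @Bool.false)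 @(fun (x2 : @Eq.{1} @Bool @Bool.true @Bool.false) => @Cfsg.Agent.KO2b0d0a4.k19.{0} @False @Bool.true @Bool.false @x2)) (@Decidable.isTrue (@Eq.{1} @Bool @Bool.true @Bool.true) (@rfl.{1} @Bool @Bool.true)) @x1) @x0)
private theorem _root_.Cfsg.Agent.KO2b0d0a4.e20 : @Bool.decEq = @_root_.Cfsg.Agent.KO2b0d0a4.k20 := by delta _root_.Cfsg.Agent.KO2b0d0a4.k20; rewrite [← Cfsg.Agent.KO2b0d0a4.e19.{0}]; rfl'
private noncomputable def _root_.Cfsg.Agent.KO2b0d0a4.k21 : @DecidableEq.{1} @Bool := @Cfsg.Agent.KO2b0d0a4.k20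
private theorem _root_.Cfsg.Agent.KO2b0d0a4.e21 : @instDecidableEqBool = @_root_.Cfsg.Agent.KO2b0d0a4.k21 := by delta _root_.Cfsg.Agent.KO2b0d0a4.k21; rewrite [← Cfsg.Agent.KO2b0d0a4.e20]; rfl'

theorem us_ok : ∀ u < 512, mu u (be u) = 0 → us.contains u = true := by (first | (refine of_decide_eq_true ?_; rewrite [Cfsg.Agent.KO2b0d0a4.e0, Cfsg.Agent.KO2b0d0a4.e15, Cfsg.Agent.KO2b0d0a4.e10, Cfsg.Agent.KO2b0d0a4.e17.{0}, Cfsg.Agent.KO2b0d0a4.e14, Cfsg.Agent.KO2b0d0a4.e12, Cfsg.Agent.KO2b0d0a4.e18, Cfsg.Agent.KO2b0d0a4.e21]; decide +kernel) | decide +kernel)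

/-- number of the `x < n` centralized by `conj u * β` -/
noncomputable def cnt (u : ℕ) : ℕ → ℕ
  | 0 => 0
  | n + 1 => bif Nat.beq (mu u (bp n)) (mu n u) then cnt u n + 1 else cnt u n

private noncomputable def h11m (u k : ℕ) : ℕ → ℕ :=
  @Nat.rec (fun _ => ℕ → ℕ) (fun _ => u) (fun k ih m => @Nat.rec (fun _ => ℕ) 0 (fun a _ =>
    @Bool.rec (fun _ => ℕ) (R (ih a) k) (ih a) (Nat.beq a m)) (Nat.succ (Nat.mod m (Nat.pow 2 k)))) k

private theorem h11s (x y k : ℕ) :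
    mulk R x y (k + 1) = bif y.testBit k then R (mulk R x y k) k else mulk R x y k := rfl

private theorem h11_congr (x a b : ℕ) : ∀ k, (∀ i < k, a.testBit i = b.testBit i) → mulk R x a k = mulk R x b k
  | 0, _ => rfl
  | k + 1, h => by
    rw [h11s, h11s, h k (Nat.lt_succ_self k), h11_congr x a b k fun i hi => h i (Nat.lt_succ_of_lt hi)]

private theorem h11m_eq (u : ℕ) : ∀ k m, m < 2 ^ k → h11m u k m = mulk R u m k
  | 0, _, _ => rfl
  | k + 1, m, h => by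
    have h1 : h11m u (k + 1) m = @Bool.rec (fun _ => ℕ) (R (h11m u k (m % 2 ^ k)) k) (h11m u k (m % 2 ^ k))
      (Nat.beq (m % 2 ^ k) m) := rfl
    have h2 : m % 2 ^ k < 2 ^ k := Nat.mod_lt _ (Nat.two_pow_pos k)
    rw [h1, h11m_eq u k _ h2, h11_congr u (m % 2 ^ k) m k fun i hi => by
      rw [Nat.testBit_mod_two_pow, decide_eq_true hi, Bool.true_and], h11s]
    cases e : Nat.beq (m % 2 ^ k) m
    · have h3 : 2 ^ k ≤ m := Nat.le_of_not_lt fun h4 => Nat.ne_of_beq_eq_false e (Nat.mod_eq_of_lt h4)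
      rw [Nat.testBit_of_two_pow_le_and_two_pow_add_one_gt h3 h]
      rfl
    · rw [Nat.testBit_lt_two_pow (Nat.eq_of_beq_eq_true e ▸ h2)]
      rfl

private noncomputable def h11b (u k : ℕ) : List ℕ :=
  @Nat.rec (fun _ => List ℕ) [] (fun k ih => @Bool.rec (fun _ => List ℕ) ih (k :: ih) (u.testBit k)) k

private noncomputable def h11a (x : ℕ) (l : List ℕ) : ℕ := @List.rec ℕ (fun _ => ℕ) x (fun i _ ih => R ih i) l

private theorem h11a_eq (x u : ℕ) : ∀ k, h11a x (h11b u k) = mulk R x u k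
  | 0 => rfl
  | k + 1 => by
    have h1 : h11b u (k + 1) = @Bool.rec (fun _ => List ℕ) (h11b u k) (k :: h11b u k) (u.testBit k) := rfl
    rw [h1, h11s, ← h11a_eq x u k]
    cases u.testBit k <;> rfl

private noncomputable def h11c (u n : ℕ) : ℕ :=
  @Nat.rec (fun _ => ℕ) 0 (fun n ih => @Nat.rec (fun _ => ℕ) 0 (fun m _ =>
    @Bool.rec (fun _ => ℕ) ih (Nat.succ ih) (Nat.beq (h11m u 9 m) (h11a n (h11b u 9)))) (Nat.succ (bp n))) n

private theorem h11c_eq (u : ℕ) : ∀ n, cnt u n = h11c u n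
  | 0 => rfl
  | n + 1 => by
    have h1 : h11c u (n + 1) = @Bool.rec (fun _ => ℕ) (h11c u n) (Nat.succ (h11c u n))
      (Nat.beq (h11m u 9 (bp n)) (h11a n (h11b u 9))) := rfl
    have h2 : bp n < 2 ^ 9 := Nat.and_lt_two_pow _ (by decide)
    have h3 : cnt u (n + 1) = bif Nat.beq (mulk R u (bp n) 9) (mulk R n u 9) then cnt u n + 1 else cnt u n := rfl
    rw [h1, h11m_eq u 9 _ h2, h11a_eq, h3, h11c_eq u n]
    cases Nat.beq (mulk R u (bp n) 9) (mulk R n u 9) <;> rfl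

private noncomputable def h11k (u : ℕ) : Bool :=
  @Nat.rec (fun _ => Bool) false (fun u _ => Nat.ble (h11c u 512) 8) (Nat.succ u)

private theorem h11k_eq : (fun u => Nat.ble (cnt u 512) 8) = h11k := funext fun u => by
  rw [h11c_eq]
  generalize hn : 512 = n
  unfold h11k
  rw [hn]


theorem cnt_a : (us.take 12).all (fun u => Nat.ble (cnt u 512) 8) = true := by (rewrite [h11k_eq]; decide +kernel)

theorem cnt_b : ((us.drop 12).take 13).all (fun u => Nat.ble (cnt u 512) 8) = true := by (rewrite [h11k_eq]; decide +kernel)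
theorem cnt_c : ((us.drop 25).take 13).all (fun u => Nat.ble (cnt u 512) 8) = true := by (rewrite [h11k_eq]; decide +kernel)
theorem cnt_d : ((us.drop 38).take 13).all (fun u => Nat.ble (cnt u 512) 8) = true := by (rewrite [h11k_eq]; decide +kernel)
theorem cnt_e : (us.drop 51).all (fun u => Nat.ble (cnt u 512) 8) = true := by (rewrite [h11k_eq]; decide +kernel)

theorem us_split : us = us.take 12 ++ ((us.drop 12).take 13 ++ ((us.drop 25).take 13 ++ ((us.drop 38).take 13 ++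
    us.drop 51))) := by decide +kernel

theorem cnt_ok : us.all (fun u => Nat.ble (cnt u 512) 8) = true := by
  rw [us_split, List.all_append, List.all_append, List.all_append, List.all_append, cnt_a, cnt_b, cnt_c, cnt_d, cnt_e]
  rfl

end Cfsg.Agent.H287.OutON
end

-- part: H287/OutON
section
/-!
# O'Nan group: the order of the centralizer of an outer involution is not divisible by 16 (helper287)
-/

set_option autoImplicit false

namespace Cfsg.Agent.H287.OutON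

open Subgroup Cfsg
open Cfsg.Spor (ON)
open Cfsg.Agent.UGT.C.BalON Cfsg.Agent.UGT.C.BalONInv Cfsg.Agent.UGT.C.BalONTab
open Cfsg.Agent.UGT.C.PcTab

universe u

theorem cnt_ge (S : Finset ℕ) (u : ℕ) (hS : ∀ x ∈ S, mu u (be x) = mu x u) :
    ∀ n ≤ 512, (S.filter (· < n)).card ≤ cnt u n := by
  intro n
  induction n with
  | zero => intro _; simp
  | succ n ih =>
    intro hn
    have h1 := ih (by omega)
    have h2 : S.filter (· < n + 1) ⊆ insert n (S.filter (· < n)) := by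
      intro x hx
      rw [Finset.mem_filter] at hx
      rw [Finset.mem_insert, Finset.mem_filter]
      by_cases h : x = n
      · exact Or.inl h
      · exact Or.inr ⟨hx.1, by omega⟩
    by_cases hm : n ∈ S
    · have h3 : Nat.beq (mu u (bp n)) (mu n u) = true := by
        rw [← bp_ok n (by omega)]
        rw [Nat.beq_eq]
        exact hS n hm
      have h4 : cnt u (n + 1) = cnt u n + 1 := by
        rw [cnt, h3]
        rfl
      rw [h4]
      have h5 := (Finset.card_le_card h2).trans (Finset.card_insert_le _ _)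
      omega
    · have h2' : S.filter (· < n + 1) ⊆ S.filter (· < n) := by
        intro x hx
        rw [Finset.mem_filter] at hx ⊢
        refine ⟨hx.1, ?_⟩
        have : x ≠ n := fun h => hm (h ▸ hx.1)
        omega
      have h4 : cnt u n ≤ cnt u (n + 1) := by
        rw [cnt]
        cases Nat.beq (mu u (bp n)) (mu n u)
        · exact le_rfl
        · exact Nat.le_succ _
      exact ((Finset.card_le_card h2').trans h1).trans h4

theorem not_dvd (hON : IsON ON) {σ : MulAut ON} (hσ : orderOf σ = 2) (hout : ¬ ∃ g, σ = MulAut.conj g) :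
    ¬ 2 ^ 4 ∣ Nat.card ↥(fixedSubgroup σ) := by
  have hfin := Cfsg.Agent.ONType.RepCent.finite_of_isON hON
  have hs := hON.1
  have hσσ : σ * σ = 1 := by rw [← pow_two, ← hσ, pow_orderOf_eq_one]
  obtain ⟨x, hx | hx⟩ := out' hON σ
  · exact absurd ⟨x, hx⟩ hout
  obtain ⟨P, hP⟩ := Cfsg.Agent.Schreier.ONTr.exists_sylow hON
  have hfact : Fact (Nat.Prime 2) := ⟨Nat.prime_two⟩
  obtain ⟨y, h1, h2⟩ := exists_conj hσσ P
  intro h16
  have h3 := h2 4 h16
  obtain ⟨u, hu⟩ : ∃ u, u = y * x * bt hON y⁻¹ := ⟨_, rfl⟩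
  have key : ∀ z, (MulAut.conj y * σ * (MulAut.conj y)⁻¹) z = u * bt hON z * u⁻¹ := by
    intro z
    rw [hx, ← map_inv]
    change y * (x * bt hON (y⁻¹ * z * y⁻¹⁻¹) * x⁻¹) * y⁻¹ = _
    rw [hu]
    simp only [map_mul, map_inv]
    group
  have hPT : ∀ z, z ∈ P ↔ z ∈ T := by
    intro z
    change z ∈ (P : Subgroup ON) ↔ z ∈ T
    rw [hP]
  have huT : u ∈ T := by
    apply norm_T hON
    intro t ht
    have h4 := key (bt hON t)
    rw [bt_bt'] at h4
    rw [← h4, ← hPT]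
    exact h1 _ ((hPT _).2 (bt_mem hON ht))
  have huu : u * bt hON u = 1 := by
    apply conj_inj hON
    rw [map_one]
    ext z
    show u * bt hON u * z * (u * bt hON u)⁻¹ = z
    have h4 : (MulAut.conj y * σ * (MulAut.conj y)⁻¹) * (MulAut.conj y * σ * (MulAut.conj y)⁻¹) = 1 := by
      have : (MulAut.conj y * σ * (MulAut.conj y)⁻¹) * (MulAut.conj y * σ * (MulAut.conj y)⁻¹) =
        MulAut.conj y * (σ * σ) * (MulAut.conj y)⁻¹ := by group
      rw [this, hσσ, mul_one, mul_inv_cancel]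
    have h5 := congrArg (fun f : MulAut ON => f z) h4
    change (MulAut.conj y * σ * (MulAut.conj y)⁻¹) ((MulAut.conj y * σ * (MulAut.conj y)⁻¹) z) = z at h5
    rw [key, key, map_mul, map_mul, bt_bt', map_inv] at h5
    calc u * bt hON u * z * (u * bt hON u)⁻¹ = u * (bt hON u * z * (bt hON u)⁻¹) * u⁻¹ := by group
      _ = z := h5
  obtain ⟨n, hn, rfl⟩ := exists_E hs huT
  have huu' := huu
  rw [bt_E, E_mul hs hn, ← E_zero] at huu'
  have h6 := E_inj hs (mu_lt hs hn _) (by norm_num) huu'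
  -- the codes of the fixed elements
  let I : Set ℕ := {c | c < 512 ∧ E c ∈ (P : Subgroup ON) ⊓ fixedSubgroup (MulAut.conj y * σ * (MulAut.conj y)⁻¹)}
  have hI : I.Finite := (Set.finite_lt_nat 512).subset fun c hc => hc.1
  have hcard : Nat.card ↥((P : Subgroup ON) ⊓ fixedSubgroup (MulAut.conj y * σ * (MulAut.conj y)⁻¹)) ≤
      hI.toFinset.card := by
    have h7 : Nat.card ↥((P : Subgroup ON) ⊓ fixedSubgroup (MulAut.conj y * σ * (MulAut.conj y)⁻¹)) =
        (E '' I).ncard := by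
      rw [← Nat.card_coe_set_eq]
      congr 2
      ext z
      constructor
      · intro hz
        obtain ⟨c, hc, rfl⟩ := exists_E hs ((hPT z).1 hz.1)
        exact ⟨c, ⟨hc, hz⟩, rfl⟩
      · rintro ⟨c, hc, rfl⟩
        exact hc.2
    rw [h7, ← Set.ncard_eq_toFinset_card _ hI]
    exact Set.ncard_image_le hI
  have h8 := cnt_ge hI.toFinset n (fun c hc => by
    rw [Set.Finite.mem_toFinset] at hc
    have h9 : (MulAut.conj y * σ * (MulAut.conj y)⁻¹) (E c) = E c := hc.2.2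
    rw [key, bt_E, mul_inv_eq_iff_eq_mul, E_mul hs hn, E_mul hs hc.1] at h9
    exact E_inj hs (mu_lt hs hn _) (mu_lt hs hc.1 _) h9) 512 le_rfl
  have h9 : (hI.toFinset.filter (· < 512)) = hI.toFinset := by
    apply Finset.filter_true_of_mem
    intro c hc
    rw [Set.Finite.mem_toFinset] at hc
    exact hc.1
  rw [h9] at h8
  have h10 : n ∈ us := by
    have := us_ok n hn h6
    simpa using this
  have h11 := List.all_eq_true.1 cnt_ok n h10
  have h12 : cnt n 512 ≤ 8 := Nat.le_of_ble_eq_true h11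
  have h13 : 0 < Nat.card ↥((P : Subgroup ON) ⊓ fixedSubgroup (MulAut.conj y * σ * (MulAut.conj y)⁻¹)) :=
    Nat.card_pos
  have h14 := Nat.le_of_dvd h13 h3
  omega

/-- **`16` does not divide the orders of the components** -/
theorem outCard {X : Type u} [Group X] (h : Spor.IsoON X) :
    OutCard (fun n _ => n ∣ 460815505920 ∧ ¬ 16 ∣ n) X := by
  obtain ⟨f⟩ := h
  refine OutCard.of_equiv f.symm fun x hx hout K _ => ?_
  have h1 : Nat.card ↥K ∣ Nat.card ↥(fixedSubgroup x) := card_subgroup_dvd_card K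
  have h2 : Nat.card ON = 460815505920 := by
    have := Cfsg.Agent.KFacts.ON.Cent.hON.1
    have := Cfsg.Agent.ONType.RepCent.finite_of_isON Cfsg.Agent.KFacts.ON.Cent.hON
    exact NotCT.Orders.on ⟨MulEquiv.refl _⟩
  refine ⟨(h1.trans (card_subgroup_dvd_card _)).trans (by rw [h2]), fun h16 => ?_⟩
  exact not_dvd Cfsg.Agent.KFacts.ON.Cent.hON hx hout ((show 2 ^ 4 = 16 by norm_num) ▸ h16.trans h1)

end Cfsg.Agent.H287.OutON
end

private theorem dce_8fabdb8df2bb : _root_.True := by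
  try have : _root_.True := by simp only [_root_.Cfsg.Agent.H287.OutON.cnt.eq_def]
  try have : _root_.True := by simp only [_root_.Cfsg.Agent.H287.OutON.cnt.eq_1]
  try have : _root_.True := by simp only [_root_.Cfsg.Agent.H287.OutON.cnt.eq_2]
  exact _root_.True.intro
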